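import Cfsg.Agent.Lib.DegreePSubTwo.Structure
import Cfsg.Agent.Lib.Char.PermChar
import Cfsg.Agent.Lib.Char.Linear
import Cfsg.Agent.Lib.CharInt.Kazarin
import Cfsg.Agent.Lib.Transfer.Burnside
import Cfsg.Agent.Lib.Perm.Basic

/-!
# Simple transitive groups of degree `3p` with `|N(P)| = 2p`: first facts

`|P| = p`, `P` is self-centralising with automiser of order 2, and the non-trivial elements of
`P` fix no point.
-/

set_option autoImplicit false
set_option linter.style.haveILetI false
set_option linter.unusedSectionVars false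

namespace Cfsg.Agent.DegreeThreeP

open Cfsg Cfsg.Agent MulAction
open scoped ComplexConjugate Classical

universe u v

variable {G : Type u} [Group G] [Fintype G] [IsSimpleGroup G] {α : Type v} [MulAction G α]
  [Finite α] [IsPretransitive G α] {p : ℕ} [hp : Fact p.Prime]

variable (hα : Nat.card α = 3 * p) (hp3 : 3 < p) (hnc : ¬ IsMulCommutative G) (P : Sylow p G)
  (hN : Nat.card (Subgroup.normalizer ((P : Subgroup G) : Set G)) = 2 * p)

include hα in
theorem nonempty_of_card : Nonempty α :=
  (Nat.card_pos_iff.1 (by rw [hα]; have := hp.out.pos; omega)).1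

include hp3 in
theorem five_le : 5 ≤ p := by
  have : p ≠ 4 := fun h => absurd hp.out (by rw [h]; norm_num)
  omega

include hα in
theorem degree_dvd_card : 3 * p ∣ Nat.card G := by
  obtain ⟨a⟩ := nonempty_of_card (α := α) hα
  rw [← hα, ← index_stabilizer_of_transitive G a]
  exact Subgroup.index_dvd_card _

include hα hp3 hN in
theorem card_sylow_eq : Nat.card P = p := by
  have hdvd : p ∣ Nat.card G := (dvd_mul_left p 3).trans (degree_dvd_card (α := α) hα)
  have h1 : Nat.card (P : Subgroup G) ∣ 2 * p := hN ▸ Subgroup.card_dvd_of_le Subgroup.le_normalizer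
  obtain ⟨k, hk⟩ := IsPGroup.iff_card.1 P.isPGroup'
  have hk' : Nat.card (P : Subgroup G) = p ^ k := hk
  have hP0 : p ∣ p ^ k := hk' ▸ P.dvd_card_of_dvd_card hdvd
  rcases k with _ | _ | k
  · exact absurd hP0 (by simpa using hp.out.not_dvd_one)
  · simpa using hk'
  · exfalso
    have h2 : p * p ∣ 2 * p := by
      rw [← pow_two]; exact (pow_dvd_pow p (by omega)).trans (hk' ▸ h1)
    have h3 := Nat.le_of_dvd two_pos (Nat.dvd_of_mul_dvd_mul_right hp.out.pos h2)
    omega

include hα hp3 hN in
theorem not_pow_two_dvd : ¬ p ^ 2 ∣ Nat.card G := by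
  intro h2
  have h3 := (hp.out.pow_dvd_iff_le_factorization Nat.card_pos.ne').1 h2
  have h4 := P.card_eq_multiplicity
  rw [card_sylow_eq (α := α) hα hp3 P hN] at h4
  have := Nat.pow_right_injective hp.out.two_le ((pow_one p).trans h4)
  omega

include hα hp3 hnc hN in
theorem relIndex_eq_two_aux :
    Subgroup.centralizer ((P : Subgroup G) : Set G) = (P : Subgroup G) ∧
      (Subgroup.centralizer ((P : Subgroup G) : Set G)).relIndex
        (Subgroup.normalizer ((P : Subgroup G) : Set G)) = 2 := by
  have hP : Nat.card (P : Subgroup G) = p := card_sylow_eq (α := α) hα hp3 P hN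
  set C := Subgroup.centralizer ((P : Subgroup G) : Set G)
  set N := Subgroup.normalizer ((P : Subgroup G) : Set G)
  haveI : IsCyclic (P : Subgroup G) := isCyclic_of_prime_card hP
  have hcomm : ∀ a b : G, a ∈ (P : Subgroup G) → b ∈ (P : Subgroup G) → a * b = b * a :=
    fun a b ha hb => by
      have := (IsCyclic.commGroup (α := (P : Subgroup G))).mul_comm ⟨a, ha⟩ ⟨b, hb⟩
      exact congrArg Subtype.val this
  have hPC : (P : Subgroup G) ≤ C := fun a ha => Subgroup.mem_centralizer_iff.2 fun b hb =>
    hcomm b a hb ha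
  have hCN : C ≤ N := Subgroup.centralizer_le_normalizer _
  have hne : C ≠ N := by
    intro h
    obtain ⟨Q, K, hK, hKQ⟩ :=
      Agent.Transfer.hasNormalPComplement_of_normalizer_le_centralizer P h.ge
    haveI := hK
    have hQ : Nat.card (Q : Subgroup G) = p := by
      rw [Q.card_eq_multiplicity, ← P.card_eq_multiplicity]; exact hP
    have hmul := hKQ.card_mul_card
    rw [hQ] at hmul
    rcases IsSimpleGroup.eq_bot_or_eq_top_of_normal K hK with hK1 | hK1
    · rw [hK1, Subgroup.card_bot, one_mul] at hmul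
      have h1 : 3 * p ∣ p := by
        have := degree_dvd_card (G := G) (α := α) hα
        rwa [← hmul] at this
      have := Nat.le_of_dvd hp.out.pos h1
      omega
    · rw [hK1, Subgroup.card_top] at hmul
      have : p = 1 := Nat.eq_of_mul_eq_mul_left (Nat.card_pos (α := G))
        (hmul.trans (mul_one _).symm)
      omega
  have hCcard : Nat.card C = p := by
    have h1 : Nat.card C ∣ 2 * p := hN ▸ Subgroup.card_dvd_of_le hCN
    have h2 : p ∣ Nat.card C := hP ▸ Subgroup.card_dvd_of_le hPC
    obtain ⟨c, hc⟩ := h2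
    rw [hc, mul_comm 2 p] at h1
    rcases (Nat.dvd_prime Nat.prime_two).1 (Nat.dvd_of_mul_dvd_mul_left hp.out.pos h1) with h | h
    · rw [hc, h, mul_one]
    · exact absurd (Subgroup.eq_of_le_of_card_ge hCN (by rw [hN, hc, h, mul_comm])) hne
  refine ⟨(Subgroup.eq_of_le_of_card_ge hPC (by rw [hCcard, hP])).symm, ?_⟩
  have h1 := Subgroup.card_mul_index (C.subgroupOf N)
  rw [Nat.card_congr (Subgroup.subgroupOfEquivOfLe hCN).toEquiv, hCcard, hN, mul_comm 2 p] at h1
  exact Nat.eq_of_mul_eq_mul_left hp.out.pos h1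

include hα hp3 hnc hN in
theorem selfCent : DefectOne.SelfCent P :=
  ⟨card_sylow_eq (α := α) hα hp3 P hN, (relIndex_eq_two_aux (α := α) hα hp3 hnc P hN).1⟩

include hα hp3 hN in
theorem fixedBy_empty {u : G} (hu : u ∈ (P : Subgroup G)) (hu1 : u ≠ 1) :
    Nat.card (fixedBy α u) = 0 := by
  haveI : IsEmpty (fixedBy α u) := ⟨fun ⟨a, ha⟩ => not_pow_two_dvd (α := α) hα hp3 P hN (by
    have hP := card_sylow_eq (α := α) hα hp3 P hN
    have ho : orderOf u = p := ((Nat.dvd_prime hp.out).1
      (hP ▸ Subgroup.orderOf_dvd_natCard _ hu)).resolve_left fun h => hu1 (orderOf_eq_one_iff.1 h)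
    have hd : p ∣ Nat.card (stabilizer G a) :=
      ho ▸ Subgroup.orderOf_dvd_natCard _ (MulAction.mem_stabilizer_iff.2 ha)
    rw [← Perm.card_mul_card_stabilizer (G := G) a, hα, pow_two, mul_assoc]
    exact (Nat.mul_dvd_mul_left p hd).trans (dvd_mul_left _ 3))⟩
  exact Nat.card_of_isEmpty

include hnc in
/-- The only linear character is the trivial one. -/
theorem linear_trivial {χ : IrrCharacter G} (h : Char.degree χ = 1) :
    χ = Char.trivialChar G := by
  have h1 : χ.1 1 = 1 := by rw [Char.apply_one_eq_degree, h, Nat.cast_one]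
  obtain ⟨lam, hl⟩ := Char.IsCharacter.exists_monoidHom (Char.irr_isCharacter χ) h1
  rcases IsSimpleGroup.eq_bot_or_eq_top_of_normal lam.ker inferInstance with hk | hk
  · refine absurd ⟨⟨fun a b => (MonoidHom.ker_eq_bot_iff (f := lam.toHomUnits)).1 ?_ ?_⟩⟩ hnc
    · rw [← hk]
      ext x
      simp [MonoidHom.mem_ker, Units.ext_iff]
    · rw [map_mul, map_mul, mul_comm]
  · refine Subtype.ext (funext fun g => ?_)
    rw [← hl, Char.trivialChar_apply]
    exact MonoidHom.mem_ker.1 (hk ▸ Subgroup.mem_top g)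

include hnc in
theorem two_le_degree {χ : IrrCharacter G} (h : χ ≠ Char.trivialChar G) : 2 ≤ Char.degree χ := by
  have := Char.degree_pos χ
  by_contra hcon
  exact h (linear_trivial hnc (by omega))

/-- A non-trivial irreducible character of a simple group is faithful. -/
theorem faithful {θ : IrrCharacter G} (hθ : θ ≠ Char.trivialChar G) :
    ∀ g : G, θ.1 g = θ.1 1 → g = 1 := by
  haveI := CharInt.charKernel_normal (Char.irr_isCharacter θ)
  intro g hg
  rcases IsSimpleGroup.eq_bot_or_eq_top_of_normal (CharInt.charKernel (Char.irr_isCharacter θ))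
    inferInstance with hk | hk
  · have : g ∈ CharInt.charKernel (Char.irr_isCharacter θ) := (CharInt.mem_charKernel _).2 hg
    rw [hk] at this
    exact this
  · exfalso
    have h := Char.classInner_irr_of_ne θ.2 (Char.trivialChar G).2 (fun e => hθ (Subtype.ext e))
    have hall : ∀ x : G, θ.1 x = θ.1 1 := fun x =>
      (CharInt.mem_charKernel _).1 (hk ▸ Subgroup.mem_top x)
    simp only [classInner, Char.trivialChar_apply, map_one, mul_one, hall, Finset.sum_const,
      Finset.card_univ, nsmul_eq_mul] at h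
    rw [Char.apply_one_eq_degree] at h
    have := Char.degree_pos θ
    simp [Fintype.card_ne_zero, this.ne'] at h

variable (α) in
/-- The permutation character vanishes off the `p`-regular elements. -/
theorem fixedBy_eq_zero_of_not_regular (hα : Nat.card α = 3 * p) (hp3 : 3 < p)
    (hnc : ¬ IsMulCommutative G)
    (hN : Nat.card (Subgroup.normalizer ((P : Subgroup G) : Set G)) = 2 * p)
    {g : G} (hg : ¬ IsPRegular p g) : Nat.card (fixedBy α g) = 0 := by
  obtain ⟨x, hx, hx1⟩ := DegreePSubTwo.exists_conj_mem (selfCent (α := α) hα hp3 hnc P hN) hg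
  have h0 := fixedBy_empty (α := α) hα hp3 P hN hx hx1
  rw [← h0]
  refine Nat.card_congr ⟨fun a => ⟨x⁻¹ • (a : α), ?_⟩, fun b => ⟨x • (b : α), ?_⟩, ?_, ?_⟩
  · show (x⁻¹ * g * x) • (x⁻¹ • (a : α)) = x⁻¹ • (a : α)
    rw [mul_smul, smul_inv_smul, mul_smul, (a.2 : g • (a : α) = a)]
  · show g • x • (b : α) = x • (b : α)
    have h1 : (x⁻¹ * g * x) • (b : α) = b := b.2
    rw [mul_smul, mul_smul, inv_smul_eq_iff] at h1
    exact h1
  · intro a; exact Subtype.ext (by simp)
  · intro b; exact Subtype.ext (by simp)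

end Cfsg.Agent.DegreeThreeP
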