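import Cfsg.Agent.Lib.DegreePSubTwo.Structure
import Cfsg.Agent.Lib.Char.RealChar

/-!
# The principal block at a self-centralising subgroup of order `p` with automiser of order 2

The block consists of `1`, a character `χ` equal to `e = ±1` on `P - 1` and `(p - 1) / 2`
exceptional characters `θ` with `ε θ = 1 + e χ` on `p`-regular elements.
-/

set_option autoImplicit false
set_option linter.style.haveILetI false
set_option linter.unusedSectionVars false

namespace Cfsg.Agent.DegreeThreeP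

open Cfsg Cfsg.Agent
open scoped ComplexConjugate Classical

universe u

variable {G : Type u} [Group G] [Fintype G] {p : ℕ} [hp : Fact p.Prime]

/-- The block data. -/
structure Blk (P : Sylow p G) where
  sc : DefectOne.SelfCent P
  five : 5 ≤ p
  t : ℕ
  ht : 2 * t + 1 = p
  χ : IrrCharacter G
  Y : Finset (IrrCharacter G)
  e : ℤ
  ε : ℤ
  he : e = 1 ∨ e = -1
  hε : ε = 1 ∨ ε = -1
  card_Y : Y.card = t
  val_χ : ∀ y ∈ (P : Subgroup G), y ≠ 1 → χ.1 y = e
  sum_Y : ∀ y ∈ (P : Subgroup G), y ≠ 1 → ∑ θ ∈ Y, θ.1 y = -(ε : ℂ)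
  sum_Y_sq : ∀ y ∈ (P : Subgroup G), y ≠ 1 →
    ∑ θ ∈ Y, θ.1 y * conj (θ.1 y) = ((p - 2 : ℕ) : ℂ)
  regular : ∀ θ ∈ Y, ∀ g, IsPRegular p g → (ε : ℂ) * θ.1 g = 1 + (e : ℂ) * χ.1 g
  vanish : ∀ ψ : IrrCharacter G, ψ ≠ Char.trivialChar G → ψ ≠ χ → ψ ∉ Y →
    ∀ y ∈ (P : Subgroup G), y ≠ 1 → ψ.1 y = 0
  dvd : ∀ ψ : IrrCharacter G, ψ ≠ Char.trivialChar G → ψ ≠ χ → ψ ∉ Y → p ∣ Char.degree ψ
  χ_ne : χ ≠ Char.trivialChar G
  χ_notMem : χ ∉ Y
  triv_notMem : Char.trivialChar G ∉ Y
  χ_mod : (Char.degree χ : ℤ) ≡ e [ZMOD p]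
  Y_mod : ∀ θ ∈ Y, (Char.degree θ : ℤ) ≡ 2 * ε [ZMOD p]
  inv : ∀ y ∈ (P : Subgroup G), IsConj y y⁻¹

variable {P : Sylow p G}

/-- The regular element `1`. -/
theorem isPRegular_one : IsPRegular p (1 : G) := by simp [IsPRegular, hp.out.ne_one]

theorem Blk.degree_rel (B : Blk P) {θ : IrrCharacter G} (hθ : θ ∈ B.Y) :
    B.ε * (Char.degree θ : ℤ) = 1 + B.e * (Char.degree B.χ : ℤ) := by
  have h1 := B.regular θ hθ 1 isPRegular_one
  rw [Char.apply_one_eq_degree, Char.apply_one_eq_degree] at h1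
  exact_mod_cast h1

theorem Blk.Y_nonempty (B : Blk P) : B.Y.Nonempty := by
  refine Finset.card_pos.1 ?_
  rw [B.card_Y]
  have := B.five; have := B.ht
  omega

theorem Blk.exists_ne_one (B : Blk P) : ∃ y ∈ (P : Subgroup G), y ≠ 1 := by
  haveI : Nontrivial (P : Subgroup G) :=
    Finite.one_lt_card_iff_nontrivial.1 (hp.out.one_lt.trans_le B.sc.card.ge)
  obtain ⟨y, hy⟩ := exists_ne (1 : (P : Subgroup G))
  exact ⟨y, y.2, fun h => hy (Subtype.ext h)⟩

/-- Existence of the block data. -/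
theorem exists_blk (sc : DefectOne.SelfCent P) (h5 : 5 ≤ p)
    (hidx : (Subgroup.centralizer ((P : Subgroup G) : Set G)).relIndex
      (Subgroup.normalizer ((P : Subgroup G) : Set G)) = 2) : Nonempty (Blk P) := by
  obtain ⟨M, hM⟩ := CharInt.exists_isPModular_of_prime hp.out
  haveI := hM.2.1
  have hpM : (p : AlgInt) ∈ M := by exact_mod_cast hM.2.2
  obtain ⟨S⟩ := DefectOne.primeShape (P := P) hpM sc.card hidx
  set T := Char.trivialChar G with hTdef
  have hT : T ∈ S.X := by
    refine (S.mem_XY Blocks.trivial_mem_principalBlock).resolve_right fun hY => ?_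
    have h1 := (S.Y_deg' hY).symm.dvd
    rw [DegreePSubTwo.degree_trivial] at h1
    push_cast at h1
    rcases S.hε with e | e <;> rw [e] at h1 <;> norm_num at h1
    · exact absurd (Int.natCast_dvd_natCast.1 (show (p : ℤ) ∣ ((1 : ℕ) : ℤ) by
        simpa using (dvd_neg.2 h1))) (by simp [hp.out.ne_one])
    · exact absurd (Nat.le_of_dvd (by norm_num) (Int.natCast_dvd_natCast.1
        (show (p : ℤ) ∣ ((3 : ℕ) : ℤ) by simpa using h1))) (by omega)
  obtain ⟨y₀, hy₀⟩ : ∃ y : (P : Subgroup G), y ≠ 1 := by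
    haveI : Nontrivial (P : Subgroup G) :=
      Finite.one_lt_card_iff_nontrivial.1 (hp.out.one_lt.trans_le sc.card.ge)
    exact exists_ne 1
  have hTε : S.εX T = 1 := by
    have h1 := S.X_val _ hT y₀ hy₀
    rw [hTdef, Char.trivialChar_apply] at h1
    exact_mod_cast h1.symm
  obtain ⟨χ, hχ⟩ : ∃ χ, S.X.erase T = {χ} :=
    Finset.card_eq_one.1 (by rw [Finset.card_erase_of_mem hT, S.cardX])
  have hχmem : χ ∈ S.X ∧ χ ≠ T := by
    have : χ ∈ S.X.erase T := by rw [hχ]; exact Finset.mem_singleton_self χ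
    exact ⟨Finset.mem_of_mem_erase this, Finset.ne_of_mem_erase this⟩
  have hout : ∀ ψ : IrrCharacter G, ψ ≠ T → ψ ≠ χ → ψ ∉ S.Y → ψ ∉ principalBlock M G := by
    intro ψ hψT hψχ hψY hB
    rcases S.mem_XY hB with h | h
    · have : ψ ∈ S.X.erase T := Finset.mem_erase.2 ⟨hψT, h⟩
      rw [hχ, Finset.mem_singleton] at this
      exact hψχ this
    · exact hψY h
  have hodd := hp.out.odd_of_ne_two (by omega)
  refine ⟨{ sc := sc, five := h5, t := (p - 1) / 2, ht := ?_, χ := χ, Y := S.Y, e := S.εX χ,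
            ε := S.ε, he := S.hεX χ hχmem.1, hε := S.hε, card_Y := S.cardY,
            val_χ := fun y hy hy1 => S.X_val χ hχmem.1 ⟨y, hy⟩ fun e => hy1 (congrArg Subtype.val e),
            sum_Y := ?_, sum_Y_sq := ?_, regular := ?_,
            vanish := fun ψ a b c y hy hy1 => sc.vanish hpM (hout ψ a b c) hy hy1,
            dvd := fun ψ a b c => sc.dvd_degree hpM (hout ψ a b c),
            χ_ne := hχmem.2, χ_notMem := Finset.disjoint_left.1 S.disj hχmem.1,
            triv_notMem := Finset.disjoint_left.1 S.disj hT, χ_mod := S.X_deg' hχmem.1, Y_mod := ?_,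
            inv := fun y hy => DegreePSubTwo.isConj_inv sc hidx hy }⟩
  · obtain ⟨k, hk⟩ := hodd
    omega
  · intro y hy hy1
    refine sc.sum_Y hpM S ?_ hy hy1
    refine Finset.card_pos.1 ?_
    rw [S.cardY]
    omega
  · intro y hy hy1
    have h1 := sc.sum_Y_sq hpM S hy hy1
    rw [Nat.cast_sub (show 2 ≤ p by omega)]
    push_cast at h1 ⊢
    linear_combination h1
  · intro θ hθ g hg
    have h1 := S.relation θ hθ g hg
    rw [← Finset.add_sum_erase _ _ hT, hχ, Finset.sum_singleton, hTε,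
      Char.trivialChar_apply] at h1
    push_cast at h1
    linear_combination h1
  · intro θ hθ
    have h1 := S.Y_deg' hθ
    push_cast at h1
    rw [mul_comm]
    exact h1

theorem Blk.agree (B : Blk P) {θ θ' : IrrCharacter G} (hθ : θ ∈ B.Y) (hθ' : θ' ∈ B.Y) {g : G}
    (hg : IsPRegular p g) : θ.1 g = θ'.1 g := by
  have h1 := B.regular θ hθ g hg
  rw [← B.regular θ' hθ' g hg] at h1
  exact mul_left_cancel₀ (by rcases B.hε with e | e <;> simp [e]) h1

theorem Blk.degree_eq (B : Blk P) {θ θ' : IrrCharacter G} (hθ : θ ∈ B.Y) (hθ' : θ' ∈ B.Y) :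
    Char.degree θ = Char.degree θ' := by
  have h := B.agree hθ hθ' isPRegular_one
  rw [Char.apply_one_eq_degree, Char.apply_one_eq_degree] at h
  exact_mod_cast h

/-- A sum over the irreducible characters of a quantity vanishing outside the block. -/
theorem Blk.sum_irr (B : Blk P) {f : IrrCharacter G → ℂ}
    (h0 : ∀ ψ, ψ ≠ Char.trivialChar G → ψ ≠ B.χ → ψ ∉ B.Y → f ψ = 0) :
    ∑ ψ, f ψ = f (Char.trivialChar G) + f B.χ + ∑ θ ∈ B.Y, f θ := by
  rw [← Finset.sum_subset (Finset.subset_univ (insert (Char.trivialChar G) (insert B.χ B.Y)))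
    fun ψ _ hψ => by
      simp only [Finset.mem_insert, not_or] at hψ
      exact h0 ψ hψ.1 hψ.2.1 hψ.2.2,
    Finset.sum_insert (by simp [B.triv_notMem, B.χ_ne.symm]), Finset.sum_insert B.χ_notMem,
    add_assoc]

/-- Every character is real at the elements of `P`. -/
theorem Blk.conj_of_mem (B : Blk P) {F : G → ℂ} (hF : IsCharacter G F) {y : G}
    (hy : y ∈ (P : Subgroup G)) : conj (F y) = F y := by
  rw [← CharInt.char_inv hF y]
  exact (Char.IsClassFunction.apply_of_isConj (Char.IsCharacter.isClassFunction hF) (B.inv y hy)).symm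

/-- Every character is real off the `p`-regular elements. -/
theorem Blk.conj_of_not_regular (B : Blk P) {F : G → ℂ} (hF : IsCharacter G F) {g : G}
    (hg : ¬ IsPRegular p g) : conj (F g) = F g := by
  obtain ⟨x, hx, -⟩ := DegreePSubTwo.exists_conj_mem B.sc hg
  have h1 : F g = F (x⁻¹ * g * x) := Char.IsClassFunction.apply_of_isConj
    (Char.IsCharacter.isClassFunction hF) (isConj_iff.2 ⟨x⁻¹, by group⟩)
  rw [h1]
  exact B.conj_of_mem hF hx

/-- The non-exceptional character is real when its degree differs from the exceptional one. -/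
theorem Blk.χ_real (B : Blk P) (h : ∀ θ ∈ B.Y, Char.degree θ ≠ Char.degree B.χ) (g : G) :
    conj (B.χ.1 g) = B.χ.1 g := by
  set χ' := Char.conjIrr B.χ with hχ'
  have hT : χ' ≠ Char.trivialChar G := fun e => B.χ_ne (by
    have := congrArg Char.conjIrr e
    rw [hχ', Char.conjIrr_conjIrr] at this
    rw [this]
    exact Subtype.ext (funext fun x => by simp [Char.trivialChar_apply]))
  have hd : Char.degree χ' = Char.degree B.χ := by
    have h1 := Char.apply_one_eq_degree χ'
    rw [hχ', Char.conjIrr_apply, Char.apply_one_eq_degree, Complex.conj_natCast] at h1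
    exact_mod_cast h1.symm
  by_cases he : χ' = B.χ
  · have := congrArg (fun ψ : IrrCharacter G => ψ.1 g) he
    simpa [hχ'] using this
  by_cases hY : χ' ∈ B.Y
  · exact absurd hd (h χ' hY)
  exfalso
  obtain ⟨y, hy, hy1⟩ := B.exists_ne_one
  have h0 := B.vanish χ' hT he hY y hy hy1
  rw [hχ', Char.conjIrr_apply, B.val_χ y hy hy1] at h0
  rcases B.he with e | e <;> rw [e] at h0 <;> norm_num at h0

/-- The exceptional characters are real when `χ` is. -/
theorem Blk.Y_real (B : Blk P) (hχ : ∀ g, conj (B.χ.1 g) = B.χ.1 g) {θ : IrrCharacter G}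
    (hθ : θ ∈ B.Y) (g : G) : conj (θ.1 g) = θ.1 g := by
  by_cases hg : IsPRegular p g
  · have h1 := B.regular θ hθ g hg
    have h2 := congrArg conj h1
    rw [map_mul, map_add, map_mul, map_one, map_intCast, map_intCast, hχ, ← h1] at h2
    exact mul_left_cancel₀ (by rcases B.hε with e | e <;> simp [e]) h2
  · exact B.conj_of_not_regular (Char.irr_isCharacter θ) hg

end Cfsg.Agent.DegreeThreeP
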