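import Cfsg.Agent.Lib.DegreeThreeP.Basic
import Cfsg.Agent.Lib.BrauerPSL.Recognition
import Cfsg.Agent.Lib.Perm.Basic

/-!
# Degree `3p` with an exceptional character of degree `p - 2`: `PSL₂(2^m)`, imprimitive

A point stabilizer contains a Sylow 2-subgroup `U`, normalizes it, and is smaller than `N(U)`.
-/

set_option autoImplicit false
set_option linter.style.haveILetI false
set_option linter.unusedSectionVars false

namespace Cfsg.Agent.DegreeThreeP

open Cfsg Cfsg.Agent MulAction
open scoped ComplexConjugate Classical Pointwise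

universe u v

variable {G : Type u} [Group G] [Fintype G] [IsSimpleGroup G] {α : Type v} [MulAction G α]
  [Finite α] [IsPretransitive G α] {p : ℕ} [hp : Fact p.Prime]

variable (hα : Nat.card α = 3 * p) (hp3 : 3 < p) (hnc : ¬ IsMulCommutative G) (P : Sylow p G)
  (hN : Nat.card (Subgroup.normalizer ((P : Subgroup G) : Set G)) = 2 * p)

include hα hp3 in
/-- With the order `p (p - 1)(p - 2)` and elementary abelian centralisers of involutions the action
is imprimitive. -/
theorem not_preprimitive (hG : Nat.card G = p * ((p - 1) * (p - 2))) {e : ℕ} (he : p - 1 = 2 ^ e)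
    (hinv : ∀ z : G, orderOf z = 2 → Nat.card (Subgroup.centralizer ({z} : Set G)) = p - 1 ∧
      (∀ u ∈ Subgroup.centralizer ({z} : Set G), u * u = 1) ∧
      ∀ u : G, orderOf u = 2 → IsConj z u)
    (hsq : ∀ g : G, 2 ∣ orderOf g → g ^ 2 = 1) : ¬ IsPreprimitive G α := by
  haveI := nonempty_of_card (α := α) hα
  obtain ⟨a⟩ := ‹Nonempty α›
  intro hprim
  haveI : Nontrivial α := Finite.one_lt_card_iff_nontrivial.1 (by rw [hα]; omega)
  haveI : Fact (Nat.Prime 2) := ⟨Nat.prime_two⟩
  obtain ⟨q, hq⟩ : ∃ q, q = p - 1 := ⟨_, rfl⟩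
  have h5 := five_le (p := p) hp3
  rw [← hq] at he hinv
  set H := stabilizer G a with hHdef
  have hH : 3 * Nat.card H = q * (q - 1) := by
    have h1 := Perm.card_mul_card_stabilizer (G := G) a
    rw [hG, hα, ← hHdef] at h1
    refine Nat.eq_of_mul_eq_mul_left hp.out.pos ?_
    rw [hq, show p - 1 - 1 = p - 2 by omega, ← h1]
    ring
  have he0 : e ≠ 0 := fun h => by rw [h, pow_zero] at he; omega
  have hodd : ¬ 2 ∣ q - 1 := by
    intro hd
    have h2 : 2 ∣ q := he ▸ dvd_pow_self 2 he0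
    omega
  have hqH : q ∣ Nat.card H := by
    refine (Nat.Coprime.dvd_of_dvd_mul_left ?_ (hH.symm ▸ dvd_mul_right q (q - 1) : q ∣ 3 * Nat.card H))
    rw [he]
    exact Nat.Coprime.pow_left e (by norm_num)
  obtain ⟨m, hm⟩ := hqH
  have h3m : 3 * m = q - 1 := by
    rw [hm, mul_left_comm] at hH
    exact Nat.eq_of_mul_eq_mul_left (by omega) hH
  have hm0 : m ≠ 0 := fun h => by rw [h] at h3m; omega
  have hcardS : ∀ Q : Sylow 2 H, Nat.card (Q : Subgroup H) = q := fun Q => by
    rw [Q.card_eq_multiplicity, hm, he, Nat.factorization_mul (by positivity) hm0,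
      Finsupp.add_apply, Nat.Prime.factorization_pow Nat.prime_two, Finsupp.single_eq_same,
      Nat.factorization_eq_zero_of_not_dvd (fun h => hodd (h3m ▸ h.mul_left 3)), add_zero]
  -- every non-trivial element of a Sylow 2-subgroup has that subgroup as centraliser
  have hord : ∀ (Q : Sylow 2 H) (x : H), x ∈ (Q : Subgroup H) → x ≠ 1 → orderOf (x : G) = 2 := by
    intro Q x hx hx1
    have hg1 : (x : G) ≠ 1 := fun h => hx1 (Subtype.ext h)
    obtain ⟨j, -, hj⟩ := (Nat.dvd_prime_pow Nat.prime_two).1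
      (he ▸ hcardS Q ▸ Subgroup.orderOf_dvd_natCard (Q : Subgroup H) hx)
    rw [← Subgroup.orderOf_coe] at hj
    refine orderOf_eq_prime (hsq _ ?_) hg1
    rw [hj]
    exact dvd_pow_self 2 fun h0 => hg1 (orderOf_eq_one_iff.1 (by rw [hj, h0, pow_zero]))
  have hexp : ∀ (Q : Sylow 2 H) (x : H), x ∈ (Q : Subgroup H) → (x : G) * x = 1 := by
    intro Q x hx
    by_cases hx1 : x = 1
    · simp [hx1]
    · rw [← pow_two, ← hord Q x hx hx1, pow_orderOf_eq_one]
  have hcent : ∀ (Q : Sylow 2 H) (x : H), x ∈ (Q : Subgroup H) → x ≠ 1 →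
      (Q : Subgroup H).map H.subtype = Subgroup.centralizer ({(x : G)} : Set G) := by
    intro Q x hx hx1
    refine Subgroup.eq_of_le_of_card_ge ?_ ?_
    · rintro _ ⟨y, hy, rfl⟩
      rw [Subgroup.mem_centralizer_singleton_iff]
      have h1 := hexp Q _ hy
      have h2 := hexp Q _ hx
      have h3 := hexp Q _ (Subgroup.mul_mem _ hy hx)
      rw [Subgroup.coe_mul] at h3
      show (y : G) * x = x * y
      calc (y : G) * x = ((y : G) * x)⁻¹ := eq_inv_of_mul_eq_one_left h3
        _ = x * y := by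
          rw [mul_inv_rev, ← eq_inv_of_mul_eq_one_left h1, ← eq_inv_of_mul_eq_one_left h2]
    · rw [(hinv _ (hord Q x hx hx1)).1, Subgroup.card_map_of_injective H.subtype_injective,
        hcardS Q]
  -- the Sylow subgroup of the stabilizer is normal in it
  obtain ⟨Q⟩ := (inferInstance : Nonempty (Sylow 2 H))
  have hsub : ∀ V : Sylow 2 H, V = Q := by
    intro V
    by_contra hne
    have hinj : Function.Injective fun u : (Q : Subgroup H) => (u : H) • V := by
      intro u u' huu
      have huu' : (u : H) • V = (u' : H) • V := huu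
      have hN' : ((u : H)⁻¹ * u') ∈ Subgroup.normalizer (V : Set H) := by
        rw [← Sylow.smul_eq_iff_mem_normalizer, mul_smul, ← huu', inv_smul_smul]
      have hQ' : ((u : H)⁻¹ * u') ∈ (Q : Subgroup H) ⊓ Subgroup.normalizer (V : Set H) :=
        ⟨Subgroup.mul_mem _ (Subgroup.inv_mem _ u.2) u'.2, hN'⟩
      rw [Q.2.inf_normalizer_sylow V] at hQ'
      by_contra hneu
      have hw1 : ((u : H)⁻¹ * u') ≠ 1 := fun h => hneu (Subtype.ext (inv_mul_eq_one.1 h))
      have h1 := hcent Q _ hQ'.1 hw1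
      rw [← hcent V _ hQ'.2 hw1] at h1
      exact hne (Sylow.ext (Subgroup.map_injective H.subtype_injective h1)).symm
    have hle := Nat.card_le_card_of_injective _ hinj
    rw [hcardS Q] at hle
    have hidx : (Q : Subgroup H).index = m := by
      have h1 := Subgroup.card_mul_index (Q : Subgroup H)
      rw [hcardS Q, hm] at h1
      exact Nat.eq_of_mul_eq_mul_left (by omega) h1
    have h2 := Nat.le_of_dvd (Nat.pos_of_ne_zero hm0) (hidx ▸ Q.card_dvd_index)
    omega
  haveI : Subsingleton (Sylow 2 H) := ⟨fun V W => (hsub V).trans (hsub W).symm⟩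
  have hQn : (Q : Subgroup H).Normal := Sylow.normal_of_subsingleton Q
  set U := (Q : Subgroup H).map H.subtype with hU
  set N := Subgroup.normalizer (U : Set G) with hNdef
  have hHN : H ≤ N := by
    intro g hg
    rw [hNdef, Subgroup.mem_normalizer_iff]
    intro x
    constructor
    · rintro ⟨y, hy, rfl⟩
      exact ⟨⟨g, hg⟩ * y * ⟨g, hg⟩⁻¹, hQn.conj_mem y hy _, rfl⟩
    · rintro ⟨y, hy, hyx⟩
      refine ⟨⟨g, hg⟩⁻¹ * y * ⟨g, hg⟩⁻¹⁻¹, hQn.conj_mem y hy _, ?_⟩
      have hyx' : (y : G) = g * x * g⁻¹ := hyx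
      simp [hyx', mul_assoc]
  obtain ⟨z, hzQ, hz1⟩ : ∃ z ∈ (Q : Subgroup H), z ≠ 1 := by
    haveI : Nontrivial (Q : Subgroup H) :=
      Finite.one_lt_card_iff_nontrivial.1 (by rw [hcardS Q]; omega)
    obtain ⟨z, hz⟩ := exists_ne (1 : (Q : Subgroup H))
    exact ⟨z, z.2, fun h => hz (Subtype.ext h)⟩
  have hUz : U = Subgroup.centralizer ({(z : G)} : Set G) := hcent Q z hzQ hz1
  have hzo := hord Q z hzQ hz1
  have hUcard : Nat.card U = q := by rw [hU, Subgroup.card_map_of_injective H.subtype_injective, hcardS]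
  -- the normalizer is transitive on the involutions of `U`
  let I := {u : U // u ≠ 1}
  have hconj : ∀ u : I, ∃ g ∈ N, g * (z : G) * g⁻¹ = (u.1 : G) := by
    rintro ⟨⟨_, w, hw, rfl⟩, hu1⟩
    have hw1 : w ≠ 1 := fun h => hu1 (Subtype.ext (by simp [h]))
    obtain ⟨g, hg⟩ := isConj_iff.1 ((hinv _ hzo).2.2 _ (hord Q w hw hw1))
    refine ⟨g, ?_, hg⟩
    have hUw : U = Subgroup.centralizer ({(w : G)} : Set G) := hcent Q w hw hw1
    have key : ∀ x : G, Commute x (z : G) ↔ Commute (g * x * g⁻¹) (w : G) := fun x => by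
      rw [← hg]
      exact (commute_map_iff (MulAut.conj g).injective).symm
    rw [hNdef, Subgroup.mem_normalizer_iff]
    intro x
    nth_rewrite 1 [hUz]
    rw [hUw, Subgroup.mem_centralizer_singleton_iff, Subgroup.mem_centralizer_singleton_iff]
    exact key x
  choose g hgN hg using hconj
  have hcardN : q * (q - 1) ≤ Nat.card N := by
    let F : U × I → N := fun x => ⟨g x.2 * (x.1 : G), mul_mem (hgN _) (Subgroup.le_normalizer x.1.2)⟩
    have hF : Function.Injective F := by
      rintro ⟨v, u⟩ ⟨v', u'⟩ h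
      have h' : g u * (v : G) = g u' * (v' : G) := congrArg Subtype.val h
      have hvz : ∀ w : U, (w : G) * z * (w : G)⁻¹ = z := fun w => by
        have hw : (w : G) ∈ Subgroup.centralizer ({(z : G)} : Set G) := hUz ▸ w.2
        rw [Subgroup.mem_centralizer_singleton_iff] at hw
        rw [hw, mul_inv_cancel_right]
      have huu : u = u' := Subtype.ext (Subtype.ext (by
        rw [← hg u, ← hg u']
        conv_lhs => rw [← hvz v]
        conv_rhs => rw [← hvz v']
        calc g u * ((v : G) * z * (v : G)⁻¹) * (g u)⁻¹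
            = (g u * (v : G)) * z * (g u * (v : G))⁻¹ := by group
          _ = g u' * ((v' : G) * z * (v' : G)⁻¹) * (g u')⁻¹ := by rw [h']; group))
      subst huu
      exact Prod.ext (Subtype.ext (mul_left_cancel h')) rfl
    have h1 := Nat.card_le_card_of_injective F hF
    rw [Nat.card_prod, hUcard] at h1
    have hI : Nat.card I = q - 1 := by
      rw [Nat.card_eq_fintype_card, Fintype.card_subtype_compl, Fintype.card_subtype_eq,
        ← Nat.card_eq_fintype_card, hUcard]
    rwa [hI] at h1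
  have hlt : H < N := by
    refine lt_of_le_of_ne hHN fun h => ?_
    rw [← h] at hcardN
    have : 0 < q * (q - 1) := Nat.mul_pos (by omega) (by omega)
    omega
  have htop : N ≠ ⊤ := by
    intro h
    rcases IsSimpleGroup.eq_bot_or_eq_top_of_normal U (Subgroup.normalizer_eq_top_iff.1 h) with
      hb | hb
    · rw [hb, Subgroup.card_bot] at hUcard
      omega
    · rw [hb, Subgroup.card_top, hG] at hUcard
      have h2 : p * 1 ≤ p * ((p - 1) * (p - 2)) :=
        Nat.mul_le_mul_left p (Nat.mul_pos (by omega) (by omega))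
      omega
  exact htop (((MulAction.isCoatom_stabilizer_iff_preprimitive G a).2 hprim).2 N hlt)

include hα hp3 hnc hN in
/-- The imprimitive case. -/
theorem case_p_sub_two (θ₀ : IrrCharacter G) (hdeg : Char.degree θ₀ = p - 2) :
    ¬ IsPreprimitive G α ∧ ∃ (F : Type) (_ : Field F) (_ : Fintype F) (m : ℕ),
      Fintype.card F = 2 ^ m ∧ p = 2 ^ m + 1 ∧
      Nonempty (G ≃* Matrix.ProjectiveSpecialLinearGroup (Fin 2) F) := by
  have h5 := five_le (p := p) hp3
  obtain ⟨hC, hidx⟩ := relIndex_eq_two_aux (α := α) hα hp3 hnc P hN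
  obtain ⟨B⟩ := DegreePSubTwo.exists_block (selfCent (α := α) hα hp3 hnc P hN) h5 hidx θ₀ hdeg
  have hf := faithful (G := G) (θ := θ₀) fun e => B.triv_notMem (e ▸ B.θ₀_mem)
  obtain ⟨-, hG, hsq, hinv⟩ := B.structure_thm hf
  haveI : Fact (Nat.Prime 2) := ⟨Nat.prime_two⟩
  obtain ⟨s, hs⟩ : ∃ s : G, orderOf s = 2 := by
    refine exists_prime_orderOf_dvd_card' 2 ?_
    rw [hG]
    obtain ⟨k, hk⟩ := hp.out.odd_of_ne_two (by omega)
    exact Dvd.dvd.mul_left (Dvd.dvd.mul_right (show 2 ∣ p - 1 from ⟨k, by omega⟩) _) _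
  obtain ⟨hsC, hsexp, hsconj⟩ := hinv s hs
  obtain ⟨e, F, iF, iFt, hF, hpe, ⟨φ⟩⟩ := BrauerPSL.exists_sl_two hp.out h5 hG hs hsC
    fun u hu' => ⟨hsexp u hu', fun hu1 =>
      hsconj u (orderOf_eq_prime (by rw [pow_two]; exact hsexp u hu') hu1)⟩
  obtain ⟨ψ⟩ := BrauerPSL.sl_equiv_psl hF
  exact ⟨not_preprimitive (α := α) hα hp3 hG (e := e) (by omega) hinv hsq,
    F, iF, iFt, e, hF, hpe, ⟨φ.trans ψ⟩⟩

end Cfsg.Agent.DegreeThreeP
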