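import Cfsg.Agent.Lib.DegreeThreeP.CaseTwoMoment
import Cfsg.Agent.Lib.Char.Descend

/-!
# Degree `3p`, `π = 1 + χ` with `χ(1) = 3p - 1`: moments
-/

set_option autoImplicit false
set_option linter.style.haveILetI false
set_option linter.unusedSectionVars false

namespace Cfsg.Agent.DegreeThreeP

open Cfsg Cfsg.Agent MulAction
open scoped ComplexConjugate Classical

universe u v

variable {G : Type u} [Group G] [Fintype G] [IsSimpleGroup G] {p : ℕ} [hp : Fact p.Prime]
  {P : Sylow p G}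

/-- `⟨χ², χ⟩ ≥ 1`, as the products `θ θ̄` contain `χ`. -/
theorem one_le_cube (B : Blk P) (he : B.e = -1) (hε : B.ε = -1)
    (hχ : ∀ g, conj (B.χ.1 g) = B.χ.1 g)
    (hG : (Nat.card G : ℂ) = (Nat.card (Sylow p G) : ℂ) * (2 * (p : ℂ))) {c : ℕ}
    (hc : classInner (B.χ.1 * B.χ.1) B.χ.1 = c) : 1 ≤ c := by
  set χ := B.χ with hχdef
  have h1 : ∑ g : G, χ.1 g = 0 := by
    have h := Char.classInner_irr_of_ne χ.2 (Char.trivialChar G).2
      (fun e => B.χ_ne (Subtype.ext e))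
    simp only [classInner, Char.trivialChar_apply, map_one, mul_one] at h
    exact (mul_eq_zero.1 h).resolve_left (inv_ne_zero Char.card_ne_zero)
  have h2 : ∑ g : G, χ.1 g ^ 2 = (Nat.card G : ℂ) := by
    simp only [pow_two]
    rw [sum_mul_real χ hχ, Char.classInner_irr_self χ.2, mul_one]
  have h3 : ∑ g : G, χ.1 g ^ 3 = (Nat.card G : ℂ) * c := by
    rw [← hc, ← sum_mul_real χ hχ]
    exact Finset.sum_congr rfl fun g _ => by rw [Pi.mul_apply]; ring
  have hg : ∀ θ ∈ B.Y, ∀ g, IsPRegular p g → θ.1 g = χ.1 g - 1 := fun θ hθ g hg' => by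
    have h := B.regular θ hθ g hg'
    rw [he, hε] at h
    push_cast at h
    linear_combination -h
  set F : G → ℂ := fun g => (∑ θ ∈ B.Y, θ.1 g * conj (θ.1 g)) * χ.1 g with hF
  have hcls : IsClassFunction G F := by
    intro g t
    simp only [hF, Char.IsCharacter.isClassFunction (Char.irr_isCharacter _) g t]
  choose N hN using fun θ : IrrCharacter G => Char.IsCharacter.exists_nat_classInner
    (Char.IsCharacter.mul (Char.irr_isCharacter θ)
      (Char.IsCharacter.conj (Char.irr_isCharacter θ))) (Char.irr_isCharacter χ)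
  have hFN : ∑ g : G, F g = (Nat.card G : ℂ) * ((∑ θ ∈ B.Y, N θ : ℕ) : ℂ) := by
    push_cast
    simp only [hF, Finset.sum_mul, Finset.mul_sum]
    rw [Finset.sum_comm]
    refine Finset.sum_congr rfl fun θ _ => ?_
    rw [← hN θ, ← sum_mul_real χ hχ]
    rfl
  have hy : ∀ y ∈ (P : Subgroup G), y ≠ 1 → F y = -((p : ℂ) - 2) := fun y hy hy1 => by
    simp only [hF, B.sum_Y_sq y hy hy1, hχdef, B.val_χ y hy hy1, he]
    rw [Nat.cast_sub (by have := B.five; omega)]
    push_cast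
    ring
  set F' : G → ℂ := fun g => (B.t : ℂ) * ((χ.1 g - 1) ^ 2 * χ.1 g) with hF'
  have hcls' : IsClassFunction G F' := by
    intro g t
    simp only [hF', Char.IsCharacter.isClassFunction (Char.irr_isCharacter χ) g t]
  have hy' : ∀ y ∈ (P : Subgroup G), y ≠ 1 → F' y = -4 * (B.t : ℂ) := fun y hy hy1 => by
    simp only [hF', hχdef, B.val_χ y hy hy1, he]
    push_cast
    ring
  have heq : ∀ g, IsPRegular p g → F g = F' g := fun g hg' => by
    simp only [hF, hF']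
    rw [Finset.sum_congr rfl fun θ hθ => show θ.1 g * conj (θ.1 g) = (χ.1 g - 1) ^ 2 by
        rw [hg θ hθ g hg', map_sub, map_one, hχdef, hχ g]; ring,
      Finset.sum_const, B.card_Y, nsmul_eq_mul]
    ring
  have e1 := sum_regSet B hcls hy
  have e2 := sum_regSet B hcls' hy'
  rw [Finset.sum_congr rfl fun g hg' => heq g (mem_regSet.1 hg').1, e2, hFN,
    ← heq 1 isPRegular_one] at e1
  have hF'sum : ∑ g : G, F' g = (B.t : ℂ) * ((Nat.card G : ℂ) * c - 2 * Nat.card G) := by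
    have e : ∀ g : G, F' g = (B.t : ℂ) * (χ.1 g ^ 3 - 2 * χ.1 g ^ 2 + χ.1 g) := fun g => by
      simp only [hF']; ring
    simp only [e, ← Finset.mul_sum, Finset.sum_add_distrib, Finset.sum_sub_distrib, h3, h2,
      h1, add_zero]
  rw [hF'sum] at e1
  have ht : (p : ℂ) = 2 * (B.t : ℂ) + 1 := by exact_mod_cast B.ht.symm
  have h4 : (Nat.card G : ℂ) * ((∑ θ ∈ B.Y, N θ : ℕ) : ℂ) =
      (Nat.card G : ℂ) * ((B.t : ℂ) * ((c : ℂ) - 1)) := by
    rw [hG] at e1 ⊢
    rw [ht] at e1 ⊢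
    linear_combination -e1
  have h5 := mul_left_cancel₀ Char.card_ne_zero h4
  have h6 : ((∑ θ ∈ B.Y, N θ : ℕ) : ℤ) = (B.t : ℤ) * ((c : ℤ) - 1) := by
    have : (((∑ θ ∈ B.Y, N θ : ℕ) : ℤ) : ℂ) = (((B.t : ℤ) * ((c : ℤ) - 1) : ℤ) : ℂ) := by
      push_cast at h5 ⊢
      exact h5
    exact_mod_cast this
  by_contra hlt
  have hc0 : c = 0 := by omega
  rw [hc0] at h6
  have ht0 : 0 < B.t := by have := B.five; have := B.ht; omega
  push_cast at h6
  have : (0 : ℤ) ≤ (∑ θ ∈ B.Y, (N θ : ℤ)) := Finset.sum_nonneg fun θ _ => Int.natCast_nonneg _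
  omega

variable {α : Type v} [MulAction G α] [Fintype α]

/-- The hypotheses of the case `π = 1 + χ`. -/
structure Three (P : Sylow p G) (α : Type v) [MulAction G α] where
  B : Blk P
  he : B.e = -1
  hε : B.ε = -1
  deg_χ : Char.degree B.χ = 3 * p - 1
  card : Nat.card α = 3 * p
  perm : ∀ g : G, (Nat.card (fixedBy α g) : ℂ) = 1 + B.χ.1 g
  free : ∀ y ∈ (P : Subgroup G), y ≠ 1 → Nat.card (fixedBy α y) = 0
  card_N : Nat.card (Subgroup.normalizer ((P : Subgroup G) : Set G)) = 2 * p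

/-- The value of `χ`. -/
noncomputable def Three.v (_ : Three P α) (g : G) : ℤ := (Nat.card (fixedBy α g) : ℤ) - 1

theorem Three.χ_eq (D : Three P α) (g : G) : D.B.χ.1 g = (D.v g : ℂ) := by
  rw [Three.v]; push_cast; rw [D.perm g]; ring

theorem Three.χ_real (D : Three P α) (g : G) : conj (D.B.χ.1 g) = D.B.χ.1 g := by
  rw [D.χ_eq, map_intCast]

theorem Three.deg_Y (D : Three P α) {θ : IrrCharacter G} (hθ : θ ∈ D.B.Y) :
    Char.degree θ = 3 * p - 2 := by
  have h := D.B.degree_rel hθ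
  rw [D.he, D.hε, D.deg_χ] at h
  have := D.B.five
  omega

theorem Three.v_one (D : Three P α) : D.v 1 = 3 * p - 1 := by
  simp only [Three.v, fixedBy_one_eq_univ, Nat.card_coe_set_eq, Set.ncard_univ, D.card]
  push_cast
  ring

theorem Three.card_fix (D : Three P α) (g : G) : (Nat.card (fixedBy α g) : ℤ) = D.v g + 1 := by
  rw [Three.v]; ring

theorem Three.v_conj (D : Three P α) (g t : G) : D.v (t * g * t⁻¹) = D.v g := by
  have h := Char.IsCharacter.isClassFunction (Char.irr_isCharacter D.B.χ) g t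
  rw [D.χ_eq, D.χ_eq] at h
  exact_mod_cast h

theorem Three.card_G (D : Three P α) :
    Nat.card G = Nat.card (Sylow p G) * (2 * p) := by
  rw [← SmallSimple.card_sylow_mul_card_normalizer P, D.card_N]

/-- The order is `p f g R` with `3 ∣ R`. -/
theorem Three.order_eq [IsPretransitive G α] (D : Three P α) :
    ∃ R : ℕ, 0 < R ∧ 3 ∣ R ∧ Nat.card G = p * (3 * p - 1) * (3 * p - 2) * R := by
  have h5 := D.B.five
  have h3 : 3 * p ∣ Nat.card G := degree_dvd_card (α := α) D.card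
  have hf : 3 * p - 1 ∣ Nat.card G := by
    have := Char.charDegree_dvd_card D.B.χ
    rwa [Char.charDegree_eq_degree, D.deg_χ] at this
  obtain ⟨θ, hθ⟩ := D.B.Y_nonempty
  have hg : 3 * p - 2 ∣ Nat.card G := by
    have := Char.charDegree_dvd_card θ
    rwa [Char.charDegree_eq_degree, D.deg_Y hθ] at this
  have hsmall : ∀ d r : ℕ, d ∣ r → ∀ k, d ∣ r + k → d ∣ k := fun d r h k h' => (Nat.dvd_add_right h).1 h'
  have c1 : Nat.Coprime (3 * p - 1) (3 * p - 2) := by
    rw [show 3 * p - 1 = 3 * p - 2 + 1 by omega]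
    exact Nat.coprime_self_add_left.2 (Nat.coprime_one_left _)
  have c2 : Nat.Coprime (3 * p) (3 * p - 1) := by
    rw [show 3 * p = 3 * p - 1 + 1 by omega, show 3 * p - 1 + 1 - 1 = 3 * p - 1 by omega]
    exact Nat.coprime_self_add_left.2 (Nat.coprime_one_left _)
  have c3 : Nat.Coprime (3 * p) (3 * p - 2) := by
    have hodd : Odd p := hp.out.odd_of_ne_two (by omega)
    rw [show 3 * p = 3 * p - 2 + 2 by omega, show 3 * p - 2 + 2 - 2 = 3 * p - 2 by omega]
    refine Nat.coprime_self_add_left.2 (Nat.coprime_two_left.2 ?_)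
    obtain ⟨k, rfl⟩ := hodd
    exact ⟨3 * k, by omega⟩
  obtain ⟨R, hR⟩ := (Nat.Coprime.mul_left c3 c1).mul_dvd_of_dvd_of_dvd
    (c2.mul_dvd_of_dvd_of_dvd h3 hf) hg
  refine ⟨3 * R, ?_, dvd_mul_right 3 R, by rw [hR]; ring⟩
  rcases Nat.eq_zero_or_pos R with h | h
  · rw [h, mul_zero] at hR
    exact absurd hR Nat.card_pos.ne'
  · omega

/-- The sums over the non-trivial regular elements; `n` is the number of Sylow subgroups. -/
theorem Three.sums (D : Three P α) :
    ∃ c : ℕ, 1 ≤ c ∧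
      ((regSet G p).card : ℤ) = Nat.card (Sylow p G) * ((p : ℤ) + 1) - 1 ∧
      ∑ g ∈ regSet G p, D.v g = Nat.card (Sylow p G) * ((p : ℤ) - 1) - (3 * p - 1) ∧
      ∑ g ∈ regSet G p, D.v g * (D.v g - 1) =
        2 * Nat.card (Sylow p G) - (3 * p - 1) * (3 * p - 2) ∧
      ∑ g ∈ regSet G p, (D.v g + 1) * (D.v g * (D.v g - 1)) =
        2 * p * Nat.card (Sylow p G) * c - (3 * p - 1) * ((3 * p - 1) ^ 2 - 1) := by
  have hG : (Nat.card G : ℂ) = (Nat.card (Sylow p G) : ℂ) * (2 * (p : ℂ)) := by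
    exact_mod_cast D.card_G
  set χ := D.B.χ with hχdef
  have hχ := D.χ_real
  have hχ2 : IsCharacter G (χ.1 * χ.1) :=
    Char.IsCharacter.mul (Char.irr_isCharacter χ) (Char.irr_isCharacter χ)
  obtain ⟨c, hc⟩ := Char.IsCharacter.exists_nat_classInner hχ2 (Char.irr_isCharacter χ)
  refine ⟨c, one_le_cube D.B D.he D.hε hχ hG hc, ?_⟩
  have h1 : ∑ g : G, χ.1 g = 0 := by
    have h := Char.classInner_irr_of_ne χ.2 (Char.trivialChar G).2
      (fun e => D.B.χ_ne (Subtype.ext e))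
    simp only [classInner, Char.trivialChar_apply, map_one, mul_one] at h
    exact (mul_eq_zero.1 h).resolve_left (inv_ne_zero Char.card_ne_zero)
  have h2 : ∑ g : G, χ.1 g ^ 2 = (Nat.card G : ℂ) := by
    simp only [pow_two]
    rw [sum_mul_real χ hχ, Char.classInner_irr_self χ.2, mul_one]
  have h3 : ∑ g : G, χ.1 g ^ 3 = (Nat.card G : ℂ) * c := by
    rw [← hc, ← sum_mul_real χ hχ]
    exact Finset.sum_congr rfl fun g _ => by rw [Pi.mul_apply]; ring
  have hy : ∀ y ∈ (P : Subgroup G), y ≠ 1 → χ.1 y = -1 := fun y hy hy1 => by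
    rw [hχdef, D.B.val_χ y hy hy1, D.he]; norm_num
  have hone : χ.1 1 = ((3 * p - 1 : ℤ) : ℂ) := by rw [hχdef, D.χ_eq, D.v_one]
  have hcls := Char.IsCharacter.isClassFunction (Char.irr_isCharacter χ)
  refine ⟨?_, ?_, ?_, ?_⟩
  · have h := sum_regSet D.B (F := fun _ => (1 : ℂ)) (fun _ _ => rfl) (F₁ := 1) fun _ _ _ => rfl
    simp only [Finset.sum_const, nsmul_eq_mul, mul_one, Finset.card_univ,
      ← Nat.card_eq_fintype_card, hG] at h
    have h' : (((regSet G p).card : ℤ) : ℂ) =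
        (((Nat.card (Sylow p G) : ℤ) * ((p : ℤ) + 1) - 1 : ℤ) : ℂ) := by
      push_cast
      rw [h]
      ring
    exact_mod_cast h'
  · have h := sum_regSet D.B hcls (F₁ := -1) hy
    rw [Finset.sum_congr rfl fun g _ => D.χ_eq g, ← Int.cast_sum, h1, hone] at h
    have h' : ((∑ g ∈ regSet G p, D.v g : ℤ) : ℂ) =
        (((Nat.card (Sylow p G) : ℤ) * ((p : ℤ) - 1) - (3 * p - 1) : ℤ) : ℂ) := by
      rw [h]
      push_cast
      ring
    exact_mod_cast h'
  · have h := sum_regSet D.B (F := fun g => χ.1 g * (χ.1 g - 1))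
      (fun g t => by simp only [hcls g t]) (F₁ := 2) fun y hy' hy1 => by rw [hy y hy' hy1]; ring
    have e : ∀ g : G, χ.1 g * (χ.1 g - 1) = χ.1 g ^ 2 - χ.1 g := fun g => by ring
    rw [Finset.sum_congr rfl fun g _ => show χ.1 g * (χ.1 g - 1) =
        ((D.v g * (D.v g - 1) : ℤ) : ℂ) by rw [hχdef, D.χ_eq]; push_cast; ring,
      ← Int.cast_sum, Finset.sum_congr (s₁ := (Finset.univ : Finset G)) rfl fun g _ => e g,
      Finset.sum_sub_distrib, h1, h2, hone, hG] at h
    have h' : ((∑ g ∈ regSet G p, D.v g * (D.v g - 1) : ℤ) : ℂ) =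
        ((2 * (Nat.card (Sylow p G) : ℤ) - (3 * p - 1) * (3 * p - 2) : ℤ) : ℂ) := by
      rw [h]
      push_cast
      ring
    exact_mod_cast h'
  · have h := sum_regSet D.B (F := fun g => (χ.1 g + 1) * (χ.1 g * (χ.1 g - 1)))
      (fun g t => by simp only [hcls g t]) (F₁ := 0) fun y hy' hy1 => by rw [hy y hy' hy1]; ring
    have e : ∀ g : G, (χ.1 g + 1) * (χ.1 g * (χ.1 g - 1)) = χ.1 g ^ 3 - χ.1 g := fun g => by ring
    rw [Finset.sum_congr rfl fun g _ => show (χ.1 g + 1) * (χ.1 g * (χ.1 g - 1)) =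
        (((D.v g + 1) * (D.v g * (D.v g - 1)) : ℤ) : ℂ) by rw [hχdef, D.χ_eq]; push_cast; ring,
      ← Int.cast_sum, Finset.sum_congr (s₁ := (Finset.univ : Finset G)) rfl fun g _ => e g,
      Finset.sum_sub_distrib, h1, h3, hone, hG] at h
    have h' : ((∑ g ∈ regSet G p, (D.v g + 1) * (D.v g * (D.v g - 1)) : ℤ) : ℂ) =
        ((2 * (p : ℤ) * (Nat.card (Sylow p G) : ℤ) * c -
          (3 * p - 1) * ((3 * p - 1) ^ 2 - 1) : ℤ) : ℂ) := by
      rw [h]
      push_cast
      ring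
    exact_mod_cast h'

end Cfsg.Agent.DegreeThreeP
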