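import Cfsg.Agent.Lib.DegreeThreeP.CaseThreeData
import Mathlib.GroupTheory.Perm.Cycle.Type

/-!
# Degree `3p`, `π = 1 + χ`: the involutions

One class of involutions, each fixing `A + 1` points with `A = 2` or `0` as `p ≡ 1` or `3 (mod 4)`;
every non-trivial `p`-regular element is a product of an involution and an element of order `p`,
so it fixes at most `3p/2` points; `|G| = p f g J²` with `|C(t)| = J (f - A)`.
-/

set_option autoImplicit false
set_option linter.style.haveILetI false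
set_option linter.unusedSectionVars false

namespace Cfsg.Agent.DegreeThreeP

open Cfsg Cfsg.Agent MulAction
open scoped ComplexConjugate Classical

universe u v

variable {G : Type u} [Group G] [Fintype G] [IsSimpleGroup G] {p : ℕ} [hp : Fact p.Prime]
  {P : Sylow p G} {α : Type v} [MulAction G α] [Fintype α]

/-- A simple non-abelian group acts by even permutations. -/
theorem sign_eq_one (hnc : ¬ IsMulCommutative G) (g : G) :
    Equiv.Perm.sign (MulAction.toPermHom G α g) = 1 := by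
  set φ : G →* ℤˣ := Equiv.Perm.sign.comp (MulAction.toPermHom G α) with hφ
  rcases IsSimpleGroup.eq_bot_or_eq_top_of_normal φ.ker inferInstance with h | h
  · exfalso
    refine hnc ⟨⟨fun a b => (MonoidHom.ker_eq_bot_iff φ).1 h ?_⟩⟩
    rw [map_mul, map_mul, mul_comm]
  · exact MonoidHom.mem_ker.1 (show g ∈ φ.ker from h ▸ Subgroup.mem_top g)

/-- The number of fixed points of an involution in an even action of odd degree. -/
theorem four_dvd_moved (hnc : ¬ IsMulCommutative G) {z : G} (hz : z ^ 2 = 1) :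
    ∃ j : ℕ, Nat.card (fixedBy α z) + 4 * j = Fintype.card α := by
  set σ : Equiv.Perm α := MulAction.toPermHom G α z with hσ
  have hσ2 : σ ^ 2 = 1 := by rw [hσ, ← map_pow, hz, map_one]
  have hfix : Fintype.card (Function.fixedPoints σ) = Nat.card (fixedBy α z) := by
    rw [Nat.card_eq_fintype_card]
    exact Fintype.card_congr (Equiv.setCongr (Set.ext fun x => Iff.rfl))
  have hc := Equiv.Perm.card_fixedPoints σ
  rw [hfix, Equiv.Perm.cycleType_of_pow_prime_eq_one (p := 2) (by simpa using hσ2),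
    Multiset.sum_replicate, smul_eq_mul] at hc
  have hle : Nat.card (fixedBy α z) ≤ Fintype.card α := hfix ▸ Fintype.card_subtype_le _
  have hs := Equiv.Perm.sign_of_pow_two_eq_one hσ2
  rw [hfix, hσ, sign_eq_one (α := α) hnc z] at hs
  have hev : Even ((Fintype.card α - Nat.card (fixedBy α z)) / 2) := by
    by_contra h
    rw [Odd.neg_one_pow (Nat.not_even_iff_odd.1 h)] at hs
    exact absurd hs (by decide)
  have hsum := Equiv.Perm.sum_cycleType σ
  rw [Equiv.Perm.cycleType_of_pow_prime_eq_one (p := 2) (by simpa using hσ2),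
    Multiset.sum_replicate, smul_eq_mul] at hsum
  have hsupp : σ.support.card ≤ Fintype.card α := Finset.card_le_univ _
  obtain ⟨j, hj⟩ := hev
  exact ⟨j, by omega⟩

theorem ident_pairs (f g A V : ℂ) (hf : f ≠ 0) (hg : g ≠ 0) (hfg : g = f - 1) :
    f * g * (1 + A * (-1) * V / f + (A - 1) * (V - 1) / g) = (f - A) * (f - V) := by
  have e : f * g * (1 + A * (-1) * V / f + (A - 1) * (V - 1) / g) =
      f * g - A * V * g + (A - 1) * (V - 1) * f := by
    field_simp
    ring
  rw [e, hfg]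
  ring

/-- The data of the involutions. -/
structure Three.Inv (D : Three P α) where
  t : G
  ord : orderOf t = 2
  A : ℕ
  hA : D.v t = A
  hcase : (p % 4 = 1 ∧ A = 2) ∨ (p % 4 = 3 ∧ A = 0)
  single : ∀ z : G, orderOf z = 2 → IsConj t z
  half : ∀ u : G, IsPRegular p u → u ≠ 1 → 2 * Nat.card (fixedBy α u) ≤ 3 * p
  J : ℕ
  Jpos : 0 < J
  three : 3 ∣ J
  order : Nat.card G = p * (3 * p - 1) * (3 * p - 2) * (J * J)
  cent : Nat.card (Subgroup.centralizer ({t} : Set G)) = J * (3 * p - 1 - A)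

theorem Three.exists_inv [IsPretransitive G α] [FaithfulSMul G α] (D : Three P α)
    (hnc : ¬ IsMulCommutative G) : Nonempty D.Inv := by
  have h5 := D.B.five
  have hP : Nat.card (P : Subgroup G) = p := D.B.sc.card
  obtain ⟨y, hy, hy1⟩ := D.B.exists_ne_one
  have hordy : orderOf y = p := ((Nat.dvd_prime hp.out).1
    (hP ▸ Subgroup.orderOf_dvd_natCard _ hy)).resolve_left fun h => hy1 (orderOf_eq_one_iff.1 h)
  have hzy : Subgroup.zpowers y = (P : Subgroup G) :=
    Subgroup.eq_of_le_of_card_ge (Subgroup.zpowers_le.2 hy) (by rw [hP, Nat.card_zpowers, hordy])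
  obtain ⟨t, ht⟩ := isConj_iff.1 (D.B.inv y hy)
  -- `t` inverts `P`
  have hinvert : ∀ q ∈ (P : Subgroup G), t * q * t⁻¹ = q⁻¹ := by
    intro q hq
    obtain ⟨i, rfl⟩ := Subgroup.mem_zpowers_iff.1 (hzy.ge hq)
    rw [← conj_zpow, ht, inv_zpow]
  have hoddP : ∀ q ∈ (P : Subgroup G), q * q = 1 → q = 1 := by
    intro q hq h
    by_contra hq1
    have : orderOf q = p := ((Nat.dvd_prime hp.out).1
      (hP ▸ Subgroup.orderOf_dvd_natCard _ hq)).resolve_left fun h' => hq1 (orderOf_eq_one_iff.1 h')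
    have h2 : orderOf q ∣ 2 := orderOf_dvd_of_pow_eq_one (by rw [pow_two, h])
    have := Nat.le_of_dvd two_pos h2
    omega
  have htP : t ∉ (P : Subgroup G) := fun h => by
    have hcom : y * t = t * y := by
      have := (D.B.sc.centralizer_singleton hy hy1).ge h
      exact (Subgroup.mem_centralizer_singleton_iff.1 this).symm
    rw [show t * y * t⁻¹ = y by rw [← hcom]; group] at ht
    exact hy1 (hoddP y hy (mul_eq_one_iff_eq_inv.2 ht))
  have ht2 : t * t = 1 := by
    have hcP : t * t ∈ (P : Subgroup G) := by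
      rw [← D.B.sc.centralizer_singleton hy hy1, Subgroup.mem_centralizer_singleton_iff]
      have h1 := hinvert _ (Subgroup.inv_mem _ hy)
      rw [inv_inv] at h1
      have h3 : (t * t) * y * (t * t)⁻¹ = y := by
        calc (t * t) * y * (t * t)⁻¹ = t * (t * y * t⁻¹) * t⁻¹ := by group
          _ = y := by rw [ht]; exact h1
      exact mul_inv_eq_iff_eq_mul.1 h3
    have h1 := hinvert _ hcP
    rw [show t * (t * t) * t⁻¹ = t * t by group] at h1
    exact hoddP _ hcP (mul_eq_one_iff_eq_inv.2 h1)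
  have hti : t⁻¹ = t := inv_eq_of_mul_eq_one_right ht2
  have hord : orderOf t = 2 := orderOf_eq_prime (by rw [pow_two, ht2]) fun e => htP (e ▸ one_mem _)
  have hconjq : ∀ q ∈ (P : Subgroup G), q * t * q⁻¹ = q * q * t := by
    intro q hq
    calc q * t * q⁻¹ = q * (t * q⁻¹ * t⁻¹) * t := by group
      _ = q * q * t := by rw [hinvert _ (Subgroup.inv_mem _ hq), inv_inv]
  -- square roots in `P`
  obtain ⟨m, hm⟩ : ∃ m, 2 * m = p + 1 := by
    obtain ⟨k, hk⟩ := hp.out.odd_of_ne_two (by omega)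
    exact ⟨k + 1, by omega⟩
  have hsqrt : ∀ q ∈ (P : Subgroup G), q ^ m ∈ (P : Subgroup G) ∧ q ^ m * q ^ m = q := by
    intro q hq
    refine ⟨Subgroup.pow_mem _ hq m, ?_⟩
    rw [← pow_add, ← two_mul, hm, pow_succ, orderOf_dvd_iff_pow_eq_one.1
      (hP ▸ Subgroup.orderOf_dvd_natCard _ hq), one_mul]
  -- the elements inverting `y`
  have hinvset : ∀ w : G, w * y * w⁻¹ = y⁻¹ → ∃ r ∈ (P : Subgroup G), w = r * t * r⁻¹ := by
    intro w hw
    have hq : w * t⁻¹ ∈ (P : Subgroup G) := by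
      rw [← D.B.sc.centralizer_singleton hy hy1, Subgroup.mem_centralizer_singleton_iff]
      have h1 : t⁻¹ * y * t⁻¹⁻¹ = y⁻¹ := by rw [hti]; exact hinvert y hy
      have h2 : (w * t⁻¹) * y * (w * t⁻¹)⁻¹ = y := by
        calc (w * t⁻¹) * y * (w * t⁻¹)⁻¹ = w * (t⁻¹ * y * t⁻¹⁻¹) * w⁻¹ := by group
          _ = (w * y * w⁻¹)⁻¹ := by rw [h1]; group
          _ = y := by rw [hw, inv_inv]
      exact mul_inv_eq_iff_eq_mul.1 h2
    obtain ⟨h1, h2⟩ := hsqrt _ hq
    exact ⟨_, h1, by rw [hconjq _ h1, h2, inv_mul_cancel_right]⟩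
  -- fixed points of `t`
  have hsemi : ∀ q ∈ (P : Subgroup G), ∀ a : α, q • a = a → q = 1 := by
    intro q hq a ha
    by_contra hq1
    haveI : IsEmpty (fixedBy α q) := Finite.card_eq_zero_iff.1 (D.free q hq hq1)
    exact isEmptyElim (⟨a, ha⟩ : fixedBy α q)
  have hfix3 : Nat.card (fixedBy α t) ≤ 3 := by
    have hinj : Function.Injective fun x : fixedBy α t × (P : Subgroup G) =>
        (x.2 : G) • (x.1 : α) := by
      rintro ⟨⟨a, ha⟩, q⟩ ⟨⟨b, hb⟩, r⟩ h
      have h' : (q : G) • a = (r : G) • b := h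
      have hk : ((r : G)⁻¹ * q) ∈ (P : Subgroup G) :=
        Subgroup.mul_mem _ (Subgroup.inv_mem _ r.2) q.2
      set k := (r : G)⁻¹ * q with hk'
      have hab : k • a = b := by rw [hk', mul_smul, h', inv_smul_smul]
      have ha' : t • a = a := ha
      have hb' : t • b = b := hb
      have h2 : k⁻¹ • a = k • a := by
        rw [← hinvert k hk, hti, mul_smul, mul_smul, ha', hab, hb']
      have h3 : k = 1 := hoddP k hk (hsemi _ (Subgroup.mul_mem _ hk hk) a (by
        rw [mul_smul, ← h2, smul_inv_smul]))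
      have hqr : (r : G) = q := inv_mul_eq_one.1 h3
      rw [h3, one_smul] at hab
      subst hab
      exact Prod.ext rfl (Subtype.ext hqr.symm)
    have := Nat.card_le_card_of_injective _ hinj
    rw [Nat.card_prod, hP, D.card] at this
    exact Nat.le_of_mul_le_mul_right this hp.out.pos
  obtain ⟨j, hj⟩ := four_dvd_moved (α := α) hnc (show t ^ 2 = 1 by rw [pow_two, ht2])
  rw [← Nat.card_eq_fintype_card, D.card] at hj
  obtain ⟨A, hAdef⟩ : ∃ A, A = Nat.card (fixedBy α t) - 1 := ⟨_, rfl⟩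
  have hp4 : p % 4 = 1 ∨ p % 4 = 3 := by
    obtain ⟨k, hk⟩ := hp.out.odd_of_ne_two (by omega); omega
  have hcase : (p % 4 = 1 ∧ A = 2) ∨ (p % 4 = 3 ∧ A = 0) := by omega
  have hA : D.v t = A := by rw [Three.v]; omega
  -- values
  have hf0 : (3 * (p : ℂ) - 1) ≠ 0 := fun h => by
    have h' : ((3 * p - 1 : ℕ) : ℂ) = 0 := by rw [Nat.cast_sub (by omega)]; push_cast; exact h
    have : 3 * p - 1 = 0 := by exact_mod_cast h'
    omega
  have hg0 : (3 * (p : ℂ) - 2) ≠ 0 := fun h => by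
    have h' : ((3 * p - 2 : ℕ) : ℂ) = 0 := by rw [Nat.cast_sub (by omega)]; push_cast; exact h
    have : 3 * p - 2 = 0 := by exact_mod_cast h'
    omega
  have hχ1 : D.B.χ.1 1 = 3 * (p : ℂ) - 1 := by
    rw [D.χ_eq, D.v_one]; push_cast; ring
  have hθ : ∀ θ ∈ D.B.Y, ∀ u, IsPRegular p u → θ.1 u = (D.v u : ℂ) - 1 := fun θ hθ u hu => by
    have h := D.B.regular θ hθ u hu
    rw [D.he, D.hε, D.χ_eq] at h
    push_cast at h
    linear_combination -h
  have hθ1 : ∀ θ ∈ D.B.Y, θ.1 1 = 3 * (p : ℂ) - 2 := fun θ h => by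
    rw [hθ θ h 1 isPRegular_one, D.v_one]; push_cast; ring
  have htreg : IsPRegular p t := by
    rw [IsPRegular, hord]
    intro h
    have := Nat.le_of_dvd two_pos h
    omega
  have hχy : ∀ q ∈ (P : Subgroup G), q ≠ 1 → D.B.χ.1 q = -1 := fun q hq hq1 => by
    rw [D.B.val_χ q hq hq1, D.he]; norm_num
  have hsumY : ∀ q ∈ (P : Subgroup G), q ≠ 1 → ∑ θ ∈ D.B.Y, θ.1 q = 1 := fun q hq hq1 => by
    rw [D.B.sum_Y q hq hq1, D.hε]; norm_num
  set C := Subgroup.centralizer ({t} : Set G) with hC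
  -- the pairs of involutions with product `y`
  have hpairsN : Nat.card {q : G × G // q.1 * t * q.1⁻¹ * (q.2 * t * q.2⁻¹) = y} =
      p * (Nat.card C * Nat.card C) := by
    obtain ⟨hy0, hy0'⟩ := hsqrt y hy
    set y₀ := y ^ m with hy₀
    have hCt : ∀ c : C, (c : G) * t * (c : G)⁻¹ = t := fun c => by
      rw [Subgroup.mem_centralizer_singleton_iff.1 c.2, mul_inv_cancel_right]
    have hprod : ∀ r ∈ (P : Subgroup G),
        r * t * r⁻¹ * ((r * y₀⁻¹) * t * (r * y₀⁻¹)⁻¹) = y := by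
      intro r hr
      have hr' : r * y₀⁻¹ ∈ (P : Subgroup G) := Subgroup.mul_mem _ hr (Subgroup.inv_mem _ hy0)
      rw [hconjq r hr, hconjq _ hr']
      have hcomm : ∀ a b, a ∈ (P : Subgroup G) → b ∈ (P : Subgroup G) → a * b = b * a :=
        fun a b ha hb => by
          obtain ⟨i, rfl⟩ := Subgroup.mem_zpowers_iff.1 (hzy.ge ha)
          obtain ⟨k, rfl⟩ := Subgroup.mem_zpowers_iff.1 (hzy.ge hb)
          rw [← zpow_add, add_comm, zpow_add]
      have hw : r * y₀⁻¹ * (r * y₀⁻¹) ∈ (P : Subgroup G) := Subgroup.mul_mem _ hr' hr'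
      calc r * r * t * (r * y₀⁻¹ * (r * y₀⁻¹) * t)
          = r * r * (t * (r * y₀⁻¹ * (r * y₀⁻¹)) * t⁻¹) := by rw [hti]; group
        _ = r * r * (r * y₀⁻¹ * (r * y₀⁻¹))⁻¹ := by rw [hinvert _ hw]
        _ = r * r * (r⁻¹ * r⁻¹ * (y₀ * y₀)) := by
            rw [hcomm r _ hr (Subgroup.inv_mem _ hy0)]
            rw [show (y₀⁻¹ * r * (y₀⁻¹ * r))⁻¹ = r⁻¹ * (y₀ * r⁻¹) * y₀ by group,
              hcomm y₀ _ hy0 (Subgroup.inv_mem _ hr)]
            group
        _ = y := by rw [hy0']; group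
    let F : ↥(P : Subgroup G) × C × C →
        {q : G × G // q.1 * t * q.1⁻¹ * (q.2 * t * q.2⁻¹) = y} := fun z =>
      ⟨((z.1 : G) * z.2.1, (z.1 : G) * y₀⁻¹ * z.2.2), by
        have e : ∀ (a : G) (c : C), a * c * t * (a * c)⁻¹ = a * t * a⁻¹ := fun a c => by
          calc a * c * t * (a * c)⁻¹ = a * ((c : G) * t * (c : G)⁻¹) * a⁻¹ := by group
            _ = a * t * a⁻¹ := by rw [hCt]
        show (z.1 : G) * z.2.1 * t * ((z.1 : G) * z.2.1)⁻¹ *
          ((z.1 : G) * y₀⁻¹ * z.2.2 * t * ((z.1 : G) * y₀⁻¹ * z.2.2)⁻¹) = y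
        rw [e, e]
        exact hprod _ z.1.2⟩
    have hF : Function.Bijective F := by
      constructor
      · rintro ⟨r, a, b⟩ ⟨r', a', b'⟩ h
        have h1 : (r : G) * a = (r' : G) * a' := congrArg (fun z => z.1.1) h
        have h2 : (r : G) * y₀⁻¹ * b = (r' : G) * y₀⁻¹ * b' := congrArg (fun z => z.1.2) h
        have hk : ((r' : G)⁻¹ * r) ∈ (P : Subgroup G) :=
          Subgroup.mul_mem _ (Subgroup.inv_mem _ r'.2) r.2
        have hkC : ((r' : G)⁻¹ * r) ∈ C := by
          have : (r' : G)⁻¹ * r = (a' : G) * (a : G)⁻¹ := by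
            rw [eq_mul_inv_iff_mul_eq, mul_assoc, h1, inv_mul_cancel_left]
          rw [this]
          exact Subgroup.mul_mem _ a'.2 (Subgroup.inv_mem _ a.2)
        have h3 := hinvert _ hk
        rw [show t * ((r' : G)⁻¹ * r) = ((r' : G)⁻¹ * r) * t from
          (Subgroup.mem_centralizer_singleton_iff.1 hkC).symm, mul_inv_cancel_right] at h3
        have hrr : r' = r := Subtype.ext (inv_mul_eq_one.1
          (hoddP _ hk (mul_eq_one_iff_eq_inv.2 h3)))
        subst hrr
        exact Prod.ext rfl (Prod.ext (Subtype.ext (mul_left_cancel h1))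
          (Subtype.ext (mul_left_cancel h2)))
      · rintro ⟨⟨g₁, g₂⟩, hq⟩
        have hw : ∀ a : G, a * t * a⁻¹ * (a * t * a⁻¹) = 1 := fun a => by
          calc a * t * a⁻¹ * (a * t * a⁻¹) = a * (t * t) * a⁻¹ := by group
            _ = 1 := by rw [ht2]; group
        set t₁ := g₁ * t * g₁⁻¹ with ht₁
        set t₂ := g₂ * t * g₂⁻¹ with ht₂
        have hq' : t₁ * t₂ = y := hq
        have hinv1 : t₁ * y * t₁⁻¹ = y⁻¹ := by
          have key : ∀ a b : G, a * a = 1 → b * b = 1 → a * (a * b) * a⁻¹ = (a * b)⁻¹ := by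
            intro a b ha hb
            rw [mul_inv_rev, inv_eq_of_mul_eq_one_right ha, inv_eq_of_mul_eq_one_right hb,
              ← mul_assoc, ha, one_mul]
          rw [← hq']
          exact key _ _ (hw g₁) (hw g₂)
        obtain ⟨r, hr, hr1⟩ := hinvset t₁ hinv1
        have hr2 : t₂ = (r * y₀⁻¹) * t * (r * y₀⁻¹)⁻¹ := by
          have := hprod r hr
          rw [← hr1, ← hq'] at this
          exact (mul_left_cancel this).symm
        have hmem : ∀ a b : G, a * t * a⁻¹ = b * t * b⁻¹ → a⁻¹ * b ∈ C := fun a b e => by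
          rw [hC, Subgroup.mem_centralizer_singleton_iff]
          calc a⁻¹ * b * t = a⁻¹ * (b * t * b⁻¹) * b := by group
            _ = t * (a⁻¹ * b) := by rw [← e]; group
        refine ⟨(⟨r, hr⟩, ⟨r⁻¹ * g₁, hmem _ _ hr1.symm⟩,
          ⟨(r * y₀⁻¹)⁻¹ * g₂, hmem _ _ hr2.symm⟩), Subtype.ext (Prod.ext ?_ ?_)⟩
        · show r * (r⁻¹ * g₁) = g₁
          group
        · show r * y₀⁻¹ * ((r * y₀⁻¹)⁻¹ * g₂) = g₂
          group
    rw [← Nat.card_congr (Equiv.ofBijective F hF), Nat.card_prod, Nat.card_prod, hP]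
  have hyi : y⁻¹ ∈ (P : Subgroup G) := Subgroup.inv_mem _ hy
  have hyi1 : y⁻¹ ≠ 1 := fun e => hy1 (inv_eq_one.1 e)
  have hformula : (Nat.card G : ℂ) * ((3 * (p : ℂ) - 1 - A) ^ 2) =
      (p : ℂ) * (Nat.card C : ℂ) ^ 2 * ((3 * (p : ℂ) - 1) * (3 * (p : ℂ) - 2)) := by
    have h := Char.card_conj_mul_conj_eq t t y
    rw [hpairsN, D.B.sum_irr (fun ψ h1 h2 h3 => by
        rw [D.B.vanish ψ h1 h2 h3 y⁻¹ hyi hyi1, mul_zero, zero_div]),
      Finset.sum_congr (s₁ := D.B.Y) rfl fun θ hθ' => show θ.1 t * θ.1 t * θ.1 y⁻¹ / θ.1 1 =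
        ((A : ℂ) - 1) ^ 2 / (3 * (p : ℂ) - 2) * θ.1 y⁻¹ by
        rw [hθ1 θ hθ', hθ θ hθ' t htreg, hA]; push_cast; ring,
      ← Finset.mul_sum, hsumY _ hyi hyi1, hχy _ hyi hyi1, hχ1, D.χ_eq, hA] at h
    simp only [Char.trivialChar_apply] at h
    push_cast at h
    have e := ident_pairs (3 * (p : ℂ) - 1) (3 * (p : ℂ) - 2) (A : ℂ) (A : ℂ) hf0 hg0 (by ring)
    linear_combination -((3 * (p : ℂ) - 1) * (3 * (p : ℂ) - 2)) * h - (Nat.card G : ℂ) * e
  -- every non-trivial regular element is an involution times an element of order `p`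
  have hAle : A ≤ 2 := by omega
  have hfA : (3 * (p : ℂ) - 1 - A) ≠ 0 := fun h => by
    have h' : ((3 * p - 1 - A : ℕ) : ℂ) = 0 := by
      rw [Nat.cast_sub (by omega), Nat.cast_sub (by omega)]; push_cast; exact h
    have : 3 * p - 1 - A = 0 := by exact_mod_cast h'
    omega
  have hdecomp : ∀ u : G, IsPRegular p u → u ≠ 1 →
      ∃ a b : G, a * t * a⁻¹ * (b * y * b⁻¹) = u := by
    intro u hu hu1
    by_contra hno
    push Not at hno
    haveI : IsEmpty {q : G × G // q.1 * t * q.1⁻¹ * (q.2 * y * q.2⁻¹) = u} :=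
      ⟨fun q => hno _ _ q.2⟩
    have h := Char.card_conj_mul_conj_eq t y u
    have hu' : IsPRegular p u⁻¹ := by rw [IsPRegular, orderOf_inv]; exact hu
    have hvi : D.v u⁻¹ = D.v u := by
      rw [Three.v, Three.v, fixedBy_inv]
    rw [Nat.card_of_isEmpty, Nat.cast_zero, D.B.sum_irr (fun ψ h1 h2 h3 => by
        rw [D.B.vanish ψ h1 h2 h3 y hy hy1, mul_zero, zero_mul, zero_div]),
      Finset.sum_congr (s₁ := D.B.Y) rfl fun θ hθ' => show θ.1 t * θ.1 y * θ.1 u⁻¹ / θ.1 1 =
        ((A : ℂ) - 1) * ((D.v u : ℂ) - 1) / (3 * (p : ℂ) - 2) * θ.1 y by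
        rw [hθ1 θ hθ', hθ θ hθ' t htreg, hθ θ hθ' _ hu', hA, hvi]; push_cast; ring,
      ← Finset.mul_sum, hsumY _ hy hy1, hχy _ hy hy1, hχ1, D.χ_eq, D.χ_eq, hA, hvi,
      eq_comm, mul_eq_zero, or_iff_right Char.card_ne_zero] at h
    simp only [Char.trivialChar_apply] at h
    push_cast at h
    have e := ident_pairs (3 * (p : ℂ) - 1) (3 * (p : ℂ) - 2) (A : ℂ) (D.v u : ℂ) hf0 hg0 (by ring)
    have h2 : (3 * (p : ℂ) - 1 - A) * (3 * (p : ℂ) - 1 - (D.v u : ℂ)) = 0 := by
      linear_combination ((3 * (p : ℂ) - 1) * (3 * (p : ℂ) - 2)) * h - e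
    have h3 : ((D.v u : ℤ) : ℂ) = ((3 * (p : ℤ) - 1 : ℤ) : ℂ) := by
      push_cast
      linear_combination -((mul_eq_zero.1 h2).resolve_left hfA)
    have h4 : D.v u = 3 * (p : ℤ) - 1 := by exact_mod_cast h3
    refine hu1 (Perm.eq_one_of_forall_smul_eq (α := α) fun x => ?_)
    have hall : fixedBy α u = Set.univ := by
      refine Set.eq_univ_of_forall fun z => ?_
      by_contra hz
      have hlt := Fintype.card_subtype_lt (p := fun x => x ∈ fixedBy α u) hz
      have h5' := D.card_fix u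
      rw [h4, Nat.card_eq_fintype_card] at h5'
      rw [← Nat.card_eq_fintype_card (α := α), D.card] at hlt
      have : Fintype.card {x // x ∈ fixedBy α u} = 3 * p := by
        have e : (Fintype.card {x // x ∈ fixedBy α u} : ℤ) = 3 * p := by
          rw [show (3 : ℤ) * p = 3 * p - 1 + 1 by ring, ← h5']
        exact_mod_cast e
      omega
    exact hall.ge (Set.mem_univ x)
  have hconjy : ∀ b : G, b * y * b⁻¹ ≠ 1 := fun b e => hy1 (conj_eq_one_iff.1 e)
  -- a single class of involutions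
  have hsingle : ∀ z : G, orderOf z = 2 → IsConj t z := by
    intro z hz
    have hz1 : z ≠ 1 := fun e => by rw [e, orderOf_one] at hz; omega
    obtain ⟨a, b, hab⟩ := hdecomp z (by
      rw [IsPRegular, hz]; intro h; have := Nat.le_of_dvd two_pos h; omega) hz1
    set s := a * t * a⁻¹ with hs
    set x := b * y * b⁻¹ with hx
    have hz2 : z * z = 1 := by rw [← pow_two, ← hz, pow_orderOf_eq_one]
    have hs2 : s * s = 1 := by
      calc a * t * a⁻¹ * (a * t * a⁻¹) = a * (t * t) * a⁻¹ := by group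
        _ = 1 := by rw [ht2]; group
    have hx' : x = s * z := by rw [← hab, ← mul_assoc, hs2, one_mul]
    have hzx : z * x * z⁻¹ = x⁻¹ := by
      rw [hx', mul_inv_rev, inv_eq_of_mul_eq_one_right hs2, inv_eq_of_mul_eq_one_right hz2,
        mul_assoc, mul_assoc, hz2, mul_one]
    obtain ⟨r, -, hr⟩ := hinvset (b⁻¹ * z * b) (by
      calc b⁻¹ * z * b * y * (b⁻¹ * z * b)⁻¹ = b⁻¹ * (z * x * z⁻¹) * b := by rw [hx]; group
        _ = y⁻¹ := by rw [hzx, hx]; group)
    refine isConj_iff.2 ⟨b * r, ?_⟩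
    calc b * r * t * (b * r)⁻¹ = b * (r * t * r⁻¹) * b⁻¹ := by group
      _ = z := by rw [← hr]; group
  -- half of the points
  have hhalf : ∀ u : G, IsPRegular p u → u ≠ 1 → 2 * Nat.card (fixedBy α u) ≤ 3 * p := by
    intro u hu hu1
    obtain ⟨a, b, hab⟩ := hdecomp u hu hu1
    set s := a * t * a⁻¹ with hs
    set x := b * y * b⁻¹ with hx
    have hinj : Function.Injective fun z : fixedBy α u ⊕ fixedBy α u =>
        Sum.elim (fun c : fixedBy α u => (c : α)) (fun c : fixedBy α u => x • (c : α)) z := by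
      have hno : ∀ c d : fixedBy α u, (c : α) ≠ x • (d : α) := by
        intro c d e
        have hd : u • (d : α) = d := d.2
        have hc : u • (c : α) = c := c.2
        generalize hd' : (d : α) = d₀ at hd e
        generalize hc' : (c : α) = c₀ at hc e
        rw [← hab, mul_smul] at hd hc
        subst hd'
        subst hc'
        have hs2 : ∀ w : α, s • s • w = w := fun w => by
          rw [← mul_smul, show s * s = 1 by
            rw [hs]
            calc a * t * a⁻¹ * (a * t * a⁻¹) = a * (t * t) * a⁻¹ := by group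
              _ = 1 := by rw [ht2]; group, one_smul]
        have h1 : x • (d : α) = s • (d : α) := by rw [← hs2 (x • (d : α)), hd]
        have h2 : x • x • (d : α) = d := by
          rw [← hs2 (x • x • (d : α)), ← e, hc, e, h1, hs2]
        have hxx : (b⁻¹ • (d : α)) = (y * y) • (b⁻¹ • (d : α)) := by
          conv_lhs => rw [← h2]
          rw [hx, ← mul_smul, ← mul_smul, ← mul_smul]
          congr 1
          group
        exact hy1 (hoddP y hy (hsemi _ (Subgroup.mul_mem _ hy hy) _ hxx.symm))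
      rintro (c | c) (d | d) h
      · exact congrArg Sum.inl (Subtype.ext h)
      · exact absurd h (hno c d)
      · exact absurd (show (d : α) = x • (c : α) from h.symm) (hno d c)
      · exact congrArg Sum.inr (Subtype.ext (smul_left_cancel x h))
    have := Nat.card_le_card_of_injective _ hinj
    rw [Nat.card_sum, D.card] at this
    omega
  -- the order
  obtain ⟨R, hR0, hR3, hR⟩ := D.order_eq
  have hRc : R * (3 * p - 1 - A) ^ 2 = Nat.card C ^ 2 := by
    have h : ((R * (3 * p - 1 - A) ^ 2 : ℕ) : ℂ) = ((Nat.card C ^ 2 : ℕ) : ℂ) := by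
      refine mul_left_cancel₀ (mul_ne_zero (mul_ne_zero
        (Nat.cast_ne_zero.2 hp.out.ne_zero) hf0) hg0) ?_
      rw [hR] at hformula
      push_cast [Nat.cast_sub (show A ≤ 3 * p - 1 by omega), Nat.cast_sub (show 1 ≤ 3 * p by omega),
        Nat.cast_sub (show 2 ≤ 3 * p by omega)] at hformula ⊢
      linear_combination hformula
    exact_mod_cast h
  obtain ⟨J, hJ⟩ : (3 * p - 1 - A) ∣ Nat.card C :=
    (Nat.pow_dvd_pow_iff two_ne_zero).1 (hRc ▸ dvd_mul_left _ R)
  have hRJ : R = J * J := by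
    rw [hJ, mul_pow, mul_comm, pow_two J] at hRc
    exact Nat.eq_of_mul_eq_mul_left (pow_pos (by omega) 2) hRc
  refine ⟨⟨t, hord, A, hA, hcase, hsingle, hhalf, J, ?_, ?_, ?_, by rw [← hC, hJ, mul_comm]⟩⟩
  · rcases Nat.eq_zero_or_pos J with h | h
    · rw [h] at hRJ; omega
    · exact h
  · exact Nat.prime_three.dvd_of_dvd_pow (n := 2) (by rw [pow_two, ← hRJ]; exact hR3)
  · rw [hR, hRJ]

end Cfsg.Agent.DegreeThreeP
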