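import Mathlib.GroupTheory.Sylow
import Mathlib.Algebra.Order.Field.Basic
import Cfsg.Agent.Lib.Char.Orthogonality
import Cfsg.Agent.S3993

/-!
# The elements of odd order in centralizers

Elements with 2-part conjugate to `z` number `[G : C(z)]` times the elements of odd order in `C(z)`.
With an elementary abelian Sylow 2-subgroup `S` the proportion of elements of odd order is that
of `N(S)`.
-/

set_option autoImplicit false
set_option linter.style.haveILetI false
set_option linter.unusedSectionVars false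

namespace Cfsg.Agent.DegreeThreeP

open scoped Classical

universe u

variable {X : Type u} [Group X] [Finite X]

/-- The number of elements of odd order. -/
noncomputable def oddCount (H : Subgroup X) : ℕ := Nat.card {x : H // Odd (orderOf x)}

/-- `u` is `z' e` with `z'` conjugate to `z` and `e` of odd order commuting with `z'`. -/
def PartConj (z u : X) : Prop :=
  ∃ z' e : X, IsConj z z' ∧ Odd (orderOf e) ∧ Commute z' e ∧ u = z' * e

theorem exists_parts (u : X) :
    ∃ z e : X, (∃ k : ℕ, z ^ 2 ^ k = 1) ∧ Odd (orderOf e) ∧ Commute z e ∧ u = z * e := by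
  obtain ⟨k, m, hm, e⟩ := Nat.exists_eq_two_pow_mul_odd (orderOf_pos u).ne'
  obtain ⟨a, b, hab⟩ : IsCoprime (m : ℤ) ((2 ^ k : ℕ) : ℤ) :=
    Nat.isCoprime_iff_coprime.2 (Nat.Coprime.pow_right k (Nat.coprime_two_right.2 hm))
  refine ⟨u ^ (a * m), u ^ (b * (2 ^ k : ℕ)), ⟨k, ?_⟩, ?_, (Commute.refl u).zpow_zpow _ _, ?_⟩
  · rw [← zpow_natCast, ← zpow_mul, mul_assoc, ← Nat.cast_mul, mul_comm m, ← e, mul_comm,
      zpow_mul, zpow_natCast, pow_orderOf_eq_one, one_zpow]
  · refine hm.of_dvd_nat (orderOf_dvd_of_pow_eq_one ?_)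
    rw [← zpow_natCast, ← zpow_mul, mul_assoc, ← Nat.cast_mul, ← e, mul_comm,
      zpow_mul, zpow_natCast, pow_orderOf_eq_one, one_zpow]
  · rw [← zpow_add, hab, zpow_one]

theorem parts_unique {z z' e e' : X} (hz : ∃ k : ℕ, z ^ 2 ^ k = 1) (hz' : ∃ k : ℕ, z' ^ 2 ^ k = 1)
    (he : Odd (orderOf e)) (he' : Odd (orderOf e')) (hc : Commute z e) (hc' : Commute z' e')
    (h : z * e = z' * e') : z = z' ∧ e = e' := by
  obtain ⟨k, hk⟩ := hz
  obtain ⟨k', hk'⟩ := hz'
  obtain ⟨N, hN⟩ : ∃ N, N = orderOf e * orderOf e' := ⟨_, rfl⟩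
  have h1 : z ^ N = z' ^ N := by
    have a1 : e ^ N = 1 := by rw [hN, pow_mul, pow_orderOf_eq_one, one_pow]
    have a2 : e' ^ N = 1 := by rw [hN, mul_comm, pow_mul, pow_orderOf_eq_one, one_pow]
    have := congrArg (· ^ N) h
    simpa [hc.mul_pow, hc'.mul_pow, a1, a2] using this
  have hodd : Odd N := hN ▸ he.mul he'
  obtain ⟨a, b, hab⟩ : IsCoprime (N : ℤ) ((2 ^ (k + k') : ℕ) : ℤ) :=
    Nat.isCoprime_iff_coprime.2 (Nat.Coprime.pow_right _ (Nat.coprime_two_right.2 hodd))
  have key : ∀ w : X, w ^ 2 ^ (k + k') = 1 → w = (w ^ N) ^ a := fun w hw => by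
    conv_lhs => rw [← zpow_one w, ← hab, zpow_add, mul_comm b, zpow_mul w _ b, zpow_natCast, hw,
      one_zpow, mul_one, mul_comm a, zpow_mul, zpow_natCast]
  have hz1 : z = z' := by
    rw [key z (by rw [pow_add, pow_mul, hk, one_pow]),
      key z' (by rw [pow_add, mul_comm, pow_mul, hk', one_pow]), h1]
  refine ⟨hz1, ?_⟩
  rw [hz1] at h
  exact mul_left_cancel h

theorem oddCount_centralizer_conj {z z' : X} (h : IsConj z z') :
    oddCount (Subgroup.centralizer ({z'} : Set X)) =
      oddCount (Subgroup.centralizer ({z} : Set X)) := by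
  obtain ⟨g, hg⟩ := isConj_iff.1 h
  have hmem : ∀ x : X, x ∈ Subgroup.centralizer ({z} : Set X) ↔
      MulAut.conj g x ∈ Subgroup.centralizer ({z'} : Set X) := fun x => by
    rw [Subgroup.mem_centralizer_singleton_iff, Subgroup.mem_centralizer_singleton_iff, ← hg,
      show g * z * g⁻¹ = MulAut.conj g z from rfl, ← map_mul, ← map_mul]
    exact (MulAut.conj g).injective.eq_iff.symm
  refine Nat.card_congr (Equiv.symm (((MulAut.conj g).toEquiv.subtypeEquiv fun x => hmem x).subtypeEquiv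
    fun x => ?_))
  rw [← Subgroup.orderOf_coe, ← Subgroup.orderOf_coe]
  exact ⟨fun h' => by
      show Odd (orderOf (MulAut.conj g (x : X)))
      rwa [MulEquiv.orderOf_eq], fun h' => by
      rw [show orderOf (x : X) = orderOf (MulAut.conj g (x : X)) from
        (MulEquiv.orderOf_eq _ _).symm]
      exact h'⟩

/-- The elements whose 2-part is conjugate to `z`. -/
theorem card_partConj {z : X} (hz : ∃ k : ℕ, z ^ 2 ^ k = 1) :
    Nat.card {u : X // PartConj z u} * Nat.card (Subgroup.centralizer ({z} : Set X)) =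
      Nat.card X * oddCount (Subgroup.centralizer ({z} : Set X)) := by
  haveI := Fintype.ofFinite X
  let F : (Σ z' : {h : X // IsConj z h},
      {e : Subgroup.centralizer ({(z' : X)} : Set X) // Odd (orderOf e)}) → {u : X // PartConj z u} :=
    fun w => ⟨(w.1 : X) * (w.2.1 : X), w.1, w.2.1, w.1.2, by
      rw [Subgroup.orderOf_coe]; exact w.2.2,
      (Subgroup.mem_centralizer_singleton_iff.1 w.2.1.2).symm, rfl⟩
  have hF : Function.Bijective F := by
    constructor
    · rintro ⟨⟨z₁, h₁⟩, ⟨⟨e₁, m₁⟩, o₁⟩⟩ ⟨⟨z₂, h₂⟩, ⟨⟨e₂, m₂⟩, o₂⟩⟩ h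
      have h' : z₁ * e₁ = z₂ * e₂ := congrArg Subtype.val h
      rw [Subgroup.orderOf_mk] at o₁ o₂
      have hz' : ∀ w : X, IsConj z w → ∃ k : ℕ, w ^ 2 ^ k = 1 := fun w hw => by
        obtain ⟨k, hk⟩ := hz
        obtain ⟨g, rfl⟩ := isConj_iff.1 hw
        exact ⟨k, by rw [conj_pow, hk]; group⟩
      obtain ⟨rfl, rfl⟩ := parts_unique (hz' _ h₁) (hz' _ h₂) o₁ o₂
        (Subgroup.mem_centralizer_singleton_iff.1 m₁).symm
        (Subgroup.mem_centralizer_singleton_iff.1 m₂).symm h'
      rfl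
    · rintro ⟨_, z', e, hz', he, hc, rfl⟩
      exact ⟨⟨⟨z', hz'⟩, ⟨⟨e, Subgroup.mem_centralizer_singleton_iff.2 hc.eq.symm⟩,
        by rw [Subgroup.orderOf_mk]; exact he⟩⟩, rfl⟩
  rw [← Nat.card_congr (Equiv.ofBijective F hF), Nat.card_sigma,
    Finset.sum_congr rfl fun (z' : {h : X // IsConj z h}) _ =>
      show Nat.card {e : Subgroup.centralizer ({(z' : X)} : Set X) // Odd (orderOf e)} =
        oddCount (Subgroup.centralizer ({z} : Set X)) from oddCount_centralizer_conj z'.2,
    Finset.sum_const, Finset.card_univ, smul_eq_mul, ← Nat.card_eq_fintype_card,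
    ← Char.card_centralizer_mul_card_conj z]
  ring

/-- Frobenius: the odd part of the order divides the number of elements of odd order. -/
theorem dvd_oddCount {H : Subgroup X} {k m : ℕ} (hm : Odd m) (hH : Nat.card H = 2 ^ k * m) :
    m ∣ oddCount H := by
  have h := S3993.result (G := H) m (hH ▸ dvd_mul_left m _)
  have e : Nat.card {g : H // g ^ m = 1} = oddCount H := by
    refine Nat.card_congr (Equiv.subtypeEquivRight fun g => ⟨fun hg => ?_, fun hg => ?_⟩)
    · exact hm.of_dvd_nat (orderOf_dvd_of_pow_eq_one hg)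
    · refine orderOf_dvd_iff_pow_eq_one.1 ?_
      exact (Nat.Coprime.pow_right k (Nat.coprime_two_right.2 hg)).dvd_of_dvd_mul_left
        (hH ▸ orderOf_dvd_natCard g)
  rwa [e] at h

theorem oddCount_pos (H : Subgroup X) : 0 < oddCount H := by
  haveI : Nonempty {x : H // Odd (orderOf x)} := ⟨⟨1, by simp⟩⟩
  exact Nat.card_pos

/-- The proportion of elements of odd order. -/
noncomputable def oddRatio (H : Subgroup X) : ℚ := (oddCount H : ℚ) / Nat.card H

theorem oddCount_map {H : Subgroup X} (K : Subgroup H) :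
    oddCount (K.map H.subtype) = oddCount K := by
  refine (Nat.card_congr
    (((K.equivMapOfInjective H.subtype H.subtype_injective).toEquiv).subtypeEquiv fun x => ?_)).symm
  show Odd (orderOf x) ↔ Odd (orderOf (K.equivMapOfInjective H.subtype H.subtype_injective x))
  rw [MulEquiv.orderOf_eq]

theorem oddRatio_map {H : Subgroup X} (K : Subgroup H) :
    oddRatio (K.map H.subtype) = oddRatio K := by
  rw [oddRatio, oddRatio, oddCount_map, Subgroup.card_map_of_injective H.subtype_injective]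

/-- The number of conjugates of `z` in `S`. -/
noncomputable def fuseCount (S : Subgroup X) (z : X) : ℕ :=
  Nat.card {s : S // IsConj z (s : X)}

/-- The class equation by 2-parts. -/
theorem ratio_equation [Fintype X] (S : Sylow 2 X) (hexp : ∀ s ∈ (S : Subgroup X), s * s = 1) :
    ∑ z : (S : Subgroup X), oddRatio (Subgroup.centralizer ({(z : X)} : Set X)) /
      (fuseCount (S : Subgroup X) (z : X) : ℚ) = 1 := by
  haveI : Fact (Nat.Prime 2) := ⟨Nat.prime_two⟩
  have hX : (Nat.card X : ℚ) ≠ 0 := Nat.cast_ne_zero.2 Nat.card_pos.ne'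
  have hz2 : ∀ z : (S : Subgroup X), ∃ k : ℕ, (z : X) ^ 2 ^ k = 1 := fun z =>
    ⟨1, by rw [pow_one, pow_two]; exact hexp z z.2⟩
  have hterm : ∀ z : (S : Subgroup X),
      (Nat.card X : ℚ) * (oddRatio (Subgroup.centralizer ({(z : X)} : Set X)) /
        (fuseCount (S : Subgroup X) (z : X) : ℚ)) =
      ∑ u : X, if PartConj (z : X) u then (fuseCount (S : Subgroup X) (z : X) : ℚ)⁻¹ else 0 := by
    intro z
    rw [← Finset.sum_filter, Finset.sum_const, nsmul_eq_mul, ← Fintype.card_subtype,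
      ← Nat.card_eq_fintype_card]
    have h := congrArg (fun k : ℕ => (k : ℚ)) (card_partConj (hz2 z))
    push_cast at h
    have hC : (Nat.card (Subgroup.centralizer ({(z : X)} : Set X)) : ℚ) ≠ 0 :=
      Nat.cast_ne_zero.2 Nat.card_pos.ne'
    rw [oddRatio, div_div, mul_div_assoc', div_eq_iff (mul_ne_zero hC (by
      haveI : Nonempty {s : (S : Subgroup X) // IsConj (z : X) (s : X)} := ⟨⟨z, IsConj.refl _⟩⟩
      exact Nat.cast_ne_zero.2 (Nat.card_pos (α := {s : (S : Subgroup X) // IsConj (z : X) (s : X)})).ne'))]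
    have hc0 : (fuseCount (S : Subgroup X) (z : X) : ℚ) ≠ 0 := by
      haveI : Nonempty {s : (S : Subgroup X) // IsConj (z : X) (s : X)} := ⟨⟨z, IsConj.refl _⟩⟩
      exact Nat.cast_ne_zero.2 (Nat.card_pos (α := {s : (S : Subgroup X) // IsConj (z : X) (s : X)})).ne'
    field_simp
    linear_combination -h
  have hone : ∀ u : X, (∑ z : (S : Subgroup X),
      if PartConj (z : X) u then (fuseCount (S : Subgroup X) (z : X) : ℚ)⁻¹ else 0) = 1 := by
    intro u
    obtain ⟨w, e, ⟨k, hk⟩, he, hc, rfl⟩ := exists_parts u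
    obtain ⟨j, -, hj⟩ := (Nat.dvd_prime_pow Nat.prime_two).1 (orderOf_dvd_of_pow_eq_one hk)
    obtain ⟨Q, hQ⟩ := (IsPGroup.of_card (n := j) (G := Subgroup.zpowers w)
      (by rw [Nat.card_zpowers, hj])).exists_le_sylow
    obtain ⟨g, hg⟩ := MulAction.exists_smul_eq X Q S
    have hwS : g * w * g⁻¹ ∈ (S : Subgroup X) := by
      rw [← hg, Sylow.coe_subgroup_smul]
      exact Subgroup.smul_mem_pointwise_smul w (MulAut.conj g) _ (hQ (Subgroup.mem_zpowers w))
    set z₀ : (S : Subgroup X) := ⟨g * w * g⁻¹, hwS⟩ with hz₀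
    have hw0 : IsConj (z₀ : X) w := (isConj_iff.2 ⟨g, rfl⟩ : IsConj w (z₀ : X)).symm
    have hiff : ∀ z : (S : Subgroup X), PartConj (z : X) (w * e) ↔ IsConj (z₀ : X) (z : X) := by
      intro z
      constructor
      · rintro ⟨w', e', hw', he', hc', heq⟩
        have hw'2 : ∃ k : ℕ, w' ^ 2 ^ k = 1 := by
          obtain ⟨i, rfl⟩ := isConj_iff.1 hw'
          obtain ⟨i', hi'⟩ := hz2 z
          exact ⟨i', by rw [conj_pow, hi']; group⟩
        obtain ⟨rfl, -⟩ := parts_unique ⟨k, hk⟩ hw'2 he he' hc hc' heq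
        exact hw0.trans hw'.symm
      · intro h
        exact ⟨w, e, h.symm.trans hw0, he, hc, rfl⟩
    have hval : ∀ z : (S : Subgroup X), IsConj (z₀ : X) (z : X) →
        fuseCount (S : Subgroup X) (z : X) = fuseCount (S : Subgroup X) (z₀ : X) := fun z h =>
      Nat.card_congr (Equiv.subtypeEquivRight fun s => ⟨fun h' => h.trans h', fun h' => h.symm.trans h'⟩)
    rw [Finset.sum_congr rfl fun (z : (S : Subgroup X)) _ => show (if PartConj (z : X) (w * e) then
        (fuseCount (S : Subgroup X) (z : X) : ℚ)⁻¹ else 0) =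
        if IsConj (z₀ : X) (z : X) then (fuseCount (S : Subgroup X) (z₀ : X) : ℚ)⁻¹ else 0 by
      by_cases h : IsConj (z₀ : X) (z : X)
      · rw [if_pos h, if_pos ((hiff z).2 h), hval z h]
      · rw [if_neg h, if_neg fun h' => h ((hiff z).1 h')],
      ← Finset.sum_filter, Finset.sum_const, nsmul_eq_mul, ← Fintype.card_subtype,
      ← Nat.card_eq_fintype_card]
    haveI : Nonempty {s : (S : Subgroup X) // IsConj (z₀ : X) (s : X)} := ⟨⟨z₀, IsConj.refl _⟩⟩
    exact mul_inv_cancel₀ (Nat.cast_ne_zero.2 Nat.card_pos.ne')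
  refine mul_left_cancel₀ hX ?_
  rw [Finset.mul_sum, Finset.sum_congr rfl fun z _ => hterm z, Finset.sum_comm,
    Finset.sum_congr rfl fun u _ => hone u, Finset.sum_const, Finset.card_univ, nsmul_eq_mul,
    Nat.card_eq_fintype_card]

/-- In a subgroup containing `S`. -/
theorem ratio_equation_sub [Fintype X] (S : Sylow 2 X) (hexp : ∀ s ∈ (S : Subgroup X), s * s = 1)
    {H : Subgroup X} (hS : (S : Subgroup X) ≤ H) :
    ∑ z : (S : Subgroup X), oddRatio (H ⊓ Subgroup.centralizer ({(z : X)} : Set X)) /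
      (Nat.card {s : (S : Subgroup X) // ∃ g ∈ H, g * (z : X) * g⁻¹ = (s : X)} : ℚ) = 1 := by
  haveI : Fact (Nat.Prime 2) := ⟨Nat.prime_two⟩
  haveI := Fintype.ofFinite H
  set S' : Sylow 2 H := S.subtype hS with hS'
  have h := ratio_equation S' fun s hs => Subtype.ext (hexp (s : X) hs)
  rw [← h]
  let e : (S' : Subgroup H) ≃ (S : Subgroup X) := (Subgroup.subgroupOfEquivOfLe hS).toEquiv
  refine (Fintype.sum_equiv e _ _ fun z => ?_).symm
  have hz : ((e z : (S : Subgroup X)) : X) = ((z : H) : X) := rfl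
  rw [hz, ← oddRatio_map (Subgroup.centralizer ({(z : H)} : Set H))]
  congr 1
  · congr 1
    ext x
    simp only [Subgroup.mem_map, Subgroup.mem_inf, Subgroup.mem_centralizer_singleton_iff]
    constructor
    · rintro ⟨y, hy, rfl⟩
      exact ⟨y.2, congrArg Subtype.val hy⟩
    · rintro ⟨hx, hxz⟩
      exact ⟨⟨x, hx⟩, Subtype.ext hxz, rfl⟩
  · congr 1
    refine Nat.card_congr (e.subtypeEquiv fun s => ?_)
    rw [isConj_iff]
    constructor
    · rintro ⟨g, hg⟩
      exact ⟨g, g.2, congrArg Subtype.val hg⟩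
    · rintro ⟨g, hg, he⟩
      exact ⟨⟨g, hg⟩, Subtype.ext he⟩

/-- The proportion of elements of odd order is that of the normalizer. -/
theorem oddRatio_normalizer [Fintype X] (S : Sylow 2 X)
    (hexp : ∀ s ∈ (S : Subgroup X), s * s = 1) :
    ∀ (n : ℕ) (H : Subgroup X), Nat.card H = n → (S : Subgroup X) ≤ H →
      oddRatio H = oddRatio (H ⊓ Subgroup.normalizer ((S : Subgroup X) : Set X)) := by
  haveI : Fact (Nat.Prime 2) := ⟨Nat.prime_two⟩
  intro n
  induction n using Nat.strong_induction_on with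
  | _ n ih =>
    intro H hn hS
    set N := Subgroup.normalizer ((S : Subgroup X) : Set X) with hN
    have hSN : (S : Subgroup X) ≤ H ⊓ N := le_inf hS Subgroup.le_normalizer
    have hcomm : ∀ a ∈ (S : Subgroup X), ∀ b ∈ (S : Subgroup X), a * b = b * a := by
      intro a ha b hb
      have h1 := hexp _ (Subgroup.mul_mem _ ha hb)
      calc a * b = (a * b)⁻¹ := eq_inv_of_mul_eq_one_left h1
        _ = b * a := by
          rw [mul_inv_rev, inv_eq_of_mul_eq_one_right (hexp a ha),
            inv_eq_of_mul_eq_one_right (hexp b hb)]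
    have eH := ratio_equation_sub S hexp hS
    have eN := ratio_equation_sub S hexp hSN
    have hfuse : ∀ z : (S : Subgroup X),
        Nat.card {s : (S : Subgroup X) // ∃ g ∈ H, g * (z : X) * g⁻¹ = (s : X)} =
          Nat.card {s : (S : Subgroup X) // ∃ g ∈ H ⊓ N, g * (z : X) * g⁻¹ = (s : X)} := by
      intro z
      refine Nat.card_congr (Equiv.subtypeEquivRight fun s => ⟨?_, fun ⟨g, hg, h⟩ => ⟨g, hg.1, h⟩⟩)
      rintro ⟨g, hg, h⟩
      haveI : IsMulCommutative ((S.subtype hS : Sylow 2 H) : Subgroup H) :=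
        ⟨⟨fun a b => Subtype.ext (Subtype.ext (hcomm _ a.2 _ b.2))⟩⟩
      obtain ⟨m, hm, hme⟩ := (S.subtype hS).conj_eq_normalizer_conj_of_mem
        (⟨z, hS z.2⟩ : H) (⟨g, hg⟩⁻¹ : H) z.2
        (show ((⟨g, hg⟩ : H)⁻¹)⁻¹ * ⟨z, hS z.2⟩ * (⟨g, hg⟩ : H)⁻¹ ∈ S.subtype hS by
          rw [inv_inv]
          show g * (z : X) * g⁻¹ ∈ (S : Subgroup X)
          rw [h]; exact s.2)
      refine ⟨(m : X)⁻¹, ⟨H.inv_mem m.2, Subgroup.inv_mem _ ?_⟩, ?_⟩
      · rw [hN, Subgroup.mem_normalizer_iff]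
        intro x
        have h1 := Subgroup.mem_normalizer_iff.1 hm
        constructor
        · intro hx
          exact ((h1 ⟨x, hS hx⟩).1 hx : _)
        · intro hx
          have hxH : x ∈ H := by
            have := H.mul_mem (H.mul_mem (H.inv_mem m.2) (hS hx)) m.2
            rwa [show (m : X)⁻¹ * ((m : X) * x * (m : X)⁻¹) * m = x by group] at this
          exact ((h1 ⟨x, hxH⟩).2 hx : _)
      · have h2 := congrArg (fun w : H => (w : X)) hme
        simp only [inv_inv, Subgroup.coe_mul, Subgroup.coe_inv] at h2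
        rw [inv_inv, ← h2, h]
    rw [Finset.sum_congr rfl fun z _ => by rw [hfuse z]] at eH
    let Z := Finset.univ.filter fun z : (S : Subgroup X) =>
      H ≤ Subgroup.centralizer ({(z : X)} : Set X)
    have hrest : ∀ z ∈ (Finset.univ : Finset (S : Subgroup X)),
        oddRatio (H ⊓ Subgroup.centralizer ({(z : X)} : Set X)) -
          oddRatio (H ⊓ N ⊓ Subgroup.centralizer ({(z : X)} : Set X)) =
        if z ∈ Z then oddRatio H - oddRatio (H ⊓ N) else 0 := by
      intro z _
      by_cases hz : z ∈ Z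
      · have hle : H ≤ Subgroup.centralizer ({(z : X)} : Set X) := (Finset.mem_filter.1 hz).2
        rw [if_pos hz, inf_eq_left.2 hle, inf_eq_left.2 (inf_le_left.trans hle)]
      · rw [if_neg hz, sub_eq_zero]
        have hlt : H ⊓ Subgroup.centralizer ({(z : X)} : Set X) < H :=
          inf_lt_left.2 fun h => hz (Finset.mem_filter.2 ⟨Finset.mem_univ _, h⟩)
        have hcard : Nat.card ↥(H ⊓ Subgroup.centralizer ({(z : X)} : Set X)) < n := by
          refine hn ▸ lt_of_le_of_ne (Subgroup.card_le_of_le hlt.le) fun h => hlt.ne ?_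
          exact Subgroup.eq_of_le_of_card_ge hlt.le h.ge
        have hSz : (S : Subgroup X) ≤ H ⊓ Subgroup.centralizer ({(z : X)} : Set X) :=
          le_inf hS fun s hs => Subgroup.mem_centralizer_singleton_iff.2 (hcomm s hs _ z.2)
        rw [ih _ hcard _ rfl hSz, inf_right_comm]
    have hfin : ∀ z : (S : Subgroup X),
        (Nat.card {s : (S : Subgroup X) // ∃ g ∈ H ⊓ N, g * (z : X) * g⁻¹ = (s : X)} : ℚ) ≠ 0 := by
      intro z
      haveI : Nonempty {s : (S : Subgroup X) // ∃ g ∈ H ⊓ N, g * (z : X) * g⁻¹ = (s : X)} :=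
        ⟨⟨z, 1, one_mem _, by simp⟩⟩
      exact Nat.cast_ne_zero.2 Nat.card_pos.ne'
    have hdiff := sub_eq_zero.2 (eH.trans eN.symm)
    rw [← Finset.sum_sub_distrib, Finset.sum_congr rfl fun z hz => by
      rw [← sub_div, hrest z hz, ite_div, zero_div], ← Finset.sum_filter] at hdiff
    have hone : (1 : (S : Subgroup X)) ∈ Finset.univ.filter (fun z => z ∈ Z) := by
      simp only [Z, Finset.mem_filter, Finset.mem_univ, true_and, Subgroup.coe_one]
      exact fun x _ => Subgroup.mem_centralizer_singleton_iff.2 (by rw [mul_one, one_mul])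
    have hfactor : (oddRatio H - oddRatio (H ⊓ N)) *
        ∑ z ∈ Finset.univ.filter (fun z => z ∈ Z),
          (Nat.card {s : (S : Subgroup X) // ∃ g ∈ H ⊓ N, g * (z : X) * g⁻¹ = (s : X)} : ℚ)⁻¹ = 0 := by
      rw [Finset.mul_sum]
      simpa [div_eq_mul_inv] using hdiff
    refine sub_eq_zero.1 ((mul_eq_zero.1 hfactor).resolve_right (ne_of_gt ?_))
    exact Finset.sum_pos (fun z _ => inv_pos.2 (lt_of_le_of_ne (Nat.cast_nonneg _) (hfin z).symm))
      ⟨1, hone⟩

end Cfsg.Agent.DegreeThreeP
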