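import Cfsg.Agent.Lib.DegreeThreeP.CaseThreeInvol
import Cfsg.Agent.Lib.DegreeThreeP.OddProportion

/-!
# Degree `3p`, `π = 1 + χ`: `J ≥ 6`, and `p ≡ 1 (mod 4)` is impossible
-/

set_option autoImplicit false
set_option linter.style.haveILetI false
set_option linter.unusedSectionVars false

namespace Cfsg.Agent.DegreeThreeP

open Cfsg Cfsg.Agent MulAction
open scoped ComplexConjugate Classical

universe u v

variable {G : Type u} [Group G] [Fintype G] [IsSimpleGroup G] {p : ℕ} [hp : Fact p.Prime]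
  {P : Sylow p G} {α : Type v} [MulAction G α] [Fintype α]

/-- An element of even order is `p`-regular. -/
theorem Three.regular_of_even (D : Three P α) {u : G} (h : 2 ∣ orderOf u) : IsPRegular p u := by
  intro hpu
  obtain ⟨x, hx, -⟩ := DegreePSubTwo.exists_conj_mem D.B.sc (fun h' => h' hpu)
  have h1 : orderOf (x⁻¹ * u * x) ∣ p := D.B.sc.card ▸ Subgroup.orderOf_dvd_natCard _ hx
  rw [show x⁻¹ * u * x = MulAut.conj x⁻¹ u by simp, MulEquiv.orderOf_eq] at h1
  have := h.trans h1
  have := D.B.five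
  rcases (Nat.dvd_prime hp.out).1 ‹2 ∣ p› with h' | h' <;> omega

/-- The fixed points of a product of commuting elements of coprime orders. -/
theorem fixed_mul {z e : G} (hz : z * z = 1) (he : Odd (orderOf e)) (hc : Commute z e) {a : α}
    (h : (z * e) • a = a) : z • a = a ∧ e • a = a := by
  obtain ⟨k, hk⟩ := he
  have h1 : (z * e) ^ (2 * k + 1) = z := by
    rw [hc.mul_pow, ← hk, pow_orderOf_eq_one, mul_one, hk, pow_succ, pow_mul, pow_two, hz, one_pow,
      one_mul]
  have hza : z • a = a := by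
    rw [← h1]
    exact mem_stabilizer_iff.1 (Subgroup.pow_mem (stabilizer G a) (mem_stabilizer_iff.2 h) _)
  refine ⟨hza, ?_⟩
  calc e • a = (z * z) • (e • a) := by rw [hz, one_smul]
    _ = z • ((z * e) • a) := by rw [mul_smul z e, mul_smul z z]
    _ = a := by rw [h, hza]

/-- The sums, with `c = 1`. -/
structure Three.Moments (D : Three P α) (I : D.Inv) : Prop where
  card : ((regSet G p).card : ℤ) = Nat.card (Sylow p G) * ((p : ℤ) + 1) - 1
  n_eq : 2 * (Nat.card (Sylow p G) : ℤ) = (3 * p - 1) * (3 * p - 2) * ((I.J : ℤ) * I.J)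
  six : 6 ≤ I.J
  one_sub : ∑ g ∈ regSet G p, (1 - D.v g) =
    (3 * (p : ℤ) - 2) * ((3 * p - 1) * ((I.J : ℤ) * I.J) + 1)
  two : ∑ g ∈ regSet G p, D.v g * (D.v g - 1) =
    (3 * (p : ℤ) - 1) * (3 * p - 2) * ((I.J : ℤ) * I.J - 1)
  three : ∑ g ∈ regSet G p, (D.v g + 1) * (D.v g * (D.v g - 1)) =
    (p : ℤ) * ((3 * p - 1) * (3 * p - 2) * ((I.J : ℤ) * I.J)) -
      (3 * p - 1) * ((3 * p - 1) ^ 2 - 1)
  bound : ∀ g ∈ regSet G p, 2 * D.v g ≤ 3 * (p : ℤ) - 3

theorem Three.Inv.moments [IsPretransitive G α] (D : Three P α) (I : D.Inv) : D.Moments I := by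
  have h5 := D.B.five
  obtain ⟨c, hc, h0, h1, h2, h3⟩ := D.sums
  obtain ⟨n, hn⟩ : ∃ n, n = (Nat.card (Sylow p G) : ℤ) := ⟨_, rfl⟩
  rw [← hn] at h0 h1 h2 h3
  obtain ⟨Q, hQ⟩ : ∃ Q, Q = (I.J : ℤ) * I.J := ⟨_, rfl⟩
  have hneq : 2 * n = (3 * (p : ℤ) - 1) * (3 * p - 2) * Q := by
    have h := D.card_G
    rw [I.order] at h
    have hz : (p : ℤ) * (3 * p - 1) * (3 * p - 2) * Q = n * (2 * p) := by
      have h' := congrArg (fun k : ℕ => (k : ℤ)) h
      push_cast [Nat.cast_sub (show 1 ≤ 3 * p by omega), Nat.cast_sub (show 2 ≤ 3 * p by omega)] at h'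
      rw [hn, hQ]
      exact h'
    refine mul_left_cancel₀ (show (p : ℤ) ≠ 0 by exact_mod_cast hp.out.ne_zero) ?_
    linear_combination -hz
  have hodd : ¬ 2 ∣ 3 * p := by
    obtain ⟨k, hk⟩ := hp.out.odd_of_ne_two (by omega)
    omega
  have hbound : ∀ g ∈ regSet G p, 2 * D.v g ≤ 3 * (p : ℤ) - 3 := fun g hg => by
    obtain ⟨hr, hg1⟩ := mem_regSet.1 hg
    have := I.half g hr hg1
    rw [Three.v]
    omega
  have hJ3 : 3 ≤ I.J := Nat.le_of_dvd I.Jpos I.three
  have hQ9 : 9 ≤ Q := by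
    rw [hQ]
    exact_mod_cast Nat.mul_le_mul hJ3 hJ3
  have hp5 : (5 : ℤ) ≤ p := by exact_mod_cast h5
  have hfg0 : 0 < (3 * (p : ℤ) - 1) * (3 * p - 2) := mul_pos (by omega) (by omega)
  have hc1 : c = 1 := by
    by_contra hne
    have hcz : (2 : ℤ) ≤ c := by exact_mod_cast (show 2 ≤ c by omega)
    have hlow : ∀ g ∈ regSet G p, (3 * (p : ℤ) + 1) * (D.v g * (D.v g - 1)) ≤
        2 * (3 * p) * (D.v g * (D.v g - 1)) - 2 * ((D.v g + 1) * (D.v g * (D.v g - 1))) := by
      intro g hg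
      have := hbound g hg
      have h0' : 0 ≤ D.v g * (D.v g - 1) := by
        rcases le_or_gt (D.v g) 0 with h | h
        · exact mul_nonneg_of_nonpos_of_nonpos h (by omega)
        · exact mul_nonneg (by omega) (by omega)
      nlinarith [mul_le_mul_of_nonneg_right
        (show (3 * (p : ℤ) + 1) + 2 * (D.v g + 1) ≤ 2 * (3 * p) by omega) h0']
    have hs := Finset.sum_le_sum hlow
    rw [← Finset.mul_sum, Finset.sum_sub_distrib, ← Finset.mul_sum, ← Finset.mul_sum, h2, h3] at hs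
    have hpn : (0 : ℤ) < p * n := mul_pos (by omega) (by
      rw [hn]; exact_mod_cast Nat.card_pos)
    have e1 : (3 * (p : ℤ) + 1) * ((3 * p - 1) * (3 * p - 2) * (Q - 1)) ≤
        2 * p * ((3 * p - 1) * (3 * p - 2) * Q) := by
      nlinarith [hs, hneq, mul_le_mul_of_nonneg_left hcz hpn.le]
    have e2 : (3 * (p : ℤ) + 1) * (Q - 1) ≤ 2 * p * Q := by
      refine le_of_mul_le_mul_left ?_ hfg0
      linarith
    nlinarith [e2, mul_nonneg (show (0 : ℤ) ≤ Q - 9 by omega) (show (0 : ℤ) ≤ p + 1 by omega)]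
  refine ⟨by rw [← hn]; exact h0, by rw [← hn, ← hQ]; exact hneq, ?_, ?_, ?_, ?_, hbound⟩
  · by_contra hlt
    obtain ⟨k, hk⟩ := I.three
    have hJ : I.J = 3 := by omega
    have hmod : (Nat.card (Sylow p G) : ℤ) ≡ 1 [ZMOD p] := by
      have := card_sylow_modEq_one p G
      exact_mod_cast Int.natCast_modEq_iff.2 this
    obtain ⟨i, hi⟩ := hmod.symm.dvd
    rw [← hn] at hi
    rw [hQ, hJ] at hneq
    push_cast at hneq
    have hd : (p : ℤ) ∣ ((16 : ℕ) : ℤ) := by
      refine ⟨2 * i - 9 * (9 * p - 9), ?_⟩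
      push_cast
      linear_combination 2 * hi - hneq
    have hd' : p ∣ 2 ^ 4 := Int.natCast_dvd_natCast.1 hd
    have := (Nat.prime_dvd_prime_iff_eq hp.out Nat.prime_two).1 (hp.out.dvd_of_dvd_pow hd')
    omega
  · rw [Finset.sum_sub_distrib, Finset.sum_const, nsmul_eq_mul, mul_one, h0, h1, ← hQ]
    linear_combination hneq
  · rw [h2, ← hQ]
    linear_combination hneq
  · rw [h3, hc1, ← hQ]
    push_cast
    linear_combination (p : ℤ) * hneq

/-- A 2-subgroup with three fixed points. -/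
theorem exists_fixing_three (hcard : Nat.card α % 4 = 3) (T : Subgroup G) (hT : IsPGroup 2 T) :
    ∃ T₁ : Subgroup G, T₁ ≤ T ∧ Nat.card T ∣ 2 * Nat.card T₁ ∧
      ∃ a b c : α, a ≠ b ∧ a ≠ c ∧ b ≠ c ∧ ∀ x ∈ T₁, x • a = a ∧ x • b = b ∧ x • c = c := by
  haveI : Fact (Nat.Prime 2) := ⟨Nat.prime_two⟩
  have hthree : ∀ (T₁ : Subgroup G) (hT₁ : IsPGroup 2 T₁) (a b : α), a ≠ b →
      (∀ x ∈ T₁, x • a = a) → (∀ x ∈ T₁, x • b = b) →
      ∃ a b c : α, a ≠ b ∧ a ≠ c ∧ b ≠ c ∧ ∀ x ∈ T₁, x • a = a ∧ x • b = b ∧ x • c = c := by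
    intro T₁ hT₁ a b hab ha hb
    have hmod := hT₁.card_modEq_card_fixedPoints α
    have hodd : Nat.card (fixedPoints T₁ α) % 2 = 1 := by
      have : Nat.card α % 2 = Nat.card (fixedPoints T₁ α) % 2 := hmod
      omega
    by_contra hcon
    have hset : fixedPoints T₁ α = ({a, b} : Set α) := by
      ext x
      refine ⟨fun hx => ?_, fun hx t => ?_⟩
      · by_contra hxn
        simp only [Set.mem_insert_iff, Set.mem_singleton_iff, not_or] at hxn
        exact hcon ⟨a, b, x, hab, fun e => hxn.1 e.symm, fun e => hxn.2 e.symm,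
          fun t ht => ⟨ha t ht, hb t ht, hx ⟨t, ht⟩⟩⟩
      · rcases hx with rfl | rfl
        · exact ha t t.2
        · exact hb t t.2
    rw [hset, Nat.card_coe_set_eq, Set.ncard_pair hab] at hodd
    omega
  have hmod := hT.card_modEq_card_fixedPoints α
  have hne : (fixedPoints T α).Nonempty := by
    rw [Set.nonempty_iff_ne_empty]
    intro h
    have h' : Nat.card α % 2 = Nat.card (fixedPoints T α) % 2 := hmod
    rw [h, Nat.card_coe_set_eq, Set.ncard_empty] at h'
    omega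
  obtain ⟨a, ha⟩ := hne
  by_cases hb : ∃ b ∈ fixedPoints T α, b ≠ a
  · obtain ⟨b, hb, hba⟩ := hb
    exact ⟨T, le_rfl, dvd_mul_left _ 2,
      hthree T hT a b hba.symm (fun x hx => ha ⟨x, hx⟩) fun x hx => hb ⟨x, hx⟩⟩
  push Not at hb
  obtain ⟨b, hb2⟩ : ∃ b : α, Nat.card (orbit T b) = 2 := by
    by_contra hno
    push Not at hno
    haveI := Fintype.ofFinite (Quotient (orbitRel T α))
    have hsum := Nat.card_congr (selfEquivSigmaOrbits T α)
    rw [Nat.card_sigma, ← Finset.add_sum_erase _ _ (Finset.mem_univ (Quotient.mk'' a : Quotient (orbitRel T α)))] at hsum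
    have hone : ∀ x : α, Nat.card (orbit T x) = 1 → x ∈ fixedPoints T α := fun x hx t => by
      haveI := (Nat.card_eq_one_iff_unique.1 hx).1
      exact congrArg Subtype.val (Subsingleton.elim (⟨t • x, mem_orbit x t⟩ : orbit T x)
        ⟨x, mem_orbit_self x⟩)
    have h1 : Nat.card (orbit T (Quotient.out (Quotient.mk'' a : Quotient (orbitRel T α)))) = 1 := by
      have hmem : Quotient.out (Quotient.mk'' a : Quotient (orbitRel T α)) ∈ orbit T a :=
        orbitRel_apply.1 (Quotient.exact' (Quotient.out_eq' _))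
      rw [orbit_eq_iff.2 hmem]
      haveI : Subsingleton (orbit T a) := ⟨fun x y => by
        obtain ⟨_, s, rfl⟩ := x
        obtain ⟨_, s', rfl⟩ := y
        exact Subtype.ext ((ha s).trans (ha s').symm)⟩
      haveI : Nonempty (orbit T a) := ⟨⟨a, mem_orbit_self a⟩⟩
      exact Nat.card_eq_one_iff_unique.2 ⟨inferInstance, inferInstance⟩
    have h4 : 4 ∣ ∑ ω ∈ (Finset.univ.erase (Quotient.mk'' a : Quotient (orbitRel T α))),
        Nat.card (orbit T ω.out) := by
      refine Finset.dvd_sum fun ω hω => ?_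
      obtain ⟨i, hi⟩ := hT.card_orbit ω.out
      rcases i with _ | _ | i
      · exfalso
        refine (Finset.mem_erase.1 hω).1 ?_
        rw [← Quotient.out_eq' ω, hb ω.out (hone ω.out (by simpa using hi))]
      · exact absurd (by simpa using hi) (hno ω.out)
      · exact ⟨2 ^ i, by rw [hi, pow_succ, pow_succ]; ring⟩

    obtain ⟨i, hi⟩ := h4
    have hsum' : Nat.card α = 1 + 4 * i := by
      rw [hsum, ← hi, ← h1]
    omega
  have hba : b ≠ a := fun e => by
    subst e
    have : Nat.card (orbit T b) = 1 := by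
      haveI : Subsingleton (orbit T b) := ⟨fun x y => by
        obtain ⟨_, s, rfl⟩ := x
        obtain ⟨_, s', rfl⟩ := y
        exact Subtype.ext ((ha s).trans (ha s').symm)⟩
      haveI : Nonempty (orbit T b) := ⟨⟨b, mem_orbit_self b⟩⟩
      exact Nat.card_eq_one_iff_unique.2 ⟨inferInstance, inferInstance⟩
    omega
  refine ⟨T ⊓ stabilizer G b, inf_le_left, ?_, hthree _ (hT.to_le inf_le_left) a b hba.symm
    (fun x hx => ha ⟨x, hx.1⟩) fun x hx => hx.2⟩
  have h1 := Subgroup.card_mul_index (stabilizer T b)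
  rw [index_stabilizer, ← Nat.card_coe_set_eq, hb2,
    show stabilizer T b = (T ⊓ stabilizer G b).subgroupOf T by
      ext x
      simp [Subgroup.mem_subgroupOf, mem_stabilizer_iff, Subgroup.smul_def],
    Nat.card_congr (Subgroup.subgroupOfEquivOfLe inf_le_left).toEquiv] at h1
  rw [← h1, mul_comm]

/-- For `p ≡ 1 (mod 4)` the centraliser of an involution has 2-part at most 8. -/
theorem Three.Inv.two_part_le (D : Three P α) (I : D.Inv) (hA : I.A = 2) (hp4 : p % 4 = 1)
    {k m : ℕ} (hm : Odd m)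
    (hC : Nat.card (Subgroup.centralizer ({I.t} : Set G)) = 2 ^ k * m) : k ≤ 3 := by
  haveI : Fact (Nat.Prime 2) := ⟨Nat.prime_two⟩
  have h5 := D.B.five
  obtain ⟨j, Jo, hJo, hJ⟩ := Nat.exists_eq_two_pow_mul_odd I.Jpos.ne'
  obtain ⟨e, Po, hPo, hP⟩ := Nat.exists_eq_two_pow_mul_odd (show 3 * (p - 1) ≠ 0 by omega)
  have hfac : ∀ {a b : ℕ}, Odd b → (2 ^ a * b).factorization 2 = a := fun {a b} hb => by
    rw [Nat.factorization_mul (by positivity) (Nat.pos_iff_ne_zero.1 hb.pos), Finsupp.add_apply,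
      Nat.Prime.factorization_pow Nat.prime_two, Finsupp.single_eq_same,
      Nat.factorization_eq_zero_of_not_dvd (Nat.two_dvd_ne_zero.2 (Nat.odd_iff.1 hb)), add_zero]
  obtain ⟨f', hf'⟩ : ∃ f', 3 * p - 1 = 2 * f' ∧ Odd f' :=
    ⟨(3 * p - 1) / 2, by omega, Nat.odd_iff.2 (by omega)⟩
  have hgo : Odd (3 * p - 2) := Nat.odd_iff.2 (by omega)
  have hpo : Odd p := Nat.odd_iff.2 (by omega)
  have hG : Nat.card G = 2 ^ (1 + 2 * j) * (p * f' * (3 * p - 2) * (Jo * Jo)) := by
    rw [I.order, hJ, hf'.1, pow_add, pow_mul']; ring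
  have hC' : Nat.card (Subgroup.centralizer ({I.t} : Set G)) = 2 ^ (j + e) * (Jo * Po) := by
    rw [I.cent, hA, hJ, show 3 * p - 1 - 2 = 3 * (p - 1) by omega, hP, pow_add]; ring
  have hk : k = j + e := by
    have := congrArg (fun x : ℕ => x.factorization 2) (hC.symm.trans hC')
    simpa [hfac hm, hfac (hJo.mul hPo)] using this
  have hko : j + e ≤ 1 + 2 * j := by
    have hd := Subgroup.card_subgroup_dvd_card (Subgroup.centralizer ({I.t} : Set G))
    rw [hC', hG] at hd
    have := (Nat.factorization_le_iff_dvd (Nat.mul_ne_zero (by positivity)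
      (Nat.pos_iff_ne_zero.1 (hJo.mul hPo).pos)) (Nat.mul_ne_zero (by positivity)
      (Nat.pos_iff_ne_zero.1 (((hpo.mul hf'.2).mul hgo).mul (hJo.mul hJo)).pos))).2 hd 2
    rwa [hfac (hJo.mul hPo), hfac (((hpo.mul hf'.2).mul hgo).mul (hJo.mul hJo))] at this
  have he2 : 2 ≤ e := by
    by_contra hlt
    obtain ⟨i, hi⟩ := hPo
    rcases (show e = 0 ∨ e = 1 by omega) with rfl | rfl <;> norm_num at hP <;> omega
  obtain ⟨T⟩ := (inferInstance : Nonempty (Sylow 2 G))
  have hTc : Nat.card (T : Subgroup G) = 2 ^ (1 + 2 * j) := by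
    rw [T.card_eq_multiplicity, hG, hfac (((hpo.mul hf'.2).mul hgo).mul (hJo.mul hJo))]
  obtain ⟨T₁, hT₁T, hdvd, a, b, c, hab, hac, hbc, hfix⟩ :=
    exists_fixing_three (α := α) (by rw [D.card]; omega) (T : Subgroup G) T.2
  obtain ⟨i, hi⟩ := IsPGroup.iff_card.1 (T.2.to_le hT₁T)
  rw [hTc, hi, ← pow_succ', Nat.pow_dvd_pow_iff_le_right (by norm_num)] at hdvd
  -- `T₁` is semiregular off its three fixed points
  have hone : ∀ x ∈ T₁, x ≠ 1 → ∀ d : α, x • d = d → d = a ∨ d = b ∨ d = c := by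
    intro x hx hx1 d hd
    obtain ⟨r, -, hr⟩ := (Nat.dvd_prime_pow Nat.prime_two).1
      (hi ▸ Subgroup.orderOf_dvd_natCard T₁ hx : orderOf x ∣ 2 ^ i)
    obtain ⟨r, rfl⟩ : ∃ r', r = r' + 1 := by
      refine ⟨r - 1, ?_⟩
      rcases r with _ | r
      · exact absurd (orderOf_eq_one_iff.1 hr) hx1
      · rfl
    have hz : orderOf (x ^ 2 ^ r) = 2 := by
      rw [orderOf_pow_of_dvd (by positivity) (by rw [hr]; exact pow_dvd_pow 2 (by omega)), hr,
        pow_succ', Nat.mul_div_cancel _ (by positivity)]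
    obtain ⟨g, hg⟩ := isConj_iff.1 (I.single _ hz)
    have h3 : Nat.card (fixedBy α (x ^ 2 ^ r)) = 3 := by
      have h1 := D.card_fix (x ^ 2 ^ r)
      rw [show x ^ 2 ^ r = g * I.t * g⁻¹ from hg.symm, D.v_conj, I.hA, hA] at h1
      push_cast at h1
      rw [show x ^ 2 ^ r = g * I.t * g⁻¹ from hg.symm]
      exact_mod_cast (h1.trans (by norm_num) : ((Nat.card (fixedBy α (g * I.t * g⁻¹)) : ℤ)) = (3 : ℕ))
    have hset : ({a, b, c} : Set α) = fixedBy α (x ^ 2 ^ r) := by
      refine Set.eq_of_subset_of_ncard_le ?_ ?_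
      · intro z hz'
        have h := Subgroup.pow_mem T₁ hx (2 ^ r)
        rcases hz' with rfl | rfl | rfl
        · exact (hfix _ h).1
        · exact (hfix _ h).2.1
        · exact (hfix _ h).2.2
      · rw [← Nat.card_coe_set_eq (fixedBy α (x ^ 2 ^ r)), h3,
          Set.ncard_eq_three.2 ⟨a, b, c, hab, hac, hbc, rfl⟩]
    have hmem : d ∈ fixedBy α (x ^ 2 ^ r) :=
      mem_stabilizer_iff.1 (Subgroup.pow_mem (stabilizer G d) (mem_stabilizer_iff.2 hd) _)
    rw [← hset] at hmem
    exact hmem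
  let β := {d : α // d ≠ a ∧ d ≠ b ∧ d ≠ c}
  have hinvβ : ∀ (x : T₁) (d : β), (x : G) • (d : α) ≠ a ∧ (x : G) • (d : α) ≠ b ∧
      (x : G) • (d : α) ≠ c := fun x d =>
    ⟨fun h => d.2.1 (smul_left_cancel _ (h.trans (hfix _ x.2).1.symm)),
      fun h => d.2.2.1 (smul_left_cancel _ (h.trans (hfix _ x.2).2.1.symm)),
      fun h => d.2.2.2 (smul_left_cancel _ (h.trans (hfix _ x.2).2.2.symm))⟩
  letI : MulAction T₁ β :=
    { smul := fun x d => ⟨(x : G) • (d : α), hinvβ x d⟩
      one_smul := fun d => Subtype.ext (one_smul G (d : α))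
      mul_smul := fun x y d => Subtype.ext (mul_smul (x : G) (y : G) (d : α)) }
  have hβ : Nat.card β = 3 * (p - 1) := by
    have hs : ({a, b, c} : Finset α).card = 3 := Finset.card_eq_three.2 ⟨a, b, c, hab, hac, hbc, rfl⟩
    rw [Nat.card_eq_fintype_card, Fintype.card_subtype,
      show (Finset.univ.filter fun d : α => d ≠ a ∧ d ≠ b ∧ d ≠ c) = ({a, b, c} : Finset α)ᶜ by
        ext d; simp, Finset.card_compl, hs, ← Nat.card_eq_fintype_card, D.card]
    omega
  have hd := Perm.card_dvd_of_semiregular (α := β) (N := (⊤ : Subgroup T₁)) fun d => by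
    rw [Subgroup.eq_bot_iff_forall]
    rintro ⟨x, hx⟩ hxd
    by_contra hne
    have hx1 : (x : G) ≠ 1 := fun e => hne (Subtype.ext (Subtype.ext e))
    have hxd' : (x : G) • (d : α) = d := congrArg Subtype.val (mem_stabilizer_iff.1 hxd)
    rcases hone _ x.2 hx1 _ hxd' with h | h | h
    · exact d.2.1 h
    · exact d.2.2.1 h
    · exact d.2.2.2 h
  rw [Subgroup.card_top, hi, hβ, hP] at hd
  have hie : i ≤ e := by
    have := (Nat.Coprime.pow_left i (Nat.coprime_two_left.2 hPo)).dvd_of_dvd_mul_right hd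
    exact (Nat.pow_dvd_pow_iff_le_right (by norm_num)).1 this
  omega

theorem Three.Inv.not_one_mod_four [IsPretransitive G α] (D : Three P α) (I : D.Inv) :
    p % 4 ≠ 1 := by
  intro hp4
  have h5 := D.B.five
  have hA : I.A = 2 := by rcases I.hcase with h | h <;> omega
  have M := I.moments D
  set E := Finset.univ.filter fun u : G => PartConj I.t u with hE
  obtain ⟨k, m, hm, hC⟩ := Nat.exists_eq_two_pow_mul_odd
    (Nat.card_pos (α := Subgroup.centralizer ({I.t} : Set G))).ne'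
  have hk := I.two_part_le D hA hp4 hm hC
  have ht2 : I.t ^ 2 = 1 := by rw [← I.ord, pow_orderOf_eq_one]
  have hcardE : Nat.card G ≤ 8 * E.card := by
    have h := card_partConj (z := I.t) ⟨1, by rw [pow_one]; exact ht2⟩
    rw [hC, Nat.card_eq_fintype_card (α := {u : G // PartConj I.t u}), Fintype.card_subtype,
      ← hE] at h
    have hmc := Nat.le_of_dvd (oddCount_pos _) (dvd_oddCount (H := Subgroup.centralizer ({I.t} : Set G)) hm hC)
    have h8 : 2 ^ k ≤ 8 := (Nat.pow_le_pow_right (by norm_num) hk).trans_eq (by norm_num)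
    refine Nat.le_of_mul_le_mul_right ?_ hm.pos
    calc Nat.card G * m ≤ Nat.card G * oddCount (Subgroup.centralizer ({I.t} : Set G)) :=
          Nat.mul_le_mul_left _ hmc
      _ = E.card * (2 ^ k * m) := h.symm
      _ ≤ E.card * (8 * m) := Nat.mul_le_mul_left _ (Nat.mul_le_mul_right _ h8)
      _ = 8 * E.card * m := by ring
  -- the values on `E`
  have hmem : ∀ u ∈ E, u ∈ regSet G p ∧ (D.v u = -1 ∨ D.v u = 2) := by
    intro u hu
    obtain ⟨z, e, hz, he, hc, rfl⟩ := (Finset.mem_filter.1 hu).2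
    obtain ⟨g, rfl⟩ := isConj_iff.1 hz
    set z := g * I.t * g⁻¹ with hzdef
    have hzo : orderOf z = 2 := by
      rw [hzdef, show g * I.t * g⁻¹ = MulAut.conj g I.t from rfl, MulEquiv.orderOf_eq, I.ord]
    have hz2 : z * z = 1 := by rw [← pow_two, ← hzo, pow_orderOf_eq_one]
    have hord : orderOf (z * e) = 2 * orderOf e := by
      rw [hc.orderOf_mul_eq_mul_orderOf_of_coprime (by rw [hzo]; exact Nat.coprime_two_left.2 he), hzo]
    refine ⟨mem_regSet.2 ⟨D.regular_of_even (hord ▸ dvd_mul_right 2 _), fun h => by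
      rw [h, orderOf_one] at hord; omega⟩, ?_⟩
    have h3 : Nat.card (fixedBy α z) = 3 := by
      have h1 := D.card_fix z
      rw [hzdef, D.v_conj, I.hA, hA] at h1
      rw [hzdef]
      omega
    by_cases hne : ∃ a : α, (z * e) • a = a
    · obtain ⟨a, ha⟩ := hne
      obtain ⟨hza, hea⟩ := fixed_mul (α := α) hz2 he hc ha
      refine Or.inr ?_
      have heq : fixedBy α (z * e) = fixedBy α z := by
        refine Set.Subset.antisymm (fun d hd => (fixed_mul (α := α) hz2 he hc hd).1) fun d hd => ?_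
        have hd' : z • d = d := hd
        have hed : e • d = d := by
          by_contra hne'
          have hzed : z • e • d = e • d := by rw [← mul_smul, hc.eq, mul_smul, hd']
          have hze2 : z • e • e • d = e • e • d := by
            rw [← mul_smul, hc.eq, mul_smul, hzed]
          have hda : d ≠ a := fun h => hne' (by rw [h, hea])
          have heda : e • d ≠ a := fun h => hda (smul_left_cancel e (h.trans hea.symm))
          have hee : e • e • d ≠ e • d := fun h => hne' (smul_left_cancel e h)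
          have heea : e • e • d ≠ a := fun h => heda (smul_left_cancel e (h.trans hea.symm))
          have hfz : fixedBy α z = {a, d, e • d} := by
            refine (Set.eq_of_subset_of_ncard_le ?_ ?_).symm
            · rintro x (rfl | rfl | rfl)
              · exact hza
              · exact hd'
              · exact hzed
            · rw [← Nat.card_coe_set_eq (fixedBy α z), h3, Set.ncard_eq_three.2
                ⟨a, d, e • d, hda.symm, heda.symm, fun h => hne' h.symm, rfl⟩]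
          have hee2 : e • e • d = d := by
            have hm' : e • e • d ∈ fixedBy α z := hze2
            rw [hfz] at hm'
            rcases hm' with h | h | h
            · exact absurd h heea
            · exact h
            · exact absurd h hee
          obtain ⟨i, hi⟩ := he
          have hfix2 : ∀ r : ℕ, e ^ (2 * r) • d = d := fun r => by
            induction r with
            | zero => simp
            | succ r ih => rw [Nat.mul_succ, pow_add, mul_smul, pow_two, mul_smul, hee2, ih]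
          have h1 : e ^ (2 * i + 1) • d = d := by rw [← hi, pow_orderOf_eq_one, one_smul]
          rw [pow_succ', mul_smul, hfix2] at h1
          exact hne' h1
        show (z * e) • d = d
        rw [mul_smul, hed, hd']
      rw [Three.v, heq, h3]
      norm_num
    · refine Or.inl ?_
      haveI : IsEmpty (fixedBy α (z * e)) := ⟨fun a => hne ⟨a, a.2⟩⟩
      rw [Three.v, Nat.card_of_isEmpty]
      norm_num
  have hp5 : (5 : ℤ) ≤ p := by exact_mod_cast h5
  let Q2 : G → ℤ := fun u => D.v u * (D.v u - 1) * (3 * (p : ℤ) - 3 - 2 * D.v u)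
  have hQ : ∀ u ∈ regSet G p, 0 ≤ Q2 u := fun u hu => by
    refine mul_nonneg ?_ (by have := M.bound u hu; omega)
    rcases le_or_gt (D.v u) 0 with h | h
    · exact mul_nonneg_of_nonpos_of_nonpos h (by omega)
    · exact mul_nonneg (by omega) (by omega)
  have hsumE : (E.card : ℤ) * (2 * (3 * p - 7)) ≤ ∑ u ∈ regSet G p, Q2 u := by
    calc (E.card : ℤ) * (2 * (3 * p - 7)) = ∑ _u ∈ E, 2 * (3 * (p : ℤ) - 7) := by
          rw [Finset.sum_const, nsmul_eq_mul]
      _ ≤ ∑ u ∈ E, Q2 u := Finset.sum_le_sum fun u hu => by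
          rcases (hmem u hu).2 with h | h <;> simp only [Q2, h] <;> omega
      _ ≤ _ := Finset.sum_le_sum_of_subset_of_nonneg (fun u hu => (hmem u hu).1)
          fun u hu _ => hQ u hu
  have hsum : ∑ u ∈ regSet G p, Q2 u =
      (3 * (p : ℤ) - 1) * (3 * p - 2) * ((p - 1) * ((I.J : ℤ) * I.J) + 3 * p + 1) := by
    have e : ∀ u ∈ regSet G p, Q2 u = (3 * (p : ℤ) - 1) * (D.v u * (D.v u - 1)) -
        2 * ((D.v u + 1) * (D.v u * (D.v u - 1))) := fun u _ => by simp only [Q2]; ring
    rw [Finset.sum_congr rfl e, Finset.sum_sub_distrib, ← Finset.mul_sum, ← Finset.mul_sum,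
      M.two, M.three]
    ring
  have hG : (Nat.card G : ℤ) = p * (3 * p - 1) * (3 * p - 2) * ((I.J : ℤ) * I.J) := by
    rw [I.order]
    push_cast [Nat.cast_sub (show 1 ≤ 3 * p by omega), Nat.cast_sub (show 2 ≤ 3 * p by omega)]
    ring
  obtain ⟨Q, hQd⟩ : ∃ Q, Q = (I.J : ℤ) * I.J := ⟨_, rfl⟩
  rw [← hQd] at hsum hG
  have hfg0 : 0 < (3 * (p : ℤ) - 1) * (3 * p - 2) := mul_pos (by omega) (by omega)
  have hGE : (Nat.card G : ℤ) ≤ 8 * (E.card : ℤ) := by exact_mod_cast hcardE
  have h1 : (3 * (p : ℤ) - 1) * (3 * p - 2) * (p * Q * (2 * (3 * p - 7))) ≤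
      (3 * (p : ℤ) - 1) * (3 * p - 2) * (8 * ((p - 1) * Q + 3 * p + 1)) := by
    calc (3 * (p : ℤ) - 1) * (3 * p - 2) * (p * Q * (2 * (3 * p - 7)))
        = (Nat.card G : ℤ) * (2 * (3 * p - 7)) := by rw [hG]; ring
      _ ≤ 8 * (E.card : ℤ) * (2 * (3 * p - 7)) := mul_le_mul_of_nonneg_right hGE (by omega)
      _ ≤ 8 * ∑ u ∈ regSet G p, Q2 u := by
          rw [mul_assoc]; exact mul_le_mul_of_nonneg_left hsumE (by norm_num)
      _ = _ := by rw [hsum]; ring
  have h2 := le_of_mul_le_mul_left h1 hfg0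
  have hQ36 : 36 ≤ Q := by
    rw [hQd]; exact_mod_cast Nat.mul_le_mul M.six M.six
  have e1 : (4 : ℤ) * (p + 1) ≤ 3 * p ^ 2 - 11 * p + 4 := by nlinarith
  nlinarith [mul_le_mul hQ36 e1 (by positivity) (by linarith : (0 : ℤ) ≤ Q)]

end Cfsg.Agent.DegreeThreeP
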