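import Cfsg.Agent.Lib.DegreeThreeP.OddProportion

/-!
# Elements of odd order normalizing an elementary abelian 2-subgroup

A coset of `S` in its normalizer holds at least `[S : C_S(w)]` elements of odd order; this index is
not 2, and is 4 only if `w³` centralizes `S`.
-/

set_option autoImplicit false
set_option linter.style.haveILetI false
set_option linter.unusedSectionVars false

namespace Cfsg.Agent.DegreeThreeP

open scoped Classical

universe u

variable {X : Type u} [Group X] [Finite X] {T : Subgroup X}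

theorem eq_one_of_odd_two {x : X} (ho : Odd (orderOf x)) (h : x * x = 1) : x = 1 := by
  rcases (Nat.dvd_prime Nat.prime_two).1 (orderOf_dvd_of_pow_eq_one (by rw [pow_two, h]) :
    orderOf x ∣ 2) with h' | h'
  · exact orderOf_eq_one_iff.1 h'
  · rw [h'] at ho
    exact absurd ho (by decide)

theorem eq_one_of_odd_mem (hexp : ∀ s ∈ T, s * s = 1) {x : X} (hx : x ∈ T)
    (ho : Odd (orderOf x)) : x = 1 := eq_one_of_odd_two ho (hexp x hx)

/-- `C_T(w)`. -/
def centIn (T : Subgroup X) (w : X) : Subgroup X := T ⊓ Subgroup.centralizer ({w} : Set X)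

theorem mem_centIn {w u : X} : u ∈ centIn T w ↔ u ∈ T ∧ Commute u w := by
  rw [centIn, Subgroup.mem_inf, Subgroup.mem_centralizer_singleton_iff]
  rfl

/-- An element fixed modulo `C_T(w)` by a power of `w` commutes with that power. -/
theorem commute_of_coset (hexp : ∀ s ∈ T, s * s = 1) {w : X} (hw : Odd (orderOf w)) {j : ℕ}
    {s : X} (h : s⁻¹ * (w ^ j * s * (w ^ j)⁻¹) ∈ centIn T w) :
    Commute (w ^ j) s := by
  obtain ⟨huT, hcu⟩ := mem_centIn.1 h
  set u := s⁻¹ * (w ^ j * s * (w ^ j)⁻¹) with hu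
  have hcuj : Commute u (w ^ j) := hcu.pow_right j
  have hbase : w ^ j * s * (w ^ j)⁻¹ = s * u := by rw [hu]; group
  have hpow : ∀ r : ℕ, (w ^ j) ^ r * s * ((w ^ j) ^ r)⁻¹ = s * u ^ r := fun r => by
    induction r with
    | zero => simp
    | succ r ih =>
      calc (w ^ j) ^ (r + 1) * s * ((w ^ j) ^ (r + 1))⁻¹
          = w ^ j * ((w ^ j) ^ r * s * ((w ^ j) ^ r)⁻¹) * (w ^ j)⁻¹ := by rw [pow_succ']; group
        _ = (w ^ j * s * (w ^ j)⁻¹) * (w ^ j * u ^ r * (w ^ j)⁻¹) := by rw [ih]; group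
        _ = s * u ^ (r + 1) := by
          rw [hbase, (hcuj.pow_left r).symm.eq, mul_inv_cancel_right, mul_assoc, ← pow_succ']
  have h1 := hpow (orderOf w)
  rw [← pow_mul, mul_comm j, pow_mul, pow_orderOf_eq_one, one_pow, inv_one, mul_one, one_mul,
    left_eq_mul] at h1
  have hu1 : u = 1 := eq_one_of_odd_two (hw.of_dvd_nat (orderOf_dvd_of_pow_eq_one h1)) (hexp u huT)
  rw [hu1, mul_one] at hbase
  exact mul_inv_eq_iff_eq_mul.1 hbase

theorem relIndex_centIn_ne_two (hexp : ∀ s ∈ T, s * s = 1) {w : X} (hw : Odd (orderOf w))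
    (hn : w ∈ Subgroup.normalizer (T : Set X)) : (centIn T w).relIndex T ≠ 2 := by
  intro h2
  obtain ⟨s, hs, hsU⟩ : ∃ s ∈ T, s ∉ centIn T w := by
    by_contra h
    push Not at h
    rw [Subgroup.relIndex_eq_one.2 h] at h2
    omega
  have hs' : w * s * w⁻¹ ∈ T := (Subgroup.mem_normalizer_iff.1 hn s).1 hs
  have hsU' : w * s * w⁻¹ ∉ centIn T w := fun h => hsU (mem_centIn.2 ⟨hs, by
    have := (mem_centIn.1 h).2
    have h3 : w * s * w⁻¹ * w = w * (w * s * w⁻¹) := this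
    rw [inv_mul_cancel_right] at h3
    have h4 : s = w * s * w⁻¹ := mul_left_cancel h3
    exact (mul_inv_eq_iff_eq_mul.1 h4.symm).symm⟩)
  have hmem : (⟨s, hs⟩ : T)⁻¹ * ⟨w * s * w⁻¹, hs'⟩ ∈ (centIn T w).subgroupOf T := by
    rw [Subgroup.mul_mem_iff_of_index_two h2, inv_mem_iff]
    exact iff_of_false hsU hsU'
  have hc := commute_of_coset hexp hw (j := 1) (s := s) (by rw [pow_one]; exact hmem)
  rw [pow_one] at hc
  exact hsU (mem_centIn.2 ⟨hs, hc.symm⟩)

theorem cube_commute (hexp : ∀ s ∈ T, s * s = 1) {w : X} (hw : Odd (orderOf w))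
    (hn : w ∈ Subgroup.normalizer (T : Set X)) (h4 : (centIn T w).relIndex T = 4) :
    ∀ s ∈ T, Commute (w ^ 3) s := by
  intro s hs
  by_cases hsU : s ∈ centIn T w
  · exact (((mem_centIn.1 hsU).2).symm).pow_left 3
  set U := (centIn T w).subgroupOf T with hU
  have hidx : Nat.card (T ⧸ U) = 4 := by rw [← Subgroup.index_eq_card]; exact h4
  have hmem : ∀ j : ℕ, w ^ j * s * (w ^ j)⁻¹ ∈ T := fun j =>
    (Subgroup.mem_normalizer_iff.1 (Subgroup.pow_mem _ hn j) s).1 hs
  let f : ℕ → T ⧸ U := fun j => QuotientGroup.mk ⟨w ^ j * s * (w ^ j)⁻¹, hmem j⟩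
  -- equality of the classes of two translates
  have heq : ∀ i j, f i = f (i + j) → Commute (w ^ j) s := by
    intro i j h
    have h' := QuotientGroup.eq.1 h
    rw [hU, Subgroup.mem_subgroupOf] at h'
    simp only [Subgroup.coe_mul, Subgroup.coe_inv] at h'
    have hx : Commute ((w ^ i * s * (w ^ i)⁻¹)⁻¹ * (w ^ (i + j) * s * (w ^ (i + j))⁻¹)) (w ^ i) :=
      (mem_centIn.1 h').2.pow_right i
    have e : s⁻¹ * (w ^ j * s * (w ^ j)⁻¹) =
        (w ^ i)⁻¹ * ((w ^ i * s * (w ^ i)⁻¹)⁻¹ * (w ^ (i + j) * s * (w ^ (i + j))⁻¹)) * w ^ i := by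
      rw [pow_add]; group
    refine commute_of_coset hexp hw ?_
    rw [e, mul_assoc, hx.eq, inv_mul_cancel_left]
    exact h'
  have hne : ∀ j : ℕ, f j ≠ QuotientGroup.mk 1 := fun j h => hsU (by
    have h' := QuotientGroup.eq.1 h
    rw [mul_one, inv_mem_iff, hU, Subgroup.mem_subgroupOf] at h'
    refine mem_centIn.2 ⟨hs, ?_⟩
    have h1 := (mem_centIn.1 h').2
    have h2 := (commute_map_iff (MulAut.conj (w ^ j)⁻¹).injective).2 h1
    have e1 : (MulAut.conj (w ^ j)⁻¹) (w ^ j * s * (w ^ j)⁻¹) = s := by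
      rw [MulAut.conj_apply]; group
    have e2 : (MulAut.conj (w ^ j)⁻¹) w = w := by
      rw [MulAut.conj_apply]; group
    rw [e1, e2] at h2
    exact h2)
  have hnot1 : ¬ Commute w s := fun h => hsU (mem_centIn.2 ⟨hs, h.symm⟩)
  have hnot2 : ¬ Commute (w ^ 2) s := fun h => hnot1 (by
    obtain ⟨i, hi⟩ := hw
    have : (w ^ 2) ^ (i + 1) = w := by
      rw [← pow_mul, show 2 * (i + 1) = 2 * i + 1 + 1 by ring, pow_succ, ← hi, pow_orderOf_eq_one,
        one_mul]
    exact this ▸ h.pow_left (i + 1))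
  have h01 : f 0 ≠ f 1 := fun h => hnot1 (pow_one w ▸ heq 0 1 h)
  have h02 : f 0 ≠ f 2 := fun h => hnot2 (heq 0 2 h)
  have h12 : f 1 ≠ f 2 := fun h => hnot1 (pow_one w ▸ heq 1 1 h)
  haveI := Fintype.ofFinite (T ⧸ U)
  have hall : ({QuotientGroup.mk 1, f 0, f 1, f 2} : Finset (T ⧸ U)) = Finset.univ := by
    refine Finset.eq_univ_of_card _ ?_
    rw [Finset.card_insert_of_notMem (by
        simp only [Finset.mem_insert, Finset.mem_singleton, not_or]
        exact ⟨(hne 0).symm, (hne 1).symm, (hne 2).symm⟩),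
      Finset.card_insert_of_notMem (by
        simp only [Finset.mem_insert, Finset.mem_singleton, not_or]
        exact ⟨h01, h02⟩), Finset.card_pair h12, ← Nat.card_eq_fintype_card, hidx]
  have h3 : f 3 ∈ ({QuotientGroup.mk 1, f 0, f 1, f 2} : Finset (T ⧸ U)) :=
    hall ▸ Finset.mem_univ _
  simp only [Finset.mem_insert, Finset.mem_singleton] at h3
  rcases h3 with h | h | h | h
  · exact absurd h (hne 3)
  · exact heq 0 3 h.symm
  · exact absurd (heq 1 2 h.symm) hnot2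
  · exact absurd (pow_one w ▸ heq 2 1 h.symm) hnot1

/-- The cosets of `T` in a subgroup normalizing it contain many elements of odd order. -/
theorem exists_reps_oddCount (hexp : ∀ s ∈ T, s * s = 1) {M : Subgroup X} (hTM : T ≤ M)
    (hn : M ≤ Subgroup.normalizer (T : Set X)) (hodd : Odd (T.relIndex M)) :
    ∃ s : Finset X, (∀ w ∈ s, w ∈ M ∧ Odd (orderOf w)) ∧ (1 : X) ∈ s ∧
      (∀ w ∈ s, w ∈ T → w = 1) ∧ s.card = T.relIndex M ∧
      (∑ w ∈ s, (centIn T w).relIndex T) ≤ oddCount M := by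
  set T' := T.subgroupOf M with hT'
  haveI hnormal : T'.Normal := ⟨fun n hnn g => (Subgroup.mem_normalizer_iff.1 (hn g.2) n).1 hnn⟩
  haveI := Fintype.ofFinite X
  have hrep : ∀ q : M ⧸ T', ∃ w : M, (w : M ⧸ T') = q ∧ Odd (orderOf (w : X)) ∧
      (q = 1 → w = 1) := by
    intro q
    by_cases hq : q = 1
    · exact ⟨1, hq ▸ rfl, by simp, fun _ => rfl⟩
    obtain ⟨x, rfl⟩ := QuotientGroup.mk_surjective q
    obtain ⟨z, e, ⟨k, hk⟩, he, hc, hxe⟩ := exists_parts x
    refine ⟨e, ?_, by rw [Subgroup.orderOf_coe]; exact he, fun h => absurd h hq⟩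
    have hz : (z : M ⧸ T') = 1 := by
      rw [← orderOf_eq_one_iff]
      refine Nat.eq_one_of_dvd_coprimes (Nat.Coprime.pow_left k (Nat.coprime_two_left.2 hodd))
        ?_ ?_
      · exact orderOf_dvd_of_pow_eq_one (by rw [← QuotientGroup.mk_pow, hk, QuotientGroup.mk_one])
      · exact orderOf_dvd_natCard _
    rw [hxe, QuotientGroup.mk_mul, hz, one_mul]
  choose w hw1 hw2 hw3 using hrep
  haveI := Fintype.ofFinite (M ⧸ T')
  have hinj : Function.Injective fun q : M ⧸ T' => ((w q : M) : X) := fun q q' h => by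
    rw [← hw1 q, ← hw1 q', show w q = w q' from Subtype.ext h]
  refine ⟨Finset.univ.image fun q => ((w q : M) : X), ?_, ?_, ?_, ?_, ?_⟩
  · intro x hx
    obtain ⟨q, -, rfl⟩ := Finset.mem_image.1 hx
    exact ⟨(w q).2, hw2 q⟩
  · exact Finset.mem_image.2 ⟨1, Finset.mem_univ _, by rw [hw3 1 rfl]; rfl⟩
  · intro x hx hxT
    obtain ⟨q, -, rfl⟩ := Finset.mem_image.1 hx
    exact eq_one_of_odd_mem hexp hxT (hw2 q)
  · rw [Finset.card_image_of_injective _ hinj, Finset.card_univ, ← Nat.card_eq_fintype_card]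
    rfl
  rw [Finset.sum_image fun a _ b _ h => hinj h]
  have key : ∑ q : M ⧸ T', (centIn T (w q : X)).relIndex T =
      Nat.card (Σ q : M ⧸ T', T ⧸ (centIn T (w q : X)).subgroupOf T) := by
    rw [Nat.card_sigma]
    exact Finset.sum_congr rfl fun q _ => (Subgroup.index_eq_card _)
  rw [key]
  let F : (Σ q : M ⧸ T', T ⧸ (centIn T (w q : X)).subgroupOf T) → {x : M // Odd (orderOf x)} :=
    fun z => ⟨⟨(z.2.out : X) * (w z.1 : X) * (z.2.out : X)⁻¹,
        M.mul_mem (M.mul_mem (hTM z.2.out.2) (w z.1).2) (M.inv_mem (hTM z.2.out.2))⟩, by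
      rw [Subgroup.orderOf_mk, ← MulAut.conj_apply, MulEquiv.orderOf_eq]
      exact hw2 _⟩
  refine Nat.card_le_card_of_injective F ?_
  rintro ⟨q, r⟩ ⟨q', r'⟩ h
  have h' : (r.out : X) * (w q : X) * (r.out : X)⁻¹ = (r'.out : X) * (w q' : X) * (r'.out : X)⁻¹ :=
    congrArg (fun x : {x : M // Odd (orderOf x)} => ((x : M) : X)) h
  have hconj : ∀ (q : M ⧸ T') (s : T), ((⟨(s : X) * (w q : X) * (s : X)⁻¹,
      M.mul_mem (M.mul_mem (hTM s.2) (w q).2) (M.inv_mem (hTM s.2))⟩ : M) : M ⧸ T') = q := by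
    intro q s
    have hs : ((⟨s, hTM s.2⟩ : M) : M ⧸ T') = 1 := (QuotientGroup.eq_one_iff _).2 s.2
    calc ((⟨(s : X) * (w q : X) * (s : X)⁻¹, _⟩ : M) : M ⧸ T')
        = ((⟨s, hTM s.2⟩ * w q * (⟨s, hTM s.2⟩ : M)⁻¹ : M) : M ⧸ T') := rfl
      _ = q := by rw [QuotientGroup.mk_mul, QuotientGroup.mk_mul, QuotientGroup.mk_inv, hs, hw1,
          one_mul, inv_one, mul_one]
  have hqq : q = q' := by
    rw [← hconj q r.out, ← hconj q' r'.out]
    exact congrArg _ (Subtype.ext h')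
  subst hqq
  have hr : r = r' := by
    rw [← QuotientGroup.out_eq' r, ← QuotientGroup.out_eq' r', QuotientGroup.eq,
      Subgroup.mem_subgroupOf]
    refine mem_centIn.2 ⟨(r.out⁻¹ * r'.out).2, ?_⟩
    show ((r.out : X)⁻¹ * (r'.out : X)) * (w q : X) = (w q : X) * ((r.out : X)⁻¹ * (r'.out : X))
    calc ((r.out : X)⁻¹ * (r'.out : X)) * (w q : X)
        = (r.out : X)⁻¹ * ((r'.out : X) * (w q : X) * (r'.out : X)⁻¹) * (r'.out : X) := by group
      _ = (w q : X) * ((r.out : X)⁻¹ * (r'.out : X)) := by rw [← h']; group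
  rw [hr]

end Cfsg.Agent.DegreeThreeP
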