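import Cfsg.Agent.Lib.DegreeThreeP.CaseThreeOne
import Cfsg.Agent.Lib.DegreeThreeP.SylowAction

/-!
# Degree `3p`, `π = 1 + χ`: `p ≡ 3 (mod 4)` is impossible

Every element of even order fixes one point. The elements whose 2-part is an involution (and, for
`3p - 1` a power of 2, those with a 2-part of order 4) are too many for the moments of `χ`.
-/

set_option autoImplicit false
set_option linter.style.haveILetI false
set_option linter.unusedSectionVars false

namespace Cfsg.Agent.DegreeThreeP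

open Cfsg Cfsg.Agent MulAction
open scoped Classical

universe u v

variable {G : Type u} [Group G] [Fintype G] [IsSimpleGroup G] {p : ℕ} [hp : Fact p.Prime]
  {P : Sylow p G} {α : Type v} [MulAction G α] [Fintype α]

/-- An element of even order fixes exactly one point. -/
theorem Three.Inv.fix_single (D : Three P α) (I : D.Inv) (hA : I.A = 0) {u : G}
    (hu : 2 ∣ orderOf u) : ∃ a : α, fixedBy α u = {a} := by
  have hord : orderOf (u ^ (orderOf u / 2)) = 2 := by
    obtain ⟨j, hj⟩ := hu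
    have hjp : 0 < j := by
      have := orderOf_pos u
      omega
    rw [hj, Nat.mul_div_cancel_left _ two_pos, orderOf_pow_of_dvd hjp.ne'
      (by rw [hj]; exact dvd_mul_left j 2), hj, Nat.mul_div_cancel _ hjp]
  obtain ⟨g, hg⟩ := isConj_iff.1 (I.single _ hord)
  set z := u ^ (orderOf u / 2) with hz
  have h1 : (fixedBy α z).ncard = 1 := by
    have h := D.card_fix z
    rw [← hg, D.v_conj, I.hA, hA, hg] at h
    rw [← Nat.card_coe_set_eq]
    exact_mod_cast h
  obtain ⟨a, ha⟩ := Set.ncard_eq_one.1 h1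
  have hza : z • a = a := (ha.ge rfl : a ∈ fixedBy α z)
  refine ⟨a, Set.Subset.antisymm (fun b hb => ?_) (Set.singleton_subset_iff.2 ?_)⟩
  · rw [← ha]
    exact mem_stabilizer_iff.1 (Subgroup.pow_mem (stabilizer G b) (mem_stabilizer_iff.2 hb) _)
  · have hmem : u • a ∈ fixedBy α z := by
      show z • u • a = u • a
      rw [← mul_smul, hz, ← pow_succ, pow_succ', mul_smul, ← hz, hza]
    rw [ha] at hmem
    exact hmem

theorem Three.Inv.v_zero (D : Three P α) (I : D.Inv) (hA : I.A = 0) {u : G}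
    (hu : 2 ∣ orderOf u) : D.v u = 0 := by
  obtain ⟨a, ha⟩ := I.fix_single D hA hu
  rw [Three.v, ha, Nat.card_coe_set_eq, Set.ncard_singleton]
  norm_num

/-- A 2-subgroup fixes a point and is semiregular on the others. -/
theorem Three.Inv.exists_fixed (D : Three P α) (I : D.Inv) (hA : I.A = 0) {T : Subgroup G}
    (hT : IsPGroup 2 T) :
    ∃ a : α, (∀ x ∈ T, x • a = a) ∧ (∀ x ∈ T, x ≠ 1 → fixedBy α x = {a}) ∧
      Nat.card T ∣ 3 * p - 1 := by
  haveI : Fact (Nat.Prime 2) := ⟨Nat.prime_two⟩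
  have h5 := D.B.five
  have hne : (fixedPoints T α).Nonempty := by
    rw [Set.nonempty_iff_ne_empty]
    intro h
    have h' : Nat.card α % 2 = Nat.card (fixedPoints T α) % 2 := hT.card_modEq_card_fixedPoints α
    rw [h, Nat.card_coe_set_eq, Set.ncard_empty, D.card] at h'
    obtain ⟨k, hk⟩ := hp.out.odd_of_ne_two (by omega)
    omega
  obtain ⟨a, ha⟩ := hne
  have hfix : ∀ x ∈ T, x ≠ 1 → fixedBy α x = {a} := by
    intro x hx hx1
    have h2 : 2 ∣ orderOf x := by
      obtain ⟨k, hk⟩ := hT ⟨x, hx⟩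
      obtain ⟨i, -, hi⟩ := (Nat.dvd_prime_pow Nat.prime_two).1 (orderOf_dvd_of_pow_eq_one hk)
      rw [Subgroup.orderOf_mk] at hi
      rcases i with _ | i
      · exact absurd (orderOf_eq_one_iff.1 hi) hx1
      · exact ⟨2 ^ i, by rw [hi, pow_succ']⟩
    obtain ⟨b, hb⟩ := I.fix_single D hA h2
    have : a ∈ fixedBy α x := ha ⟨x, hx⟩
    rw [hb] at this
    rw [hb, Set.mem_singleton_iff.1 this]
  refine ⟨a, fun x hx => ha ⟨x, hx⟩, hfix, ?_⟩
  let β := {d : α // d ≠ a}
  have hinvβ : ∀ (x : T) (d : β), (x : G) • (d : α) ≠ a := fun x d h =>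
    d.2 (smul_left_cancel _ (h.trans (ha x).symm))
  letI : MulAction T β :=
    { smul := fun x d => ⟨(x : G) • (d : α), hinvβ x d⟩
      one_smul := fun d => Subtype.ext (one_smul G (d : α))
      mul_smul := fun x y d => Subtype.ext (mul_smul (x : G) (y : G) (d : α)) }
  have hβ : Nat.card β = 3 * p - 1 := by
    rw [Nat.card_eq_fintype_card, Fintype.card_subtype_compl, Fintype.card_subtype_eq,
      ← Nat.card_eq_fintype_card, D.card]
  have hd := Perm.card_dvd_of_semiregular (α := β) (N := (⊤ : Subgroup T)) fun d => by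
    rw [Subgroup.eq_bot_iff_forall]
    rintro ⟨x, hx⟩ hxd
    by_contra hne'
    have hx1 : (x : G) ≠ 1 := fun e => hne' (Subtype.ext (Subtype.ext e))
    have hxd' : (d : α) ∈ fixedBy α (x : G) :=
      congrArg Subtype.val (mem_stabilizer_iff.1 hxd)
    rw [hfix _ x.2 hx1] at hxd'
    exact d.2 hxd'
  rwa [Subgroup.card_top, hβ] at hd

/-- `J` is odd and at least 9. -/
theorem Three.Inv.two_data [IsPretransitive G α] (D : Three P α) (I : D.Inv) (hA : I.A = 0)
    (hp4 : p % 4 = 3) :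
    ∃ n fo m : ℕ, Odd fo ∧ 3 * p - 1 = 2 ^ n * fo ∧ Odd m ∧ Nat.card G = 2 ^ n * m ∧
      Odd I.J ∧ 9 ≤ I.J := by
  haveI : Fact (Nat.Prime 2) := ⟨Nat.prime_two⟩
  have h5 := D.B.five
  obtain ⟨n, fo, hfo, hf⟩ := Nat.exists_eq_two_pow_mul_odd (show 3 * p - 1 ≠ 0 by omega)
  obtain ⟨j, Jo, hJo, hJ⟩ := Nat.exists_eq_two_pow_mul_odd I.Jpos.ne'
  have hgo : Odd (3 * p - 2) := Nat.odd_iff.2 (by omega)
  have hpo : Odd p := Nat.odd_iff.2 (by omega)
  have hG : Nat.card G = 2 ^ (n + 2 * j) * (p * fo * (3 * p - 2) * (Jo * Jo)) := by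
    rw [I.order, hJ, hf, pow_add, pow_mul']; ring
  obtain ⟨T⟩ := (inferInstance : Nonempty (Sylow 2 G))
  have hdT : 2 ^ (n + 2 * j) ∣ Nat.card (T : Subgroup G) :=
    T.pow_dvd_card_of_pow_dvd_card (hG ▸ dvd_mul_right _ _)
  obtain ⟨a, -, -, hd⟩ := I.exists_fixed D hA T.2
  have h := hdT.trans hd
  rw [hf] at h
  have hle := (Nat.pow_dvd_pow_iff_le_right (by norm_num)).1
    ((Nat.Coprime.pow_left _ (Nat.coprime_two_left.2 hfo)).dvd_of_dvd_mul_right h)
  have hj : j = 0 := by omega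
  subst hj
  rw [pow_zero, one_mul] at hJ
  refine ⟨n, fo, _, hfo, hf, ((hpo.mul hfo).mul hgo).mul (hJo.mul hJo), by simpa using hG,
    hJ ▸ hJo, ?_⟩
  have h6 := (I.moments D).six
  obtain ⟨i, hi⟩ := I.three
  obtain ⟨l, hl⟩ := hJo
  omega

/-- The elements with a given non-trivial 2-part fix one point. -/
theorem Three.Inv.partConj_mem (D : Three P α) (I : D.Inv) (hA : I.A = 0) {z u : G} {k : ℕ}
    (hz : z ^ 2 ^ k = 1) (hz1 : z ≠ 1) (hu : PartConj z u) : u ∈ regSet G p ∧ D.v u = 0 := by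
  obtain ⟨z', e, hzz, he, hc, rfl⟩ := hu
  have hord : orderOf z' = orderOf z := by
    obtain ⟨g, rfl⟩ := isConj_iff.1 hzz
    rw [show g * z * g⁻¹ = MulAut.conj g z from rfl, MulEquiv.orderOf_eq]
  obtain ⟨r, -, hr⟩ := (Nat.dvd_prime_pow Nat.prime_two).1 (orderOf_dvd_of_pow_eq_one hz)
  rcases r with _ | r
  · exact absurd (orderOf_eq_one_iff.1 hr) hz1
  have hordu : orderOf (z' * e) = 2 ^ (r + 1) * orderOf e := by
    rw [hc.orderOf_mul_eq_mul_orderOf_of_coprime (by
      rw [hord, hr]; exact Nat.Coprime.pow_left _ (Nat.coprime_two_left.2 he)), hord, hr]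
  have h2 : 2 ∣ orderOf (z' * e) := hordu ▸ ⟨2 ^ r * orderOf e, by rw [pow_succ']; ring⟩
  refine ⟨mem_regSet.2 ⟨D.regular_of_even h2, fun h => ?_⟩, I.v_zero D hA h2⟩
  rw [h, orderOf_one] at h2
  omega

/-- The moments bound the number of elements fixing one point. -/
theorem Three.Moments.count_bound {D : Three P α} {I : D.Inv} (M : D.Moments I) :
    2 * (3 * (p : ℤ) - 3) * ((regSet G p).filter fun u => D.v u = 0).card ≤
      (3 * (p : ℤ) - 2) * ((3 * p - 1) * ((I.J : ℤ) * I.J) * (3 * (3 * p - 1) - 2 * p) +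
        ((3 * p - 1) ^ 2 - 4)) := by
  have h5 : (5 : ℤ) ≤ p := by exact_mod_cast D.B.five
  have hlow : ∀ u ∈ regSet G p, (if D.v u = 0 then 2 * (3 * (p : ℤ) - 3) else 0) ≤
      2 * (3 * p - 3) * (1 - D.v u) + (3 * p + 3) * (D.v u * (D.v u - 1)) -
        2 * ((D.v u + 1) * (D.v u * (D.v u - 1))) := by
    intro u hu
    have hb := M.bound u hu
    have hv : -1 ≤ D.v u := by rw [Three.v]; omega
    rcases (show D.v u = -1 ∨ D.v u = 0 ∨ D.v u = 1 ∨ 2 ≤ D.v u by omega) with h | h | h | h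
    · rw [if_neg (by omega), h]; nlinarith
    · rw [if_pos h, h]; ring_nf; rfl
    · rw [if_neg (by omega), h]; norm_num
    · rw [if_neg (by omega)]
      nlinarith [mul_nonneg (mul_nonneg (show (0 : ℤ) ≤ D.v u - 1 by omega)
        (show (0 : ℤ) ≤ D.v u - 2 by omega)) (show (0 : ℤ) ≤ 3 * p - 3 - 2 * D.v u by omega)]
  have h := Finset.sum_le_sum hlow
  rw [← Finset.sum_filter, Finset.sum_const, nsmul_eq_mul, Finset.sum_sub_distrib,
    Finset.sum_add_distrib, ← Finset.mul_sum, ← Finset.mul_sum, ← Finset.mul_sum, M.one_sub,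
    M.two, M.three] at h
  linear_combination h

/-- The elements whose 2-part is conjugate to `z`. -/
noncomputable def partSet (z : G) : Finset G := Finset.univ.filter fun u => PartConj z u

theorem card_partSet {z : G} (hz : ∃ k : ℕ, z ^ 2 ^ k = 1) :
    (partSet z).card * Nat.card (Subgroup.centralizer ({z} : Set G)) =
      Nat.card G * oddCount (Subgroup.centralizer ({z} : Set G)) := by
  rw [← card_partConj hz, Nat.card_eq_fintype_card (α := {u : G // PartConj z u}),
    Fintype.card_subtype]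
  rfl

theorem le_card_partSet {z : G} (hz : ∃ k : ℕ, z ^ 2 ^ k = 1) {j m r : ℕ} (hm : 0 < m)
    (hC : Nat.card (Subgroup.centralizer ({z} : Set G)) = 2 ^ j * m)
    (hr : r * m ≤ oddCount (Subgroup.centralizer ({z} : Set G))) :
    r * Nat.card G ≤ 2 ^ j * (partSet z).card := by
  refine Nat.le_of_mul_le_mul_right ?_ hm
  calc r * Nat.card G * m = Nat.card G * (r * m) := by ring
    _ ≤ Nat.card G * oddCount (Subgroup.centralizer ({z} : Set G)) := Nat.mul_le_mul_left _ hr
    _ = 2 ^ j * (partSet z).card * m := by rw [← card_partSet hz, hC]; ring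

theorem disjoint_partSet {z z' : G} (hz : ∃ k : ℕ, z ^ 2 ^ k = 1) (hz' : ∃ k : ℕ, z' ^ 2 ^ k = 1)
    (h : ¬ IsConj z z') : Disjoint (partSet z) (partSet z') := by
  rw [Finset.disjoint_left]
  intro u hu hu'
  obtain ⟨w, e, hw, he, hc, rfl⟩ := (Finset.mem_filter.1 hu).2
  obtain ⟨w', e', hw', he', hc', heq⟩ := (Finset.mem_filter.1 hu').2
  have key : ∀ a b : G, (∃ k : ℕ, a ^ 2 ^ k = 1) → IsConj a b → ∃ k : ℕ, b ^ 2 ^ k = 1 := by
    rintro a b ⟨k, hk⟩ hab
    obtain ⟨g, rfl⟩ := isConj_iff.1 hab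
    exact ⟨k, by rw [conj_pow, hk]; group⟩
  obtain ⟨rfl, -⟩ := parts_unique (key _ _ hz hw) (key _ _ hz' hw') he he' hc hc' heq
  exact h (hw.trans hw'.symm)

/-- An element with centraliser of full 2-part is not conjugate to its inverse. -/
theorem not_isConj_inv {n m j m' : ℕ} (hm : Odd m) (hG : Nat.card G = 2 ^ n * m) {x : G}
    (hx : x⁻¹ ≠ x) (hC : Nat.card (Subgroup.centralizer ({x} : Set G)) = 2 ^ j * m')
    (hj : j = n) : ¬ IsConj x x⁻¹ := by
  intro h
  obtain ⟨g, hg⟩ := isConj_iff.1 h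
  have hinv : ∀ {a : G}, a * x * a⁻¹ = x⁻¹ → a * x⁻¹ * a⁻¹ = x := fun {a} ha => by
    rw [show a * x⁻¹ * a⁻¹ = (a * x * a⁻¹)⁻¹ by group, ha, inv_inv]
  let S : Subgroup G :=
    { carrier := {a | a * x * a⁻¹ = x ∨ a * x * a⁻¹ = x⁻¹}
      one_mem' := Or.inl (by group)
      mul_mem' := by
        rintro a b ha hb
        simp only [Set.mem_ofPred_eq] at ha hb ⊢
        have e : a * b * x * (a * b)⁻¹ = a * (b * x * b⁻¹) * a⁻¹ := by group
        rw [e]
        rcases ha with ha | ha <;> rcases hb with hb | hb <;> rw [hb]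
        · exact Or.inl ha
        · exact Or.inr (by rw [show a * x⁻¹ * a⁻¹ = (a * x * a⁻¹)⁻¹ by group, ha])
        · exact Or.inr ha
        · exact Or.inl (hinv ha)
      inv_mem' := by
        rintro a ha
        simp only [Set.mem_ofPred_eq] at ha ⊢
        rcases ha with ha | ha
        · left
          conv_lhs => rw [← ha]
          group
        · right
          conv_lhs => rw [← inv_inv x, ← ha]
          group }
  have hle : Subgroup.centralizer ({x} : Set G) ≤ S := fun a ha =>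
    Or.inl (by rw [Subgroup.mem_centralizer_singleton_iff.1 ha, mul_inv_cancel_right])
  have hmem : ∀ a : G, a ∈ Subgroup.centralizer ({x} : Set G) ↔ a * x * a⁻¹ = x := fun a => by
    rw [Subgroup.mem_centralizer_singleton_iff, mul_inv_eq_iff_eq_mul]
  have hidx : ((Subgroup.centralizer ({x} : Set G)).subgroupOf S).index = 2 := by
    rw [Subgroup.index_eq_two_iff]
    refine ⟨⟨g, Or.inr hg⟩, fun b => ?_⟩
    simp only [Subgroup.mem_subgroupOf, Subgroup.coe_mul, hmem]
    have e : (b : G) * g * x * ((b : G) * g)⁻¹ = ((b : G) * x * (b : G)⁻¹)⁻¹ := by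
      rw [show (b : G) * g * x * ((b : G) * g)⁻¹ = (b : G) * (g * x * g⁻¹) * (b : G)⁻¹ by group, hg]
      group
    rw [e]
    rcases b.2 with hb | hb
    · exact Or.inr ⟨hb, by rw [hb]; exact hx⟩
    · exact Or.inl ⟨by rw [hb, inv_inv], by rw [hb]; exact hx⟩
  have hS : Nat.card S = 2 ^ j * m' * 2 := by
    rw [← hC, ← hidx, ← Nat.card_congr (Subgroup.subgroupOfEquivOfLe hle).toEquiv,
      Subgroup.card_mul_index]
  have hd : 2 ^ (n + 1) ∣ 2 ^ n * m := by
    rw [← hG]
    exact (show 2 ^ (n + 1) ∣ Nat.card S from ⟨m', by rw [hS, hj, pow_succ]; ring⟩).trans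
      (Subgroup.card_subgroup_dvd_card S)
  have := (Nat.pow_dvd_pow_iff_le_right (by norm_num)).1
    ((Nat.Coprime.pow_left _ (Nat.coprime_two_left.2 hm)).dvd_of_dvd_mul_right hd)
  omega

/-- For an elementary abelian regular Sylow 2-subgroup the odd elements of `C(t)` are many. -/
theorem oddCount_bound {n k m : ℕ} (hn : 5 ≤ n) {t : G} (T : Sylow 2 G)
    (hexp : ∀ s ∈ (T : Subgroup G), s * s = 1) (htT : t ∈ (T : Subgroup G))
    (hTC : (T : Subgroup G) ≤ Subgroup.centralizer ({t} : Set G))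
    (hcardT : Nat.card (T : Subgroup G) = 2 ^ n) (hm : Odd m) (hG : Nat.card G = 2 ^ n * m)
    (hself : ∀ u : G, (∀ s ∈ (T : Subgroup G), Commute u s) → u ∈ (T : Subgroup G))
    (hsingle : ∀ z : G, orderOf z = 2 → IsConj t z)
    (hk : k = (T : Subgroup G).relIndex (Subgroup.centralizer ({t} : Set G) ⊓
      Subgroup.normalizer ((T : Subgroup G) : Set G)))
    (hk1 : k ≠ 1) :
    11 * k ≤ 3 * oddCount (Subgroup.centralizer ({t} : Set G) ⊓
      Subgroup.normalizer ((T : Subgroup G) : Set G)) := by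
  haveI : Fact (Nat.Prime 2) := ⟨Nat.prime_two⟩
  set S : Subgroup G := (T : Subgroup G) with hS
  set N := Subgroup.normalizer (S : Set G) with hN
  set C := Subgroup.centralizer ({t} : Set G) with hC
  set N0 := C ⊓ N with hN0
  have hS0 : S ≤ N0 := le_inf hTC Subgroup.le_normalizer
  have hcard0 : Nat.card N0 = 2 ^ n * k := by
    rw [hk, ← hcardT, ← Nat.card_congr (Subgroup.subgroupOfEquivOfLe hS0).toEquiv]
    exact (Subgroup.card_mul_index _).symm
  have hkodd : Odd k := by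
    have h := Subgroup.card_subgroup_dvd_card N0
    rw [hcard0, hG] at h
    exact hm.of_dvd_nat (Nat.dvd_of_mul_dvd_mul_left (by positivity) h)
  obtain ⟨R, hR, hR1, hRT, hRc, hsum⟩ :=
    exists_reps_oddCount hexp hS0 inf_le_right (hk ▸ hkodd)
  -- the indices
  have hcubeT : ∀ w ∈ R, w ≠ 1 → (centIn S w).relIndex S = 4 → w ^ 3 = 1 := by
    intro w hw hw1 h4
    refine eq_one_of_odd_mem hexp ?_ ((hR w hw).2.of_dvd_nat (orderOf_pow_dvd 3))
    exact hself _ fun s hs => cube_commute hexp (hR w hw).2 ((hR w hw).1).2 h4 s hs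
  have hpow : ∀ w ∈ R, w ≠ 1 →
      (centIn S w).relIndex S = 4 ∨ 8 ≤ (centIn S w).relIndex S := by
    intro w hw hw1
    obtain ⟨i, -, hi⟩ := (Nat.dvd_prime_pow Nat.prime_two).1
      (hcardT ▸ (show (centIn S w).relIndex S ∣ Nat.card S from Subgroup.index_dvd_card _))
    rcases i with _ | _ | _ | i
    · exfalso
      refine hw1 (hRT w hw (hself w fun s hs => ?_))
      exact ((mem_centIn.1 (Subgroup.relIndex_eq_one.1 (by simpa using hi) hs)).2).symm
    · exact absurd (by simpa using hi) (relIndex_centIn_ne_two hexp (hR w hw).2 ((hR w hw).1).2)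
    · exact Or.inl (by simpa using hi)
    · exact Or.inr (hi ▸ (show 2 ^ 3 ≤ 2 ^ (i + 3) from
        Nat.pow_le_pow_right (by norm_num) (by omega)))
  have hone : (centIn S 1).relIndex S = 1 :=
    Subgroup.relIndex_eq_one.2 fun s hs => mem_centIn.2 ⟨hs, Commute.one_right s⟩
  have hlow : ∀ c : ℕ, (∀ w ∈ R, w ≠ 1 → c ≤ (centIn S w).relIndex S) →
      1 + (k - 1) * c ≤ oddCount N0 := by
    intro c hc
    refine le_trans ?_ hsum
    rw [← Finset.add_sum_erase _ _ hR1, hone, hk, ← hRc, ← Finset.card_erase_of_mem hR1]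
    refine Nat.add_le_add_left ?_ 1
    rw [← smul_eq_mul]
    exact Finset.card_nsmul_le_sum _ _ _ fun w hw =>
      hc w (Finset.mem_of_mem_erase hw) (Finset.ne_of_mem_erase hw)
  obtain ⟨l, hl⟩ := hkodd
  by_cases hno4 : ∀ w ∈ R, w ≠ 1 → (centIn S w).relIndex S ≠ 4
  · have := hlow 8 fun w hw hw1 => (hpow w hw hw1).resolve_left (hno4 w hw hw1)
    omega
  push Not at hno4
  obtain ⟨w, hw, hw1, hw4⟩ := hno4
  have hcase : k = 3 ∨ 9 ≤ k := by
    by_contra hne
    have hw3 := hcubeT w hw hw1 hw4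
    have h3 : orderOf w = 3 :=
      orderOf_eq_prime (p := 3) hw3 hw1
    have h' := Subgroup.orderOf_dvd_natCard N0 (hR w hw).1
    rw [h3, hcard0] at h'
    have hc : Nat.Coprime 3 (2 ^ n) := Nat.Coprime.pow_right _ (by norm_num)
    obtain ⟨q, hq⟩ := hc.dvd_of_dvd_mul_left h'
    omega
  rcases hcase with hk3 | hk9
  swap
  · have := hlow 4 fun v hv hv1 => (hpow v hv hv1).elim (fun h => h.ge) fun h => by omega
    omega
  exfalso
  -- `k = 3`: the sets `C_T(w)` and their conjugates partition `T#`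
  have hw3 := hcubeT w hw hw1 hw4
  have hordw : orderOf w = 3 := orderOf_eq_prime (p := 3) hw3 hw1
  have hW : ∀ H : Subgroup G, S ≤ H → w ∈ H → H ≤ N → Nat.card H = 2 ^ n * k → N0 ≤ H →
      H = N0 := fun H _ _ _ hH hle => (Subgroup.eq_of_le_of_card_ge hle (by rw [hH, hcard0])).symm
  have hgen : ∀ H : Subgroup G, S ≤ H → w ∈ H → N0 ≤ H := by
    intro H hSH hwH
    have hd1 : 2 ^ n ∣ Nat.card ↥(N0 ⊓ H) := hcardT ▸ Subgroup.card_dvd_of_le (le_inf hS0 hSH)
    have hd2 : 3 ∣ Nat.card ↥(N0 ⊓ H) :=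
      hordw ▸ Subgroup.orderOf_dvd_natCard _ (show w ∈ N0 ⊓ H from ⟨(hR w hw).1, hwH⟩)
    have hd : 2 ^ n * 3 ∣ Nat.card ↥(N0 ⊓ H) :=
      (Nat.Coprime.pow_left _ (by norm_num)).mul_dvd_of_dvd_of_dvd hd1 hd2
    have := Subgroup.eq_of_le_of_card_ge (show N0 ⊓ H ≤ N0 from inf_le_left)
      (by rw [hcard0, hk3]; exact Nat.le_of_dvd Nat.card_pos hd)
    exact this ▸ inf_le_right
  haveI : IsMulCommutative S := ⟨⟨fun a b => Subtype.ext (by
    have h1 := hexp _ (S.mul_mem a.2 b.2)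
    calc (a : G) * b = ((a : G) * b)⁻¹ := eq_inv_of_mul_eq_one_left h1
      _ = b * a := by
        rw [mul_inv_rev, inv_eq_of_mul_eq_one_right (hexp a a.2),
          inv_eq_of_mul_eq_one_right (hexp b b.2)])⟩⟩
  have hcS : ∀ u ∈ S, S ≤ Subgroup.centralizer ({u} : Set G) := fun u hu s hs =>
    Subgroup.mem_centralizer_singleton_iff.2
      (congrArg Subtype.val (IsMulCommutative.is_comm.comm (⟨s, hs⟩ : S) ⟨u, hu⟩))
  let F : G → Subgroup G := fun u => N ⊓ Subgroup.centralizer ({u} : Set G)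
  have hFt : F t = N0 := inf_comm _ _
  have hconjmem : ∀ g ∈ N, ∀ u a : G, a ∈ F u ↔ g * a * g⁻¹ ∈ F (g * u * g⁻¹) := by
    intro g hg u a
    simp only [F, Subgroup.mem_inf, Subgroup.mem_centralizer_singleton_iff]
    refine and_congr ?_ ?_
    · exact ⟨fun ha => N.mul_mem (N.mul_mem hg ha) (N.inv_mem hg), fun ha => by
        have := N.mul_mem (N.mul_mem (N.inv_mem hg) ha) hg
        rwa [show g⁻¹ * (g * a * g⁻¹) * g = a by group] at this⟩
    · rw [show g * a * g⁻¹ * (g * u * g⁻¹) = g * (a * u) * g⁻¹ by group,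
        show g * u * g⁻¹ * (g * a * g⁻¹) = g * (u * a) * g⁻¹ by group, mul_left_inj,
        mul_right_inj]
  have hFconj : ∀ g ∈ N, ∀ u u' : G, F u = F u' ↔ F (g * u * g⁻¹) = F (g * u' * g⁻¹) := by
    intro g hg u u'
    constructor
    · intro h
      ext b
      rw [show b = g * (g⁻¹ * b * g) * g⁻¹ by group, ← hconjmem g hg u, ← hconjmem g hg u', h]
    · intro h
      ext a
      rw [hconjmem g hg u a, hconjmem g hg u' a, h]
  have hfus : ∀ u ∈ S, u ≠ 1 → ∃ g ∈ N, g * t * g⁻¹ = u := by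
    intro u hu hu1
    obtain ⟨g, hg⟩ := isConj_iff.1 (hsingle u (orderOf_eq_prime (by rw [pow_two, hexp u hu]) hu1))
    obtain ⟨q, hq, hqe⟩ := T.conj_eq_normalizer_conj_of_mem t g⁻¹ htT
      (show g⁻¹⁻¹ * t * g⁻¹ ∈ T by rw [inv_inv, hg]; exact hu)
    refine ⟨q⁻¹, N.inv_mem hq, ?_⟩
    rw [inv_inv] at hqe ⊢
    rw [← hqe, hg]
  let T₁ : Finset G := Finset.univ.filter fun u => u ∈ S ∧ u ≠ 1
  let U₁ : Finset G := Finset.univ.filter fun u => u ∈ centIn S w ∧ u ≠ 1
  have hmemT : ∀ g ∈ N, ∀ u, (g * u * g⁻¹ ∈ S ∧ g * u * g⁻¹ ≠ 1) ↔ (u ∈ S ∧ u ≠ 1) := fun g hg u =>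
    and_congr ((Subgroup.mem_normalizer_iff.1 hg u).symm) (not_congr conj_eq_one_iff)
  have hbase : (T₁.filter fun u => F u = N0) = U₁ := by
    ext u
    simp only [T₁, U₁, Finset.mem_filter, Finset.mem_univ, true_and, mem_centIn]
    constructor
    · rintro ⟨⟨hu, hu1⟩, hF⟩
      have : w ∈ F u := hF ▸ (hR w hw).1
      exact ⟨⟨hu, (Subgroup.mem_centralizer_singleton_iff.1 this.2).symm⟩, hu1⟩
    · rintro ⟨⟨hu, hcw⟩, hu1⟩
      refine ⟨⟨hu, hu1⟩, ?_⟩
      have hwF : w ∈ F u :=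
        ⟨((hR w hw).1).2, Subgroup.mem_centralizer_singleton_iff.2 hcw.eq.symm⟩
      have hSF : S ≤ F u := le_inf Subgroup.le_normalizer (hcS u hu)
      obtain ⟨g, hg, hgu⟩ := hfus u hu hu1
      have hcardF : Nat.card (F u) = Nat.card N0 := by
        rw [← hFt, ← hgu]
        refine (Nat.card_congr ((MulAut.conj g).toEquiv.subtypeEquiv fun a => ?_)).symm
        exact hconjmem g hg t a
      exact hW _ hSF hwF inf_le_left (hcardF.trans hcard0) (hgen _ hSF hwF)
  have hfibre : ∀ H ∈ T₁.image F, (T₁.filter fun u => F u = H).card = U₁.card := by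
    intro H hH
    obtain ⟨u, hu, rfl⟩ := Finset.mem_image.1 hH
    obtain ⟨hu, hu1⟩ := (Finset.mem_filter.1 hu).2
    obtain ⟨g, hg, hgu⟩ := hfus u hu hu1
    rw [← hbase]
    refine (Finset.card_bij' (fun v _ => g * v * g⁻¹) (fun v _ => g⁻¹ * v * g) ?_ ?_ ?_ ?_).symm
    · intro v hv
      simp only [T₁, Finset.mem_filter, Finset.mem_univ, true_and] at hv ⊢
      refine ⟨(hmemT g hg v).2 hv.1, ?_⟩
      rw [← hgu, ← (hFconj g hg v t)]
      rw [hv.2, hFt]
    · intro v hv
      simp only [T₁, Finset.mem_filter, Finset.mem_univ, true_and] at hv ⊢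
      have e : g * (g⁻¹ * v * g) * g⁻¹ = v := by group
      refine ⟨(hmemT g hg _).1 (by rw [e]; exact hv.1), ?_⟩
      rw [← hFt, hFconj g hg, e, hgu]
      exact hv.2
    · intro v _; group
    · intro v _; group
  have hdiv : U₁.card ∣ T₁.card := by
    rw [Finset.card_eq_sum_card_image F T₁, Finset.sum_congr rfl hfibre, Finset.sum_const,
      smul_eq_mul]
    exact dvd_mul_left _ _
  have hcardF : ∀ H : Subgroup G,
      (Finset.univ.filter fun u => u ∈ H ∧ u ≠ 1).card = Nat.card H - 1 := fun H => by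
    rw [show (Finset.univ.filter fun u => u ∈ H ∧ u ≠ 1) =
        (Finset.univ.filter fun u => u ∈ H).erase 1 by ext; simp [and_comm],
      Finset.card_erase_of_mem (by simp), ← Fintype.card_subtype, ← Nat.card_eq_fintype_card]
  rw [show T₁.card = _ from hcardF S, show U₁.card = _ from hcardF (centIn S w), hcardT] at hdiv
  have hU : Nat.card (centIn S w) = 2 ^ (n - 2) := by
    have h := Subgroup.card_mul_index ((centIn S w).subgroupOf S)
    rw [Nat.card_congr (Subgroup.subgroupOfEquivOfLe (show centIn S w ≤ S from inf_le_left)).toEquiv,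
      show ((centIn S w).subgroupOf S).index = 4 from hw4, hcardT,
      show n = n - 2 + 2 by omega, pow_add] at h
    omega
  rw [hU, show n = n - 2 + 2 by omega, pow_add] at hdiv
  simp only [Nat.add_sub_cancel] at hdiv
  have h8 : 2 ^ 3 ≤ 2 ^ (n - 2) := Nat.pow_le_pow_right (by norm_num) (by omega)
  have h3 : 2 ^ (n - 2) - 1 ∣ 3 := by
    have e : 2 ^ (n - 2) * 2 ^ 2 - 1 = 4 * (2 ^ (n - 2) - 1) + 3 := by omega
    rw [e] at hdiv
    exact (Nat.dvd_add_right (dvd_mul_left _ 4)).1 hdiv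
  have := Nat.le_of_dvd (by norm_num) h3
  omega

/-- With `3p - 1` a power of 2: `11|G|/(3f)` elements fix one point. -/
theorem Three.Inv.count_power_two [IsPretransitive G α] [FaithfulSMul G α] (D : Three P α)
    (I : D.Inv) (hA : I.A = 0) {n m : ℕ} (hn : 5 ≤ n) (hf : 3 * p - 1 = 2 ^ n) (hm : Odd m)
    (hG : Nat.card G = 2 ^ n * m) (hJo : Odd I.J) (hJ1 : 1 < I.J) :
    11 * Nat.card G ≤ 3 * (2 ^ n * ((regSet G p).filter fun u => D.v u = 0).card) := by
  haveI : Fact (Nat.Prime 2) := ⟨Nat.prime_two⟩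
  set C := Subgroup.centralizer ({I.t} : Set G) with hC
  set K := oddCount C with hK
  have hCcard : Nat.card C = 2 ^ n * I.J := by rw [hC, I.cent, hA, Nat.sub_zero, hf, mul_comm]
  have ht2 : I.t ^ 2 = 1 := by rw [← I.ord, pow_orderOf_eq_one]
  have ht1 : I.t ≠ 1 := fun e => by have := I.ord; rw [e, orderOf_one] at this; omega
  have hsub : ∀ z : G, ∀ k : ℕ, z ^ 2 ^ k = 1 → z ≠ 1 →
      partSet z ⊆ (regSet G p).filter fun u => D.v u = 0 := fun z k hz hz1 u hu =>
    Finset.mem_filter.2 (I.partConj_mem D hA hz hz1 (Finset.mem_filter.1 hu).2)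
  -- a Sylow subgroup in `C(t)`
  obtain ⟨T₀⟩ := (inferInstance : Nonempty (Sylow 2 C))
  have hT₀ : Nat.card (T₀ : Subgroup C) = 2 ^ n := by
    obtain ⟨i, hi⟩ := IsPGroup.iff_card.1 T₀.2
    rw [hi]
    refine congrArg (2 ^ ·) (le_antisymm ?_ ?_)
    · have h := Subgroup.card_subgroup_dvd_card (T₀ : Subgroup C)
      rw [hi, hCcard] at h
      exact (Nat.pow_dvd_pow_iff_le_right (by norm_num)).1
        ((Nat.Coprime.pow_left _ (Nat.coprime_two_left.2 hJo)).dvd_of_dvd_mul_right h)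
    · have h := T₀.pow_dvd_card_of_pow_dvd_card (n := n) (hCcard ▸ dvd_mul_right _ _)
      rw [hi] at h
      exact (Nat.pow_dvd_pow_iff_le_right (by norm_num)).1 h
  obtain ⟨S, hS⟩ : ∃ S : Subgroup G, S = (T₀ : Subgroup C).map C.subtype := ⟨_, rfl⟩
  have hScard : Nat.card S = 2 ^ n := by
    rw [hS, Subgroup.card_map_of_injective C.subtype_injective, hT₀]
  have hfac : (Nat.card G).factorization 2 = n := by
    rw [hG, Nat.factorization_mul (by positivity) (Nat.pos_iff_ne_zero.1 hm.pos), Finsupp.add_apply,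
      Nat.Prime.factorization_pow Nat.prime_two, Finsupp.single_eq_same,
      Nat.factorization_eq_zero_of_not_dvd (Nat.two_dvd_ne_zero.2 (Nat.odd_iff.1 hm)), add_zero]
  set T : Sylow 2 G := Sylow.ofCard S (by rw [hScard, hfac]) with hT
  have hTS : (T : Subgroup G) = S := rfl
  have hSC : S ≤ C := hS ▸ Subgroup.map_subtype_le _
  have htS : I.t ∈ S := by
    have htC : I.t ∈ C := Subgroup.mem_centralizer_singleton_iff.2 rfl
    set tC : C := ⟨I.t, htC⟩ with htCdef
    haveI : (Subgroup.zpowers tC).Normal := ⟨fun x hx g => by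
      have hc : g * x * g⁻¹ = x := by
        have : Commute g tC := Subtype.ext (Subgroup.mem_centralizer_singleton_iff.1 g.2)
        obtain ⟨i, rfl⟩ := Subgroup.mem_zpowers_iff.1 hx
        rw [(this.zpow_right i).eq, mul_inv_cancel_right]
      rw [hc]; exact hx⟩
    have hp2 : IsPGroup 2 (Subgroup.zpowers tC) := IsPGroup.of_card (n := 1) (by
      rw [Nat.card_zpowers, htCdef, Subgroup.orderOf_mk, I.ord, pow_one])
    have he := T₀.3 (T₀.2.to_sup_of_normal_right hp2) le_sup_left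
    rw [hS]
    exact ⟨tC, he ▸ (le_sup_right : Subgroup.zpowers tC ≤ _) (Subgroup.mem_zpowers tC), rfl⟩
  obtain ⟨a, ha, hfree, -⟩ := I.exists_fixed D hA (hTS ▸ T.2 : IsPGroup 2 S)
  have hta : I.t • a = a := ha _ htS
  have hCa : ∀ c ∈ C, c • a = a := by
    intro c hc
    have : c • a ∈ fixedBy α I.t := by
      show I.t • c • a = c • a
      rw [← mul_smul, ← Subgroup.mem_centralizer_singleton_iff.1 hc, mul_smul, hta]
    rw [hfree _ htS ht1] at this
    exact this
  -- `S` is regular on the other points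
  have hcompl : Nat.card {d : α // d ≠ a} = 2 ^ n := by
    rw [Nat.card_eq_fintype_card, Fintype.card_subtype_compl, Fintype.card_subtype_eq,
      ← Nat.card_eq_fintype_card, D.card, hf]
  have hreg : ∀ b : α, b ≠ a → ∀ d : α, d ≠ a → ∃ s ∈ S, s • b = d := by
    intro b hb d hd
    let φ : S → {d : α // d ≠ a} := fun s => ⟨(s : G) • b, fun h =>
      hb (smul_left_cancel _ (h.trans (ha _ s.2).symm))⟩
    have hinj : Function.Injective φ := fun s r h => by
      have h' : (s : G) • b = (r : G) • b := congrArg Subtype.val h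
      by_contra hne
      have hne' : (r : G)⁻¹ * s ≠ 1 := fun e => hne (Subtype.ext (inv_mul_eq_one.1 e).symm)
      have hbf : b ∈ fixedBy α ((r : G)⁻¹ * s) := by
        show ((r : G)⁻¹ * s) • b = b
        rw [mul_smul, h', inv_smul_smul]
      rw [hfree _ (S.mul_mem (S.inv_mem r.2) s.2) hne'] at hbf
      exact hb hbf
    obtain ⟨s, hs⟩ := ((Nat.bijective_iff_injective_and_card φ).2
      ⟨hinj, hScard.trans hcompl.symm⟩).2 ⟨d, hd⟩
    exact ⟨s, s.2, congrArg Subtype.val hs⟩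
  -- `K ≥ 2J`
  have hKdvd : I.J ∣ K := dvd_oddCount hJo hCcard
  have hK2 : 2 * I.J ≤ K := by
    by_contra hlt
    obtain ⟨q, hq⟩ := hKdvd
    have hKpos : 0 < K := oddCount_pos C
    have hq1 : q = 1 := by
      rw [hq] at hlt hKpos
      have h1 : q < 2 := Nat.lt_of_mul_lt_mul_left (a := I.J) (by linarith)
      have h0 : q ≠ 0 := fun e => by rw [e, mul_zero] at hKpos; omega
      omega
    rw [hq1, mul_one] at hq
    have hstab : ∀ b : α, b ≠ a → Nat.card (stabilizer C b) = I.J := by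
      intro b hb
      have horb : orbit C b = {d : α | d ≠ a} := by
        ext d
        refine ⟨?_, fun hd => ?_⟩
        · rintro ⟨c, rfl⟩ h
          exact hb (smul_left_cancel (c : G) ((h : (c : G) • b = a).trans (hCa c c.2).symm))
        · obtain ⟨s, hs, he⟩ := hreg b hb d hd
          exact ⟨⟨s, hSC hs⟩, he⟩
      have h := Subgroup.card_mul_index (stabilizer C b)
      rw [index_stabilizer, horb, hCcard, ← Nat.card_coe_set_eq] at h
      have hc : Nat.card {d : α | d ≠ a} = 2 ^ n := hcompl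
      rw [hc, mul_comm (2 ^ n)] at h
      exact Nat.eq_of_mul_eq_mul_right (by positivity) h
    have hall : ∀ b : α, b ≠ a → ∀ x : C, Odd (orderOf x) ↔ x ∈ stabilizer C b := by
      intro b hb
      let φ : stabilizer C b → {x : C // Odd (orderOf x)} := fun x => ⟨x, by
        have h := Subgroup.orderOf_dvd_natCard _ x.2
        rw [hstab b hb] at h
        exact hJo.of_dvd_nat h⟩
      have hinj : Function.Injective φ := fun x y h =>
        Subtype.ext (congrArg (fun w : {x : C // Odd (orderOf x)} => (w : C)) h)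
      have hsurj := ((Nat.bijective_iff_injective_and_card φ).2
        ⟨hinj, (hstab b hb).trans hq.symm⟩).2
      refine fun x => ⟨fun hx => ?_, fun hx => (φ ⟨x, hx⟩).2⟩
      obtain ⟨y, hy⟩ := hsurj ⟨x, hx⟩
      rw [show x = (y : C) from (congrArg Subtype.val hy).symm]
      exact y.2
    obtain ⟨b, hb⟩ : ∃ b : α, b ≠ a := by
      obtain ⟨⟨b, hb⟩⟩ : Nonempty {d : α // d ≠ a} := (Nat.card_pos_iff.1 (by rw [hcompl]; positivity)).1
      exact ⟨b, hb⟩
    have hbot : stabilizer C b = ⊥ := by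
      rw [Subgroup.eq_bot_iff_forall]
      intro x hx
      refine Subtype.ext (Perm.eq_one_of_forall_smul_eq (α := α) fun d => ?_)
      by_cases hd : d = a
      · rw [hd]; exact hCa _ x.2
      · exact mem_stabilizer_iff.1 ((hall d hd x).1 ((hall b hb x).2 hx))
    have := hstab b hb
    rw [hbot, Subgroup.card_bot] at this
    omega
  by_cases hexp : ∀ s ∈ S, s * s = 1
  · -- elementary abelian
    have hcomm : ∀ x ∈ S, ∀ y ∈ S, x * y = y * x := by
      intro x hx y hy
      calc x * y = (x * y)⁻¹ := eq_inv_of_mul_eq_one_left (hexp _ (S.mul_mem hx hy))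
        _ = y * x := by
          rw [mul_inv_rev, inv_eq_of_mul_eq_one_right (hexp x hx),
            inv_eq_of_mul_eq_one_right (hexp y hy)]
    have hself : ∀ u : G, (∀ s ∈ S, Commute u s) → u ∈ S := by
      intro u hu
      have huC : u ∈ C := Subgroup.mem_centralizer_singleton_iff.2 (hu _ htS)
      obtain ⟨⟨b, hb⟩⟩ : Nonempty {d : α // d ≠ a} := (Nat.card_pos_iff.1 (by rw [hcompl]; positivity)).1
      obtain ⟨s, hs, hse⟩ := hreg b hb (u • b) fun h =>
        hb (smul_left_cancel u (h.trans (hCa u huC).symm))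
      suffices h : s⁻¹ * u = 1 by rw [← inv_mul_eq_one.1 h]; exact hs
      refine Perm.eq_one_of_forall_smul_eq (α := α) fun d => ?_
      rw [mul_smul, inv_smul_eq_iff]
      by_cases hd : d = a
      · rw [hd, hCa u huC, ha s hs]
      · obtain ⟨r, hr, rfl⟩ := hreg b hb d hd
        rw [← mul_smul, (hu r hr).eq, mul_smul, ← hse, ← mul_smul, ← mul_smul, hcomm r hr s hs]
    obtain ⟨k, hk⟩ : ∃ k, k = S.relIndex (C ⊓ Subgroup.normalizer (S : Set G)) := ⟨_, rfl⟩
    set N0 := C ⊓ Subgroup.normalizer (S : Set G) with hN0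
    have hS0 : S ≤ N0 := le_inf hSC Subgroup.le_normalizer
    have hcard0 : Nat.card N0 = 2 ^ n * k := by
      rw [hk, ← hScard, ← Nat.card_congr (Subgroup.subgroupOfEquivOfLe hS0).toEquiv]
      exact (Subgroup.card_mul_index _).symm
    have hKk : K * k = I.J * oddCount N0 := by
      have h := oddRatio_normalizer T (fun s hs => hexp s hs) _ C rfl (hTS ▸ hSC)
      rw [hTS, ← hN0, oddRatio, oddRatio, ← hK, hCcard, hcard0,
        div_eq_div_iff (by
          push_cast
          exact mul_ne_zero (by positivity) (Nat.cast_ne_zero.2 I.Jpos.ne'))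
          (by
            rw [← hcard0]
            exact Nat.cast_ne_zero.2 Nat.card_pos.ne')] at h
      have h' : K * (2 ^ n * k) = oddCount N0 * (2 ^ n * I.J) := by exact_mod_cast h
      refine Nat.eq_of_mul_eq_mul_left (show 0 < 2 ^ n by positivity) ?_
      linarith
    have hk1 : k ≠ 1 := by
      intro h1
      rw [h1, mul_one] at hKk hcard0
      have : oddCount N0 = 1 := by
        refine Nat.card_eq_one_iff_exists.2 ⟨⟨1, by simp⟩, fun x => Subtype.ext (Subtype.ext ?_)⟩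
        refine eq_one_of_odd_mem hexp ?_ (by rw [Subgroup.orderOf_coe]; exact x.2)
        rw [Subgroup.eq_of_le_of_card_ge hS0 (by rw [hcard0, hScard])]
        exact x.1.2
      rw [this, mul_one] at hKk
      omega
    have hbound : 11 * k ≤ 3 * oddCount N0 := oddCount_bound hn T (fun s hs => hexp s hs) htS
      (hTS ▸ hSC) (hTS ▸ hScard) hm hG (fun u hu => hself u hu) I.single hk hk1
    have hkpos : 0 < k := by
      rcases Nat.eq_zero_or_pos k with h | h
      · rw [h, mul_zero] at hcard0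
        exact absurd hcard0 Nat.card_pos.ne'
      · exact h
    have h11 : 11 * I.J ≤ 3 * K := by
      refine Nat.le_of_mul_le_mul_right ?_ hkpos
      rw [mul_assoc 3, hKk]
      calc 11 * I.J * k = I.J * (11 * k) := by ring
        _ ≤ I.J * (3 * oddCount N0) := Nat.mul_le_mul_left _ hbound
        _ = 3 * (I.J * oddCount N0) := by ring
    have hE : (partSet I.t).card * (2 ^ n * I.J) = Nat.card G * K := by
      rw [← hCcard]; exact card_partSet ⟨1, by rw [pow_one]; exact ht2⟩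
    have hle := Finset.card_le_card (hsub I.t 1 (by rw [pow_one]; exact ht2) ht1)
    refine le_trans ?_ (Nat.mul_le_mul_left 3 (Nat.mul_le_mul_left (2 ^ n) hle))
    refine Nat.le_of_mul_le_mul_right ?_ I.Jpos
    calc 11 * Nat.card G * I.J = Nat.card G * (11 * I.J) := by ring
      _ ≤ Nat.card G * (3 * K) := Nat.mul_le_mul_left _ h11
      _ = 3 * ((partSet I.t).card * (2 ^ n * I.J)) := by rw [hE]; ring
      _ = 3 * (2 ^ n * (partSet I.t).card) * I.J := by ring
  -- an element of order 4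
  push Not at hexp
  obtain ⟨s, hs, hs2⟩ := hexp
  obtain ⟨r, -, hr⟩ := (Nat.dvd_prime_pow Nat.prime_two).1
    (hScard ▸ Subgroup.orderOf_dvd_natCard S hs)
  obtain ⟨r, rfl⟩ : ∃ r', r = r' + 2 := by
    refine ⟨r - 2, ?_⟩
    rcases r with _ | _ | r
    · exact absurd (show s * s = 1 by rw [orderOf_eq_one_iff.1 hr, one_mul]) hs2
    · exact absurd (show s * s = 1 by rw [← pow_two, ← pow_orderOf_eq_one s, hr, zero_add, pow_one]) hs2
    · omega
  obtain ⟨x, hx⟩ : ∃ x : G, orderOf x = 4 := ⟨s ^ 2 ^ r, by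
    rw [orderOf_pow_of_dvd (by positivity) (by rw [hr]; exact pow_dvd_pow 2 (by omega)), hr,
      pow_add, Nat.mul_div_cancel_left _ (by positivity)]
    norm_num⟩
  have hx4 : x ^ 2 ^ 2 = 1 := by rw [show (2 : ℕ) ^ 2 = 4 by norm_num, ← hx, pow_orderOf_eq_one]
  have hx1 : x ≠ 1 := fun e => by rw [e, orderOf_one] at hx; omega
  have hxi4 : x⁻¹ ^ 2 ^ 2 = 1 := by rw [inv_pow, hx4, inv_one]
  have htk : ∃ k : ℕ, I.t ^ 2 ^ k = 1 := ⟨1, by rw [pow_one]; exact ht2⟩
  have hdist : ∀ y : G, orderOf y = 4 → ¬ IsConj I.t y := by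
    intro y hy h
    obtain ⟨g, hg⟩ := isConj_iff.1 h
    rw [← hg, show g * I.t * g⁻¹ = MulAut.conj g I.t from rfl, MulEquiv.orderOf_eq, I.ord] at hy
    omega
  have hEt : 2 * Nat.card G ≤ 2 ^ n * (partSet I.t).card := le_card_partSet htk I.Jpos hCcard hK2
  obtain ⟨j, m', hm', hCx⟩ := Nat.exists_eq_two_pow_mul_odd
    (Nat.card_pos (α := Subgroup.centralizer ({x} : Set G))).ne'
  have hjn : j ≤ n := by
    have h := Subgroup.card_subgroup_dvd_card (Subgroup.centralizer ({x} : Set G))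
    rw [hCx, hG] at h
    exact (Nat.pow_dvd_pow_iff_le_right (by norm_num)).1
      ((Nat.Coprime.pow_left _ (Nat.coprime_two_left.2 hm)).dvd_of_dvd_mul_right
        ((dvd_mul_right _ _).trans h))
  have hEx : Nat.card G ≤ 2 ^ j * (partSet x).card := by
    simpa using le_card_partSet (r := 1) ⟨2, hx4⟩ hm'.pos hCx
      (by rw [one_mul]; exact Nat.le_of_dvd (oddCount_pos _) (dvd_oddCount hm' hCx))
  rcases hjn.lt_or_eq with hlt | heq
  · have hpow : 2 * 2 ^ j ≤ 2 ^ n := by
      rw [← pow_succ']; exact Nat.pow_le_pow_right (by norm_num) (by omega)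
    have h2 : 2 * Nat.card G ≤ 2 ^ n * (partSet x).card :=
      le_trans (Nat.mul_le_mul_left 2 hEx) (by
        rw [← mul_assoc]; exact Nat.mul_le_mul_right _ hpow)
    have hle := Finset.card_le_card (Finset.union_subset (hsub I.t 1 (by rw [pow_one]; exact ht2) ht1)
      (hsub x 2 hx4 hx1))
    rw [Finset.card_union_of_disjoint (disjoint_partSet htk ⟨2, hx4⟩ (hdist x hx))] at hle
    have := Nat.mul_le_mul_left (2 ^ n) hle
    rw [mul_add] at this
    omega
  · have hne : x⁻¹ ≠ x := fun e => by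
      have : orderOf x ∣ 2 := orderOf_dvd_of_pow_eq_one (by
        rw [pow_two]
        nth_rw 1 [← e]
        exact inv_mul_cancel x)
      rw [hx] at this
      omega
    have hnc := not_isConj_inv hm hG hne hCx heq
    have hCi : Subgroup.centralizer ({x⁻¹} : Set G) = Subgroup.centralizer ({x} : Set G) := by
      ext g
      rw [Subgroup.mem_centralizer_singleton_iff, Subgroup.mem_centralizer_singleton_iff]
      exact Commute.inv_right_iff
    have hEi : Nat.card G ≤ 2 ^ j * (partSet x⁻¹).card := by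
      simpa using le_card_partSet (r := 1) ⟨2, hxi4⟩ hm'.pos (hCi ▸ hCx)
        (by rw [one_mul, hCi]; exact Nat.le_of_dvd (oddCount_pos _) (dvd_oddCount hm' hCx))
    rw [heq] at hEx hEi
    have hle := Finset.card_le_card (Finset.union_subset (Finset.union_subset
      (hsub I.t 1 (by rw [pow_one]; exact ht2) ht1) (hsub x 2 hx4 hx1))
      (hsub x⁻¹ 2 hxi4 (inv_ne_one.2 hx1)))
    have d1 := disjoint_partSet htk ⟨2, hx4⟩ (hdist x hx)
    have d2 := disjoint_partSet htk ⟨2, hxi4⟩ (hdist x⁻¹ (by rw [orderOf_inv]; exact hx))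
    have d3 := disjoint_partSet ⟨2, hx4⟩ ⟨2, hxi4⟩ hnc
    rw [Finset.card_union_of_disjoint (Finset.disjoint_union_left.2 ⟨d2, d3⟩),
      Finset.card_union_of_disjoint d1] at hle
    have := Nat.mul_le_mul_left (2 ^ n) hle
    rw [mul_add, mul_add] at this
    omega

theorem Three.Inv.not_three_mod_four [IsPretransitive G α] [FaithfulSMul G α] (D : Three P α)
    (I : D.Inv) : p % 4 ≠ 3 := by
  intro hp4
  have h5 := D.B.five
  have hA : I.A = 0 := by rcases I.hcase with h | h <;> omega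
  obtain ⟨n, fo, m, hfo, hf, hm, hG, hJo, hJ9⟩ := I.two_data D hA hp4
  have hb := (I.moments D).count_bound
  set Z := (regSet G p).filter fun u => D.v u = 0 with hZ
  have hGz : (Nat.card G : ℤ) = p * (3 * p - 1) * (3 * p - 2) * ((I.J : ℤ) * I.J) := by
    rw [I.order]
    push_cast [Nat.cast_sub (show 1 ≤ 3 * p by omega), Nat.cast_sub (show 2 ≤ 3 * p by omega)]
    ring
  obtain ⟨Q, hQ⟩ : ∃ Q, Q = (I.J : ℤ) * I.J := ⟨_, rfl⟩
  have hQ81 : 81 ≤ Q := by
    rw [hQ]; exact_mod_cast Nat.mul_le_mul hJ9 hJ9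
  rw [← hQ] at hb hGz
  have hf0 : (0 : ℤ) < 3 * p - 1 := by omega
  have hg0 : (0 : ℤ) < 3 * p - 2 := by omega
  have hW : (0 : ℤ) ≤ 2 * (3 * p - 3) := by omega
  rcases eq_or_ne fo 1 with h1 | h1
  · subst h1
    rw [mul_one] at hf
    have hn : 5 ≤ n := by
      by_contra hlt
      interval_cases n <;> omega
    have hcnt := I.count_power_two D hA hn hf hm hG hJo (by omega)
    rw [← hf, ← hZ] at hcnt
    have hp11 : (11 : ℤ) ≤ p := by
      have : 2 ^ 5 ≤ 2 ^ n := Nat.pow_le_pow_right (by norm_num) hn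
      exact_mod_cast (show 11 ≤ p by omega)
    have hcnt' : 11 * (Nat.card G : ℤ) ≤ 3 * ((3 * (p : ℤ) - 1) * Z.card) := by
      have : ((11 * Nat.card G : ℕ) : ℤ) ≤ ((3 * ((3 * p - 1) * Z.card) : ℕ) : ℤ) := by
        exact_mod_cast hcnt
      push_cast [Nat.cast_sub (show 1 ≤ 3 * p by omega)] at this
      exact this
    rw [hGz] at hcnt'
    have hZl : 11 * ((p : ℤ) * (3 * p - 2) * Q) ≤ 3 * Z.card := by
      refine le_of_mul_le_mul_left ?_ hf0
      linarith
    have key : (3 * (p : ℤ) - 2) * (22 * (3 * p - 3) * p * Q) ≤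
        (3 * (p : ℤ) - 2) * (3 * ((3 * p - 1) * Q * (3 * (3 * p - 1) - 2 * p) +
          ((3 * p - 1) ^ 2 - 4))) := by
      have := mul_le_mul_of_nonneg_left hZl hW
      linarith
    have key' := le_of_mul_le_mul_left key hg0
    have e : 52 ≤ (p : ℤ) ^ 2 - 6 * p - 3 := by nlinarith
    nlinarith [mul_le_mul_of_nonneg_right hQ81 (by omega : (0 : ℤ) ≤ (p : ℤ) ^ 2 - 6 * p - 3)]
  · have hfo5 : 5 ≤ fo := by
      obtain ⟨i, hi⟩ := hfo
      by_contra hlt
      have h3 : fo = 3 := by omega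
      rw [h3] at hf
      omega
    have hC : Nat.card (Subgroup.centralizer ({I.t} : Set G)) = 2 ^ n * (fo * I.J) := by
      rw [I.cent, hA, Nat.sub_zero, hf]; ring
    have ht2 : I.t ^ 2 ^ 1 = 1 := by rw [pow_one, ← I.ord, pow_orderOf_eq_one]
    have ht1 : I.t ≠ 1 := fun e => by have := I.ord; rw [e, orderOf_one] at this; omega
    have hEt := le_card_partSet (r := 1) ⟨1, ht2⟩ (Nat.mul_pos (by omega) I.Jpos) hC
      (by rw [one_mul]; exact Nat.le_of_dvd (oddCount_pos _) (dvd_oddCount (hfo.mul hJo) hC))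
    have hle : (partSet I.t).card ≤ Z.card := Finset.card_le_card fun u hu =>
      Finset.mem_filter.2 (I.partConj_mem D hA ht2 ht1 (Finset.mem_filter.1 hu).2)
    have hcnt : 5 * Nat.card G ≤ (3 * p - 1) * Z.card := by
      rw [hf]
      calc 5 * Nat.card G ≤ fo * (1 * Nat.card G) := by
            rw [one_mul]; exact Nat.mul_le_mul_right _ hfo5
        _ ≤ fo * (2 ^ n * Z.card) :=
            Nat.mul_le_mul_left _ (le_trans hEt (Nat.mul_le_mul_left _ hle))
        _ = 2 ^ n * fo * Z.card := by ring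
    have hcnt' : 5 * (Nat.card G : ℤ) ≤ (3 * (p : ℤ) - 1) * Z.card := by
      have : ((5 * Nat.card G : ℕ) : ℤ) ≤ (((3 * p - 1) * Z.card : ℕ) : ℤ) := by
        exact_mod_cast hcnt
      push_cast [Nat.cast_sub (show 1 ≤ 3 * p by omega)] at this
      exact this
    rw [hGz] at hcnt'
    have hZl : 5 * ((p : ℤ) * (3 * p - 2) * Q) ≤ Z.card := by
      refine le_of_mul_le_mul_left ?_ hf0
      linarith
    have key : (3 * (p : ℤ) - 2) * (10 * (3 * p - 3) * p * Q) ≤
        (3 * (p : ℤ) - 2) * ((3 * p - 1) * Q * (3 * (3 * p - 1) - 2 * p) +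
          ((3 * p - 1) ^ 2 - 4)) := by
      have := mul_le_mul_of_nonneg_left hZl hW
      linarith
    have key' := le_of_mul_le_mul_left key hg0
    have hp7 : (7 : ℤ) ≤ p := by exact_mod_cast (show 7 ≤ p by omega)
    have e : 340 ≤ 9 * (p : ℤ) ^ 2 - 14 * p - 3 := by nlinarith
    nlinarith [mul_le_mul_of_nonneg_right hQ81 (by omega : (0 : ℤ) ≤ 9 * (p : ℤ) ^ 2 - 14 * p - 3)]

end Cfsg.Agent.DegreeThreeP
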