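import Cfsg.Agent.Lib.DegreeThreeP.CaseTwoFive

/-!
# Degree `3p` with `χ(1) = 2p - 1`: the order is 360
-/

set_option autoImplicit false
set_option linter.style.haveILetI false
set_option linter.unusedSectionVars false

namespace Cfsg.Agent.DegreeThreeP

open Cfsg Cfsg.Agent MulAction
open scoped ComplexConjugate Classical

universe u v

variable {G : Type u} [Group G] [Fintype G] [IsSimpleGroup G] {α : Type v} [MulAction G α]
  [Fintype α] [IsPretransitive G α] [FaithfulSMul G α] {p : ℕ} [hp : Fact p.Prime] {P : Sylow p G}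

theorem v_pred_nonneg (v : ℤ) : 0 ≤ v * (v - 1) := by
  rcases le_or_gt v 0 with h | h
  · exact mul_nonneg_of_nonpos_of_nonpos h (by omega)
  · exact mul_nonneg (by omega) (by omega)

/-- Values `0` and `1` force `v (v - 1) = 0`, and conversely. -/
theorem eq_zero_or_one {v : ℤ} (h : v * (v - 1) = 0) : v = 0 ∨ v = 1 :=
  (mul_eq_zero.1 h).imp id fun h => by omega

/-- The conjugator pairs of two elements of `P - 1`. -/
theorem card_pairs (B : Blk P) (hY : ∀ θ ∈ B.Y, Char.degree θ = 2 * p - 2)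
    (hf : Char.degree B.χ = 2 * p - 1) (he : B.e = -1) (hε : B.ε = -1) {y : G}
    (hy : y ∈ (P : Subgroup G)) (hy1 : y ≠ 1) {u : G} (hu : IsPRegular p u) {w : ℂ}
    (hw : B.χ.1 u⁻¹ = w) :
    (Nat.card {q : G × G // q.1 * y * q.1⁻¹ * (q.2 * y * q.2⁻¹) = u} : ℂ) =
      (Nat.card G : ℂ) * (1 + w / (2 * (p : ℂ) - 1) +
        ((p : ℂ) - 2) * (w - 1) / (2 * (p : ℂ) - 2)) := by
  have h5 := B.five
  have hu' : IsPRegular p u⁻¹ := by rw [IsPRegular, orderOf_inv]; exact hu
  rw [Char.card_conj_mul_conj_eq, B.sum_irr (fun ψ h1 h2 h3 => by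
    rw [B.vanish ψ h1 h2 h3 y hy hy1, mul_zero, zero_mul, zero_div])]
  congr 1
  have hreg : ∀ θ ∈ B.Y, θ.1 u⁻¹ = w - 1 := fun θ hθ => by
    have h := B.regular θ hθ _ hu'
    rw [he, hε, hw] at h
    push_cast at h
    linear_combination -h
  rw [Finset.sum_congr (s₁ := B.Y) rfl fun θ hθ => show θ.1 y * θ.1 y * θ.1 u⁻¹ / θ.1 1 =
      θ.1 y * conj (θ.1 y) * ((w - 1) / (2 * (p : ℂ) - 2)) by
      rw [hreg θ hθ, Char.apply_one_eq_degree, hY θ hθ, B.conj_of_mem (Char.irr_isCharacter θ) hy,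
        Nat.cast_sub (by omega)]
      push_cast
      ring,
    ← Finset.sum_mul, B.sum_Y_sq y hy hy1, B.val_χ y hy hy1, he, hw, Char.apply_one_eq_degree B.χ,
    hf, Char.trivialChar_apply, Char.trivialChar_apply, Char.trivialChar_apply,
    Nat.cast_sub (show 2 ≤ p by omega), Nat.cast_sub (show 1 ≤ 2 * p by omega)]
  push_cast
  ring

/-- `|C(u)| p²` divides the number of conjugator pairs. -/
theorem mul_dvd_pairs (B : Blk P) {y : G} (hy : y ∈ (P : Subgroup G)) (hy1 : y ≠ 1) {u : G}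
    (hu : IsPRegular p u) (hu1 : u ≠ 1) :
    Nat.card (Subgroup.centralizer ({u} : Set G)) * (p * p) ∣
      Nat.card {q : G × G // q.1 * y * q.1⁻¹ * (q.2 * y * q.2⁻¹) = u} := by
  set C := Subgroup.centralizer ({u} : Set G) with hC
  have hPc : ∀ a ∈ (P : Subgroup G), a * y * a⁻¹ = y := fun a ha => by
    rw [← B.sc.centralizer_singleton hy hy1, Subgroup.mem_centralizer_singleton_iff] at ha
    rw [ha, mul_inv_cancel_right]
  let X := {q : G × G // q.1 * y * q.1⁻¹ * (q.2 * y * q.2⁻¹) = u}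
  letI : MulAction (C × ↥(P : Subgroup G) × ↥(P : Subgroup G)) X :=
    { smul := fun k q => ⟨((k.1 : G) * q.1.1 * (k.2.1 : G)⁻¹, (k.1 : G) * q.1.2 * (k.2.2 : G)⁻¹), by
        have h1 : ∀ (h g : G) (a : G), a ∈ (P : Subgroup G) →
            h * g * a⁻¹ * y * (h * g * a⁻¹)⁻¹ = h * (g * y * g⁻¹) * h⁻¹ := fun h g a ha => by
          conv_lhs => rw [← hPc a ha]
          group
        rw [h1 _ _ _ k.2.1.2, h1 _ _ _ k.2.2.2]
        have hk := Subgroup.mem_centralizer_singleton_iff.1 k.1.2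
        calc (k.1 : G) * (q.1.1 * y * q.1.1⁻¹) * (k.1 : G)⁻¹ *
              ((k.1 : G) * (q.1.2 * y * q.1.2⁻¹) * (k.1 : G)⁻¹)
            = (k.1 : G) * (q.1.1 * y * q.1.1⁻¹ * (q.1.2 * y * q.1.2⁻¹)) * (k.1 : G)⁻¹ := by group
          _ = u := by rw [q.2, hk, mul_inv_cancel_right]⟩
      one_smul := fun q => Subtype.ext (Prod.ext
        (show ((1 : C) : G) * q.1.1 * ((1 : (P : Subgroup G)) : G)⁻¹ = q.1.1 by simp)
        (show ((1 : C) : G) * q.1.2 * ((1 : (P : Subgroup G)) : G)⁻¹ = q.1.2 by simp))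
      mul_smul := fun k k' q => Subtype.ext (Prod.ext
        (show ((k.1 * k'.1 : C) : G) * q.1.1 * ((k.2.1 * k'.2.1 : (P : Subgroup G)) : G)⁻¹ =
            (k.1 : G) * ((k'.1 : G) * q.1.1 * (k'.2.1 : G)⁻¹) * (k.2.1 : G)⁻¹ by
          simp [mul_assoc])
        (show ((k.1 * k'.1 : C) : G) * q.1.2 * ((k.2.2 * k'.2.2 : (P : Subgroup G)) : G)⁻¹ =
            (k.1 : G) * ((k'.1 : G) * q.1.2 * (k'.2.2 : G)⁻¹) * (k.2.2 : G)⁻¹ by
          simp [mul_assoc])) }
  have hfree : ∀ q : X, stabilizer (⊤ : Subgroup (C × ↥(P : Subgroup G) × ↥(P : Subgroup G))) q = ⊥ := by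
    intro q
    rw [Subgroup.eq_bot_iff_forall]
    rintro ⟨⟨h, a, b⟩, hx⟩ hk
    have hk' := mem_stabilizer_iff.1 hk
    have e1 : (h : G) * q.1.1 * (a : G)⁻¹ = q.1.1 := congrArg (fun z : X => z.1.1) hk'
    have e2 : (h : G) * q.1.2 * (b : G)⁻¹ = q.1.2 := congrArg (fun z : X => z.1.2) hk'
    have hh : (h : G) = q.1.1 * a * q.1.1⁻¹ := by
      calc (h : G) = ((h : G) * q.1.1 * (a : G)⁻¹) * a * q.1.1⁻¹ := by group
        _ = q.1.1 * a * q.1.1⁻¹ := by rw [e1]
    have ha1 : a = 1 := by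
      by_contra ha
      have ha' : (a : G) ≠ 1 := fun e => ha (Subtype.ext e)
      have hcom : Commute (h : G) u := Subgroup.mem_centralizer_singleton_iff.1 h.2
      rw [hh] at hcom
      have hcom' : Commute (a : G) (q.1.1⁻¹ * u * q.1.1) := by
        have h3 := (commute_map_iff (MulAut.conj q.1.1⁻¹).injective).2 hcom
        simpa [mul_assoc] using h3
      have hmem : q.1.1⁻¹ * u * q.1.1 ∈ Subgroup.centralizer ({(a : G)} : Set G) :=
        Subgroup.mem_centralizer_singleton_iff.2 hcom'.eq.symm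
      rw [B.sc.centralizer_singleton a.2 ha'] at hmem
      have hord : orderOf (q.1.1⁻¹ * u * q.1.1) = orderOf u := by
        rw [show q.1.1⁻¹ * u * q.1.1 = MulAut.conj q.1.1⁻¹ u by simp, MulEquiv.orderOf_eq]
      rcases (Nat.dvd_prime hp.out).1 (hord ▸ B.sc.card ▸ Subgroup.orderOf_dvd_natCard _ hmem) with
        h' | h'
      · exact hu1 (orderOf_eq_one_iff.1 h')
      · exact hu (h' ▸ dvd_refl p)
    subst ha1
    have hh1 : h = 1 := Subtype.ext (by rw [hh]; simp)
    subst hh1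
    have hb1 : b = 1 := Subtype.ext (by simpa using e2)
    subst hb1
    rfl
  have h1 := Perm.card_dvd_of_semiregular (α := X) (N := (⊤ : Subgroup (C × ↥(P : Subgroup G) × ↥(P : Subgroup G)))) hfree
  rw [Subgroup.card_top, Nat.card_prod, Nat.card_prod] at h1
  rwa [show Nat.card (P : Subgroup G) = p from B.sc.card] at h1

/-- The case `c = 2, m = 1`. -/
theorem Two.Orb.case_two_one (D : Two P α) (O : D.Orb)
    (h01 : ∀ g ∈ regSet G p, O.v g * (O.v g - 1) = 0)
    (hsv : (∑ g ∈ regSet G p, O.v g) * 2 * p =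
      -((Nat.card G : ℤ) * (1 - p)) - 2 * p * (2 * p - 1))
    (hsvv : (∑ g ∈ regSet G p, O.v g * (O.v g - 1)) * p =
      (Nat.card G : ℤ) - p * (2 * p - 1) * (2 * p - 2)) :
    p = 5 ∧ Nat.card G = 360 := by
  have h5 := D.B.five
  obtain ⟨q, hq⟩ : ∃ q, q = 2 * p - 1 := ⟨_, rfl⟩
  have hqp : q + 1 = 2 * p := by omega
  have hGz : (Nat.card G : ℤ) = p * (2 * p - 1) * (2 * p - 2) := by
    rw [Finset.sum_eq_zero h01, zero_mul] at hsvv
    linarith
  have hqz : (q : ℤ) = 2 * (p : ℤ) - 1 := by omega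
  have hG : Nat.card G = 2 * p * (p - 1) * q := by
    have : ((Nat.card G : ℕ) : ℤ) = ((2 * p * (p - 1) * q : ℕ) : ℤ) := by
      rw [hGz]; push_cast [Nat.cast_sub (show 1 ≤ p by omega)]; rw [hqz]; ring
    exact_mod_cast this
  obtain ⟨y, hy, hy1⟩ := D.B.exists_ne_one
  -- the number of elements with value 0
  set Z := (regSet G p).filter fun g => O.v g = 0 with hZ
  have hZcard : Z.card = 4 * p * (p - 1) := by
    have hsum : ∑ g ∈ regSet G p, O.v g = ((regSet G p).card : ℤ) - Z.card := by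
      have hsplit : ∀ g ∈ regSet G p, O.v g = 1 - (if O.v g = 0 then (1 : ℤ) else 0) := fun g hg => by
        rcases eq_zero_or_one (h01 g hg) with h | h <;> simp [h]
      rw [Finset.sum_congr rfl hsplit, Finset.sum_sub_distrib, ← Finset.sum_filter, ← hZ,
        Finset.sum_const, Finset.sum_const, nsmul_eq_mul, mul_one, nsmul_eq_mul, mul_one]
    have hreg := sum_regSet D.B (F := fun _ => (1 : ℂ)) (fun _ _ => rfl) (F₁ := 1)
      (fun _ _ _ => rfl)
    simp only [Finset.sum_const, nsmul_eq_mul, mul_one, Finset.card_univ,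
      ← Nat.card_eq_fintype_card] at hreg
    have hn : (Nat.card G : ℤ) = Nat.card (Sylow p G) * (2 * p) := by
      have h := D.card_G
      exact_mod_cast h
    have hreg' : ((regSet G p).card : ℤ) =
        (Nat.card G : ℤ) - Nat.card (Sylow p G) * ((p : ℤ) - 1) - 1 := by
      have h' : (((regSet G p).card : ℤ) : ℂ) =
          (((Nat.card G : ℤ) - Nat.card (Sylow p G) * ((p : ℤ) - 1) - 1 : ℤ) : ℂ) := by
        push_cast
        exact hreg
      exact_mod_cast h'
    have h2p : (2 * (p : ℤ)) ≠ 0 := by omega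
    have h' : ((Z.card : ℤ)) = ((4 * p * (p - 1) : ℕ) : ℤ) := by
      refine mul_left_cancel₀ h2p ?_
      push_cast [Nat.cast_sub (show 1 ≤ p by omega)]
      have e1 : (∑ g ∈ regSet G p, O.v g) * 2 * p =
          (((regSet G p).card : ℤ) - Z.card) * 2 * p := by rw [hsum]
      linear_combination e1 - hsv + (2 * (p : ℤ)) * hreg' + ((p : ℤ) - 1) * hn + 2 * hGz
    exact_mod_cast h'
  -- the values at the inverse, the centralisers
  have hinv : ∀ u : G, D.B.χ.1 u⁻¹ = (O.v u : ℂ) := fun u => by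
    rw [CharInt.char_inv (Char.irr_isCharacter _) u, O.v_spec u, map_intCast]
  have hp0 : (p : ℂ) ≠ 0 := Nat.cast_ne_zero.2 hp.out.ne_zero
  have hfne : (2 * (p : ℂ) - 1) ≠ 0 := fun h => by
    have : ((2 * p - 1 : ℕ) : ℂ) = 0 := by
      rw [Nat.cast_sub (by omega)]; push_cast; exact h
    have : 2 * p - 1 = 0 := by exact_mod_cast this
    omega
  have hgne : (2 * (p : ℂ) - 2) ≠ 0 := fun h => by
    have : ((2 * p - 2 : ℕ) : ℂ) = 0 := by
      rw [Nat.cast_sub (by omega)]; push_cast; exact h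
    have : 2 * p - 2 = 0 := by exact_mod_cast this
    omega
  have hGC : (Nat.card G : ℂ) = (p : ℂ) * (2 * (p : ℂ) - 1) * (2 * (p : ℂ) - 2) := by
    have := congrArg (fun z : ℤ => (z : ℂ)) hGz
    push_cast at this
    exact this
  have hpairs : ∀ u, IsPRegular p u → u ≠ 1 →
      (O.v u = 0 → Nat.card (Subgroup.centralizer ({u} : Set G)) ∣ q) ∧
      (O.v u = 1 → Nat.card (Subgroup.centralizer ({u} : Set G)) ∣ 4 * (p - 1)) := by
    intro u hu hu1
    have hd := mul_dvd_pairs D.B hy hy1 hu hu1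
    have hc := card_pairs D.B (fun θ hθ => D.deg_Y hθ) D.deg_χ D.he D.hε hy hy1 hu (hinv u)
    constructor
    · intro hv
      rw [hv, hGC] at hc
      have : Nat.card {r : G × G // r.1 * y * r.1⁻¹ * (r.2 * y * r.2⁻¹) = u} = q * (p * p) := by
        have h' : ((Nat.card {r : G × G // r.1 * y * r.1⁻¹ * (r.2 * y * r.2⁻¹) = u} : ℕ) : ℂ) =
            ((q * (p * p) : ℕ) : ℂ) := by
          have e : (1 : ℂ) + ((0 : ℤ) : ℂ) / (2 * (p : ℂ) - 1) +
              ((p : ℂ) - 2) * (((0 : ℤ) : ℂ) - 1) / (2 * (p : ℂ) - 2) = p / (2 * (p : ℂ) - 2) := by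
            rw [Int.cast_zero, zero_div, add_zero, zero_sub,
              eq_div_iff hgne, add_mul, div_mul_cancel₀ _ hgne]
            ring
          rw [hc, e, mul_assoc ((p : ℂ) * (2 * (p : ℂ) - 1)), mul_div_cancel₀ _ hgne,
            show (q : ℕ) = 2 * p - 1 from hq]
          push_cast [Nat.cast_sub (show 1 ≤ 2 * p by omega)]
          ring
        exact_mod_cast h'
      rw [this] at hd
      exact Nat.dvd_of_mul_dvd_mul_right (Nat.mul_pos hp.out.pos hp.out.pos) hd
    · intro hv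
      rw [hv, hGC] at hc
      have : Nat.card {r : G × G // r.1 * y * r.1⁻¹ * (r.2 * y * r.2⁻¹) = u} =
          4 * (p - 1) * (p * p) := by
        have h' : ((Nat.card {r : G × G // r.1 * y * r.1⁻¹ * (r.2 * y * r.2⁻¹) = u} : ℕ) : ℂ) =
            ((4 * (p - 1) * (p * p) : ℕ) : ℂ) := by
          have e : (1 : ℂ) + ((1 : ℤ) : ℂ) / (2 * (p : ℂ) - 1) +
              ((p : ℂ) - 2) * (((1 : ℤ) : ℂ) - 1) / (2 * (p : ℂ) - 2) =
                2 * p / (2 * (p : ℂ) - 1) := by
            rw [Int.cast_one, sub_self, mul_zero, zero_div, add_zero, eq_div_iff hfne, add_mul,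
              div_mul_cancel₀ _ hfne]
            ring
          rw [hc, e, mul_right_comm (p : ℂ), mul_assoc ((p : ℂ) * (2 * (p : ℂ) - 2)),
            mul_div_cancel₀ _ hfne]
          push_cast [Nat.cast_sub (show 1 ≤ p by omega)]
          ring
        exact_mod_cast h'
      rw [this] at hd
      exact Nat.dvd_of_mul_dvd_mul_right (Nat.mul_pos hp.out.pos hp.out.pos) hd
  -- the classes in `Z`
  let K : G → Finset G := fun u => Finset.univ.filter fun x => IsConj u x
  have hKZ : ∀ u ∈ Z, K u ⊆ Z := by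
    intro u hu x hx
    obtain ⟨hum, hv⟩ := Finset.mem_filter.1 hu
    obtain ⟨hur, hu1⟩ := mem_regSet.1 hum
    obtain ⟨t, rfl⟩ := isConj_iff.1 (Finset.mem_filter.1 hx).2
    refine Finset.mem_filter.2 ⟨mem_regSet.2 ⟨?_, fun e => hu1 (conj_eq_one_iff.1 e)⟩, ?_⟩
    · rw [IsPRegular, show t * u * t⁻¹ = MulAut.conj t u from rfl, MulEquiv.orderOf_eq]; exact hur
    · have h1 := O.v_spec (t * u * t⁻¹)
      rw [Char.IsCharacter.isClassFunction (Char.irr_isCharacter _) u t, O.v_spec u, hv] at h1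
      exact_mod_cast h1.symm
  have hqodd : ¬ 2 ∣ q := fun h => by omega
  have hclass : ∀ u ∈ Z, Nat.card (Subgroup.centralizer ({u} : Set G)) = q ∧
      (K u).card = 2 * p * (p - 1) := by
    intro u hu
    obtain ⟨hum, hv⟩ := Finset.mem_filter.1 hu
    obtain ⟨hur, hu1⟩ := mem_regSet.1 hum
    obtain ⟨d, hd⟩ := (hpairs u hur hu1).1 hv
    have hcls := Char.card_centralizer_mul_card_conj u
    rw [Nat.card_eq_fintype_card (α := {h : G // IsConj u h}), Fintype.card_subtype, hG, hd,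
      mul_left_comm] at hcls
    have hK := Nat.eq_of_mul_eq_mul_left Nat.card_pos hcls
    have hle : (K u).card ≤ 4 * p * (p - 1) := hZcard ▸ Finset.card_le_card (hKZ u hu)
    have hK' : (K u).card = 2 * p * (p - 1) * d := hK
    have hd0 : 0 < d := Nat.pos_of_ne_zero fun h => by rw [h, mul_zero] at hd; omega
    have hd2 : d ≤ 2 := by
      by_contra h
      have h3 : 2 * p * (p - 1) * 3 ≤ 2 * p * (p - 1) * d := Nat.mul_le_mul_left _ (by omega)
      have h4 : 0 < p * (p - 1) := Nat.mul_pos hp.out.pos (by omega)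
      rw [← hK'] at h3
      nlinarith only [h3, hle, h4]
    have hd1 : d = 1 := by
      rcases Nat.lt_or_ge d 2 with h | h
      · omega
      · exfalso
        refine hqodd ?_
        rw [hd, show d = 2 by omega]
        exact dvd_mul_left 2 _
    rw [hd1, mul_one] at hd hK'
    exact ⟨hd.symm, hK'⟩
  have hthree : ∀ u₁ ∈ Z, ∀ u₂ ∈ Z, ∀ u₃ ∈ Z,
      orderOf u₁ ≠ orderOf u₂ → orderOf u₁ ≠ orderOf u₃ → orderOf u₂ ≠ orderOf u₃ → False := by
    intro u₁ h₁ u₂ h₂ u₃ h₃ h12 h13 h23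
    have hdis : ∀ a b : G, orderOf a ≠ orderOf b → Disjoint (K a) (K b) := fun a b h => by
      refine Finset.disjoint_left.2 fun x hxa hxb => h ?_
      have hc := (Finset.mem_filter.1 hxa).2.trans (Finset.mem_filter.1 hxb).2.symm
      obtain ⟨t, rfl⟩ := isConj_iff.1 hc
      exact ((MulAut.conj t).orderOf_eq a).symm
    have hsub : K u₁ ∪ K u₂ ∪ K u₃ ⊆ Z :=
      Finset.union_subset (Finset.union_subset (hKZ _ h₁) (hKZ _ h₂)) (hKZ _ h₃)
    have := Finset.card_le_card hsub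
    rw [Finset.card_union_of_disjoint (Finset.disjoint_union_left.2 ⟨hdis _ _ h13, hdis _ _ h23⟩),
      Finset.card_union_of_disjoint (hdis _ _ h12), (hclass _ h₁).2, (hclass _ h₂).2,
      (hclass _ h₃).2, hZcard] at this
    have h4 : 0 < p * (p - 1) := Nat.mul_pos hp.out.pos (by omega)
    rw [mul_assoc, mul_assoc] at this
    omega
  -- elements of prime order `r ∣ q` lie in `Z`
  have hpq : ¬ p ∣ q := fun h => by
    have h2 : p ∣ q + 1 := hqp ▸ dvd_mul_left p 2
    exact hp.out.not_dvd_one ((Nat.dvd_add_right h).1 h2)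
  have hmemZ : ∀ {r : ℕ}, r.Prime → r ∣ q → ∀ u : G, IsPRegular p u → r ∣ orderOf u → u ∈ Z := by
    intro r hr hrq u hur hru
    have hu1 : u ≠ 1 := fun e => by rw [e, orderOf_one] at hru; exact hr.not_dvd_one hru
    refine Finset.mem_filter.2 ⟨mem_regSet.2 ⟨hur, hu1⟩, ?_⟩
    refine (eq_zero_or_one (h01 u (mem_regSet.2 ⟨hur, hu1⟩))).resolve_right fun hv => ?_
    have hrC : r ∣ Nat.card (Subgroup.centralizer ({u} : Set G)) := hru.trans
      (Subgroup.orderOf_dvd_natCard _ (Subgroup.mem_centralizer_singleton_iff.2 rfl))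
    have h4 : r ∣ 4 * (p - 1) := hrC.trans ((hpairs u hur hu1).2 hv)
    have hr2 : r ≠ 2 := fun e => hqodd (e ▸ hrq)
    have hrp : r ∣ p - 1 := by
      rcases hr.dvd_mul.1 h4 with h | h
      · exact absurd ((Nat.prime_dvd_prime_iff_eq hr Nat.prime_two).1
          (hr.dvd_of_dvd_pow (show r ∣ 2 ^ 2 from h))) hr2
      · exact h
    have h6 : r ∣ 2 * (p - 1) + 1 := by rwa [show 2 * (p - 1) + 1 = q by omega]
    exact hr.not_dvd_one ((Nat.dvd_add_right (hrp.mul_left 2)).1 h6)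
  have hqG : q ∣ Nat.card G := hG ▸ dvd_mul_left q _
  have hprimes : ∀ r s : ℕ, r.Prime → s.Prime → r ∣ q → s ∣ q → r = s := by
    intro r s hr hs hrq hsq
    by_contra hne
    haveI := Fact.mk hr
    haveI := Fact.mk hs
    obtain ⟨u, hu⟩ := exists_prime_orderOf_dvd_card' (G := G) r (hrq.trans hqG)
    have hrp : r ≠ p := fun e => hpq (e ▸ hrq)
    have hsp : s ≠ p := fun e => hpq (e ▸ hsq)
    have hur : IsPRegular p u := fun h => hrp ((Nat.prime_dvd_prime_iff_eq hp.out hr).1 (hu ▸ h)).symm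
    have huZ := hmemZ hr hrq u hur (hu ▸ dvd_refl r)
    have hsC : s ∣ Nat.card (Subgroup.centralizer ({u} : Set G)) := (hclass u huZ).1 ▸ hsq
    obtain ⟨⟨w, hw⟩, hwo⟩ := exists_prime_orderOf_dvd_card' (G := Subgroup.centralizer ({u} : Set G)) s hsC
    rw [Subgroup.orderOf_mk] at hwo
    have hcomm : Commute u w := (Subgroup.mem_centralizer_singleton_iff.1 hw).symm
    have huw : orderOf (u * w) = r * s := by
      rw [hcomm.orderOf_mul_eq_mul_orderOf_of_coprime (by
        rw [hu, hwo]; exact (Nat.coprime_primes hr hs).2 hne), hu, hwo]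
    have hwr : IsPRegular p w := fun h => hsp ((Nat.prime_dvd_prime_iff_eq hp.out hs).1 (hwo ▸ h)).symm
    have huwr : IsPRegular p (u * w) := fun h => by
      rcases hp.out.dvd_mul.1 (huw ▸ h) with h' | h'
      · exact hrp ((Nat.prime_dvd_prime_iff_eq hp.out hr).1 h').symm
      · exact hsp ((Nat.prime_dvd_prime_iff_eq hp.out hs).1 h').symm
    refine hthree u huZ w (hmemZ hs hsq w hwr (hwo ▸ dvd_refl s)) (u * w)
      (hmemZ hr hrq _ huwr (huw ▸ dvd_mul_right r s)) ?_ ?_ ?_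
    · rw [hu, hwo]; exact hne
    · rw [hu, huw]
      intro h
      have := Nat.eq_of_mul_eq_mul_left hr.pos ((mul_one r).trans h)
      exact hs.ne_one this.symm
    · rw [hwo, huw]
      intro h
      have := Nat.eq_of_mul_eq_mul_right hs.pos ((one_mul s).trans h)
      exact hr.ne_one this.symm
  -- `q = 3 s (2 s + 1)` is a power of 3
  have hq3 : (q : ℤ) = 3 * (O.s * (2 * O.s + 1)) := by
    rw [hqz]; linear_combination -O.quad
  have h3q : 3 ∣ q := Int.natCast_dvd_natCast.1 ⟨_, hq3⟩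
  have hcase : O.s.natAbs = 1 ∨ (2 * O.s + 1).natAbs = 1 := by
    by_contra hcon
    push Not at hcon
    obtain ⟨r, hr, hrs⟩ := Nat.exists_prime_and_dvd hcon.1
    obtain ⟨s, hs, hss⟩ := Nat.exists_prime_and_dvd hcon.2
    have hqa : q = 3 * (O.s.natAbs * (2 * O.s + 1).natAbs) := by
      have := congrArg Int.natAbs hq3
      rwa [Int.natAbs_natCast, Int.natAbs_mul, Int.natAbs_mul] at this
    have hr3 : r = 3 := hprimes r 3 hr Nat.prime_three (hqa ▸ (hrs.mul_right _).mul_left 3) h3q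
    have hs3 : s = 3 := hprimes s 3 hs Nat.prime_three (hqa ▸ (hss.mul_left _).mul_left 3) h3q
    subst hr3
    subst hs3
    have a1 : (3 : ℤ) ∣ O.s := by exact_mod_cast Int.natCast_dvd.2 hrs
    have a2 : (3 : ℤ) ∣ 2 * O.s + 1 := by exact_mod_cast Int.natCast_dvd.2 hss
    omega
  have hp5 : p = 5 := by
    have hquad := O.quad
    rcases hcase with h | h
    · rcases Int.natAbs_eq O.s with e | e <;> rw [h] at e <;> rw [e] at hquad <;>
        norm_num at hquad <;> omega
    · rcases Int.natAbs_eq (2 * O.s + 1) with e | e <;> rw [h] at e <;> push_cast at e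
      · have hs0 : O.s = 0 := by omega
        rw [hs0] at hquad; norm_num at hquad; omega
      · have hs1 : O.s = -1 := by omega
        rw [hs1] at hquad; norm_num at hquad; omega
  refine ⟨hp5, ?_⟩
  have hq9 : q = 9 := by omega
  rw [hG, hq9, hp5]

/-- The order is 360. -/
theorem Two.card_eq (D : Two P α) : p = 5 ∧ Nat.card G = 360 := by
  obtain ⟨O⟩ := D.exists_orb
  have h5 := D.B.five
  obtain ⟨c, m, hc, hA, hB, hvv, hv⟩ := O.moments D
  have hnn : ∀ d : α, 0 ≤ ∑ g ∈ regSet G p, O.v g * (O.v g - 1) * orbCount O.a d g := fun d =>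
    Finset.sum_nonneg fun g _ => mul_nonneg (v_pred_nonneg _) (Int.natCast_nonneg _)
  have hG0 : (0 : ℤ) < Nat.card G := by exact_mod_cast Nat.card_pos
  have hA0 : 0 ≤ 1 + O.s * c - (2 * O.s + 1) * m :=
    nonneg_of_mul_nonneg_right (hA ▸ hnn O.b) hG0
  have hB0 : 0 ≤ 2 - (O.s + 1) * c + 2 * O.s * m :=
    nonneg_of_mul_nonneg_right (hB ▸ hnn O.c) hG0
  have hcm : (c : ℤ) + m ≤ 3 := by linarith
  have hquad := O.quad
  have hc1 : (1 : ℤ) ≤ c := by exact_mod_cast hc
  have hc3 : c ≤ 3 := by omega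
  have hm2 : m ≤ 2 := by omega
  have hs0 : O.s ≠ 0 := fun h => by rw [h] at hquad; norm_num at hquad; omega
  have hs1 : O.s ≠ -1 := fun h => by rw [h] at hquad; norm_num at hquad; omega
  have hcases : (c = 2 ∧ m = 1) ∨ (c = 1 ∧ m = 0 ∧ O.s = 1) := by
    interval_cases c <;> interval_cases m <;> push_cast at hA0 hB0 <;> omega
  rcases hcases with ⟨hc2, hm1⟩ | ⟨hc2, hm0, hsv⟩
  · rw [hc2, hm1, show (Nat.card G : ℤ) * (1 + O.s * ((2 : ℕ) : ℤ) - (2 * O.s + 1) * ((1 : ℕ) : ℤ))
      = 0 by push_cast; ring] at hA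
    rw [hc2, hm1, show (Nat.card G : ℤ) * (2 - (O.s + 1) * ((2 : ℕ) : ℤ) + 2 * O.s * ((1 : ℕ) : ℤ))
      = 0 by push_cast; ring] at hB
    have hA' := (Finset.sum_eq_zero_iff_of_nonneg fun g _ =>
      mul_nonneg (v_pred_nonneg _) (Int.natCast_nonneg _)).1 hA
    have hB' := (Finset.sum_eq_zero_iff_of_nonneg fun g _ =>
      mul_nonneg (v_pred_nonneg _) (Int.natCast_nonneg _)).1 hB
    refine O.case_two_one D (fun g hg => ?_) hv hvv
    by_contra hne
    have e1 := (mul_eq_zero.1 (hA' g hg)).resolve_left hne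
    have e2 := (mul_eq_zero.1 (hB' g hg)).resolve_left hne
    have h := card_fixedBy_add_orbCount (G := G) O.hb O.hc O.hcb O.hall g
    rw [show orbCount O.a O.b g = 0 by exact_mod_cast e1,
      show orbCount O.a O.c g = 0 by exact_mod_cast e2, add_zero, add_zero,
      Nat.card_eq_fintype_card] at h
    refine (mem_regSet.1 hg).2 (Perm.eq_one_of_forall_smul_eq (α := α) fun x => ?_)
    have hall : fixedBy α g = Set.univ :=
      Set.eq_univ_of_forall fun z => by
        by_contra hz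
        have := Fintype.card_subtype_lt (p := fun x => x ∈ fixedBy α g) hz
        exact (this.trans_eq h.symm).false
    exact hall.ge (Set.mem_univ x)
  · have hp5 : p = 5 := by rw [hsv] at hquad; norm_num at hquad; omega
    have hL : ∀ g ∈ regSet G p, O.v g * (O.v g - 1) ≠ 0 → orbCount O.a O.c g = 0 := by
      rw [hc2, hm0, hsv] at hB
      norm_num at hB
      intro g hg hne
      have := (Finset.sum_eq_zero_iff_of_nonneg fun g _ =>
        mul_nonneg (v_pred_nonneg _) (Int.natCast_nonneg _)).1 hB g hg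
      exact_mod_cast (mul_eq_zero.1 this).resolve_left hne
    have hG := O.card_eq_of_five D hsv hp5 hL
    exfalso
    have hz : ∑ g ∈ regSet G p, O.v g * (O.v g - 1) = 0 := by
      have hpz : (p : ℤ) = 5 := by exact_mod_cast hp5
      have h := hvv
      rw [hG, hpz] at h
      norm_num at h
      exact h
    have hz' := (Finset.sum_eq_zero_iff_of_nonneg fun g _ => v_pred_nonneg _).1 hz
    rw [Finset.sum_eq_zero fun g hg => by rw [hz' g hg, zero_mul], hc2, hm0, hsv, hG] at hA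
    norm_num at hA

end Cfsg.Agent.DegreeThreeP
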