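import Cfsg.Agent.Lib.DegreeThreeP.Orbital
import Cfsg.Agent.Lib.Char.ClassSum
import Cfsg.Agent.Lib.Perm.Basic

/-!
# The class functions counting the pairs `(x, g x)` in an orbital
-/

set_option autoImplicit false
set_option linter.style.haveILetI false
set_option linter.unusedSectionVars false

namespace Cfsg.Agent.DegreeThreeP

open Cfsg Cfsg.Agent MulAction
open scoped ComplexConjugate Classical

universe u v

variable {G : Type u} [Group G] [Fintype G] {α : Type v} [MulAction G α] [Fintype α]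
  [IsPretransitive G α]

/-- The number of points `x` with `(x, g x)` in the orbital of `(a, b)`. -/
noncomputable def orbCount (a b : α) (g : G) : ℕ :=
  (Finset.univ.filter fun x : α => (x, g • x) ∈ orbit G (a, b)).card

theorem orbCount_one {a b : α} (hab : b ≠ a) : orbCount a b (1 : G) = 0 := by
  rw [orbCount, Finset.card_eq_zero, Finset.filter_eq_empty_iff]
  intro x _ hx
  obtain ⟨r, hr⟩ := hx
  simp only [Prod.smul_mk, Prod.mk.injEq, one_smul] at hr
  exact hab (smul_left_cancel r (hr.2.trans hr.1.symm))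

theorem orbCount_conj (a b : α) (g t : G) : orbCount a b (t * g * t⁻¹) = orbCount a b g := by
  refine (Finset.card_equiv (MulAction.toPerm t) fun x => ?_).symm
  simp only [Finset.mem_filter, Finset.mem_univ, true_and, MulAction.toPerm_apply, mul_smul,
    inv_smul_smul]
  have h2 : (t • x, t • g • x) = t • (x, g • x) := rfl
  rw [h2]
  constructor
  · rintro ⟨r, hr⟩
    exact ⟨t * r, by simp only [mul_smul]; exact congrArg (t • ·) hr⟩
  · rintro ⟨r, hr⟩
    exact ⟨t⁻¹ * r, by
      show (t⁻¹ * r) • (a, b) = _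
      rw [mul_smul, show r • (a, b) = t • (x, g • x) from hr, inv_smul_smul]⟩

theorem isClassFunction_orbCount (a b : α) :
    IsClassFunction G fun g => (orbCount a b g : ℂ) := fun g t => by
  show (orbCount a b (t * g * t⁻¹) : ℂ) = orbCount a b g
  rw [orbCount_conj]

/-- The three kinds of pairs. -/
theorem card_fixedBy_add_orbCount {a b c : α} (hb : b ≠ a) (hc : c ≠ a)
    (hcb : c ∉ orbit (stabilizer G a) b)
    (hall : ∀ y : α, y = a ∨ y ∈ orbit (stabilizer G a) b ∨ y ∈ orbit (stabilizer G a) c) (g : G) :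
    Nat.card (fixedBy α g) + orbCount a b g + orbCount a c g = Fintype.card α := by
  have hfix : Nat.card (fixedBy α g) = (Finset.univ.filter fun x : α => g • x = x).card := by
    rw [Nat.card_eq_fintype_card, Fintype.card_subtype]
    rfl
  rw [hfix, orbCount, orbCount, Finset.card_filter, Finset.card_filter, Finset.card_filter,
    ← Finset.sum_add_distrib, ← Finset.sum_add_distrib, ← Finset.card_univ, Finset.card_eq_sum_ones]
  refine Finset.sum_congr rfl fun x _ => ?_
  obtain ⟨t, rfl⟩ := exists_smul_eq G a x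
  simp only [mem_orbital_iff]
  have hnot : ∀ d : α, d ≠ a → a ∉ orbit (stabilizer G a) d := fun d hd hmem => by
    obtain ⟨⟨k, hk⟩, hkd⟩ := hmem
    exact hd (smul_left_cancel k ((show k • d = a from hkd).trans (mem_stabilizer_iff.1 hk).symm))
  have hiff : g • t • a = t • a ↔ t⁻¹ • g • t • a = a := by rw [inv_smul_eq_iff]
  rcases hall (t⁻¹ • g • t • a) with h | h | h
  · rw [if_pos (hiff.2 h), h, if_neg (hnot b hb), if_neg (hnot c hc)]
  · have hne : ¬ g • t • a = t • a := fun e => hnot b hb (by rw [hiff.1 e] at h; exact h)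
    have hc' : t⁻¹ • g • t • a ∉ orbit (stabilizer G a) c := fun h' =>
      hcb (((orbit_eq_iff.2 h).symm.trans (orbit_eq_iff.2 h')) ▸ mem_orbit_self c)
    rw [if_neg hne, if_pos h, if_neg hc']
  · have hne : ¬ g • t • a = t • a := fun e => hnot c hc (by rw [hiff.1 e] at h; exact h)
    have hb' : t⁻¹ • g • t • a ∉ orbit (stabilizer G a) b := fun h' =>
      hcb (((orbit_eq_iff.2 h').symm.trans (orbit_eq_iff.2 h)) ▸ mem_orbit_self c)
    rw [if_neg hne, if_neg hb', if_pos h]

/-- The elements moving `a` into the suborbit of `b`. -/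
noncomputable def dset (a b : α) : Finset G :=
  Finset.univ.filter fun g : G => g • a ∈ orbit (stabilizer G a) b

theorem mem_dset {a b : α} {g : G} : g ∈ dset a b ↔ g • a ∈ orbit (stabilizer G a) b := by
  simp [dset]

/-- The inner product of an orbital count with a class function. -/
theorem classInner_orbCount (a b : α) {F : G → ℂ} (hF : IsClassFunction G F) :
    classInner (fun g => (orbCount a b g : ℂ)) F =
      (Nat.card (stabilizer G a) : ℂ)⁻¹ * ∑ g ∈ dset a b, conj (F g) := by
  simp only [classInner, orbCount, dset]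
  rw [CharInt.PermHecke.sum_orbital_mul a b (F := fun g => conj (F g))
    (fun g t => by show conj (F _) = conj (F g); rw [hF g t]),
    ← Perm.card_mul_card_stabilizer (G := G) a, Nat.cast_mul, mul_inv, Nat.card_eq_fintype_card]
  have : (Fintype.card α : ℂ) ≠ 0 := by
    haveI : Nonempty α := ⟨a⟩
    exact_mod_cast Fintype.card_ne_zero
  field_simp

/-- The size of a double coset. -/
theorem card_dset (a b : α) : (dset (G := G) a b).card =
    Nat.card (orbit (stabilizer G a) b) * Nat.card (stabilizer G a) := by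
  haveI := Fintype.ofFinite (stabilizer G a)
  haveI := Fintype.ofFinite (orbit (stabilizer G a) b)
  choose u hu using fun y : orbit (stabilizer G a) b => exists_smul_eq G a (y : α)
  have huinj : Function.Injective fun y => u y • a := fun y z h => by
    simp only [hu] at h
    exact Subtype.ext h
  have hs : ∀ g, g ∈ dset a b ↔ ∃ y, g • a = u y • a := fun g => by
    simp only [hu]
    constructor
    · exact fun h => ⟨⟨_, mem_dset.1 h⟩, rfl⟩
    · rintro ⟨y, hy⟩
      refine mem_dset.2 ?_
      rw [hy]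
      exact y.2
  have h1 := CharInt.PermHecke.sum_union_cosets a u huinj (dset a b) hs fun _ => (1 : ℂ)
  simp only [Finset.sum_const, Finset.card_univ, nsmul_eq_mul, mul_one,
    ← Nat.card_eq_fintype_card] at h1
  exact_mod_cast h1

theorem classInner_orbCount_one (a b : α) :
    classInner (fun g => (orbCount a b g : ℂ)) (Char.trivialChar G).1 =
      Nat.card (orbit (stabilizer G a) b) := by
  rw [classInner_orbCount a b (Char.IsCharacter.isClassFunction (Char.irr_isCharacter _))]
  simp only [Char.trivialChar_apply, map_one, Finset.sum_const, nsmul_eq_mul, mul_one, card_dset,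
    Nat.cast_mul]
  rw [mul_comm (Nat.card (orbit (stabilizer G a) b) : ℂ),
    inv_mul_cancel_left₀ (Nat.cast_ne_zero.2 (Nat.card_pos (α := stabilizer G a)).ne')]

/-- The sum over the left cosets. -/
noncomputable def cosetSum (a : α) (χ : G → ℂ) (g : G) : ℂ := ∑ h : stabilizer G a, χ (g * h)

theorem sum_stabilizer_eq (a : α) (χ : IrrCharacter G) :
    ∑ h : stabilizer G a, χ.1 (h : G) = (Nat.card (stabilizer G a) : ℂ) *
      conj (classInner (fun g : G => (Nat.card (fixedBy α g) : ℂ)) χ.1) := by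
  obtain ⟨n, ρ, -, hρ⟩ := χ.2
  rw [← hρ, CharInt.PermHecke.classInner_perm_eq_conj_trace a ρ, CharInt.PermHecke.trace_proj,
    Complex.conj_conj, ← mul_assoc,
    mul_inv_cancel₀ (Nat.cast_ne_zero.2 (Nat.card_pos (α := stabilizer G a)).ne'), one_mul]

theorem cosetSum_eq_zero (a : α) {χ : IrrCharacter G}
    (h0 : classInner (fun g : G => (Nat.card (fixedBy α g) : ℂ)) χ.1 = 0) (g : G) :
    cosetSum a χ.1 g = 0 := by
  obtain ⟨n, ρ, -, hρ⟩ := χ.2
  rw [← hρ, CharInt.PermHecke.classInner_perm_eq_conj_trace a ρ, map_eq_zero] at h0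
  have h1 := CharInt.PermHecke.trace_mul_proj ρ (stabilizer G a) (ρ g)
  rw [CharInt.PermHecke.eq_zero_of_trace_zero (CharInt.PermHecke.proj_mul_proj ρ _) h0, mul_zero,
    map_zero, zero_eq_mul, or_iff_right (inv_ne_zero
      (Nat.cast_ne_zero.2 (Nat.card_pos (α := stabilizer G a)).ne'))] at h1
  rw [cosetSum, ← hρ, ← h1]
  exact Finset.sum_congr rfl fun h _ => by rw [← map_mul]; rfl

theorem sum_dset_cosetSum (a b : α) (F : G → ℂ) :
    ∑ g ∈ dset a b, cosetSum a F g = (Nat.card (stabilizer G a) : ℂ) * ∑ g ∈ dset a b, F g := by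
  simp only [cosetSum]
  rw [Finset.sum_comm, Nat.card_eq_fintype_card, ← Finset.card_univ, ← nsmul_eq_mul,
    ← Finset.sum_const]
  refine Finset.sum_congr rfl fun h _ => ?_
  refine Finset.sum_equiv (Equiv.mulRight (h : G)) (fun g => ?_) fun g _ => rfl
  simp only [mem_dset, Equiv.coe_mulRight, mul_smul, mem_stabilizer_iff.1 h.2]

/-- The inner product with a character outside the permutation character vanishes. -/
theorem classInner_orbCount_eq_zero (a b : α) {χ : IrrCharacter G}
    (h0 : classInner (fun g : G => (Nat.card (fixedBy α g) : ℂ)) χ.1 = 0) :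
    classInner (fun g => (orbCount a b g : ℂ)) χ.1 = 0 := by
  rw [classInner_orbCount a b (Char.IsCharacter.isClassFunction (Char.irr_isCharacter χ)),
    ← map_sum]
  have h1 := sum_dset_cosetSum (G := G) a b χ.1
  rw [Finset.sum_eq_zero fun g _ => cosetSum_eq_zero a h0 g, eq_comm, mul_eq_zero,
    or_iff_right (Nat.cast_ne_zero.2 (Nat.card_pos (α := stabilizer G a)).ne')] at h1
  rw [h1, map_zero, mul_zero]

theorem cosetSum_const (a b : α) {χ : G → ℂ} (hχ : IsClassFunction G χ) {g g' : G}
    (hg : g ∈ dset a b) (hg' : g' ∈ dset a b) : cosetSum a χ g = cosetSum a χ g' := by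
  rw [mem_dset] at hg hg'
  obtain ⟨⟨k, hk⟩, hkg⟩ := (orbit_eq_iff.2 hg').ge hg
  have hkg' : k • g' • a = g • a := hkg
  have hh0 : g'⁻¹ * k⁻¹ * g ∈ stabilizer G a := by
    rw [mem_stabilizer_iff, mul_smul, mul_smul, ← hkg', inv_smul_smul, inv_smul_smul]
  simp only [cosetSum]
  refine Fintype.sum_equiv ((Equiv.mulLeft (⟨_, hh0⟩ : stabilizer G a)).trans
    (Equiv.mulRight (⟨k, hk⟩ : stabilizer G a))) _ _ fun h => ?_
  show χ (g * h) = χ (g' * ((g'⁻¹ * k⁻¹ * g) * h * k))
  rw [← hχ (g' * ((g'⁻¹ * k⁻¹ * g) * h * k)) k]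
  congr 1
  group

/-- The norm of the coset sums. -/
theorem sum_cosetSum_sq (a : α) (χ : IrrCharacter G) :
    χ.1 1 * ∑ g : G, cosetSum a χ.1 g * conj (cosetSum a χ.1 g) =
      (Nat.card G : ℂ) * (Nat.card (stabilizer G a) : ℂ) *
        ∑ h : stabilizer G a, χ.1 (h : G) := by
  have h1 : ∀ h h' : stabilizer G a, χ.1 1 * ∑ g : G, χ.1 (g * h) * conj (χ.1 (g * h')) =
      (Nat.card G : ℂ) * χ.1 ((h' : G)⁻¹ * h) := by
    intro h h'
    rw [← Char.sum_irr_mul_conj_conj χ.2]
    refine congrArg _ (Fintype.sum_equiv (Equiv.mulRight (h' : G)) _ _ fun g => ?_)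
    rw [Equiv.coe_mulRight, mul_assoc g, mul_inv_cancel_left, mul_comm]
  simp only [cosetSum, map_sum, Finset.sum_mul_sum]
  rw [Finset.sum_comm, Finset.mul_sum]
  have h2 : ∀ h : stabilizer G a, χ.1 1 * ∑ g : G, ∑ h' : stabilizer G a,
      χ.1 (g * h) * conj (χ.1 (g * h')) =
      ∑ h' : stabilizer G a, (Nat.card G : ℂ) * χ.1 ((h' : G)⁻¹ * h) := fun h => by
    rw [Finset.sum_comm, Finset.mul_sum]
    exact Finset.sum_congr rfl fun h' _ => h1 h h'
  rw [Finset.sum_congr rfl fun h _ => h2 h, Finset.sum_comm]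
  have h3 : ∀ h' : stabilizer G a, (∑ h : stabilizer G a,
      (Nat.card G : ℂ) * χ.1 ((h' : G)⁻¹ * h)) =
      (Nat.card G : ℂ) * ∑ h : stabilizer G a, χ.1 (h : G) := fun h' => by
    rw [Finset.mul_sum]
    exact Fintype.sum_equiv (Equiv.mulLeft h'⁻¹) _ _ fun h => by simp
  simp only [h3, Finset.sum_const, Finset.card_univ, nsmul_eq_mul, ← Nat.card_eq_fintype_card]
  ring

/-- The multiplicity identity of a rank three group. -/
theorem multiplicity_identity {a b c : α} (hb : b ≠ a) (hc : c ≠ a)
    (hcb : c ∉ orbit (stabilizer G a) b)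
    (hall : ∀ y : α, y = a ∨ y ∈ orbit (stabilizer G a) b ∨ y ∈ orbit (stabilizer G a) c)
    {χ : IrrCharacter G} (hreal : ∀ g, conj (χ.1 g) = χ.1 g)
    (h1 : classInner (fun g : G => (Nat.card (fixedBy α g) : ℂ)) χ.1 = 1) :
    χ.1 1 * ((Nat.card (orbit (stabilizer G a) b) : ℂ) * Nat.card (orbit (stabilizer G a) c) +
      classInner (fun g => (orbCount a b g : ℂ)) χ.1 ^ 2 * Nat.card (orbit (stabilizer G a) c) +
      classInner (fun g => (orbCount a c g : ℂ)) χ.1 ^ 2 * Nat.card (orbit (stabilizer G a) b)) =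
    (Fintype.card α : ℂ) * Nat.card (orbit (stabilizer G a) b) *
      Nat.card (orbit (stabilizer G a) c) := by
  set H := stabilizer G a with hH
  have hH0 : (Nat.card H : ℂ) ≠ 0 := Nat.cast_ne_zero.2 Nat.card_pos.ne'
  have hcls := Char.IsCharacter.isClassFunction (Char.irr_isCharacter χ)
  set F : G → ℂ := fun g => cosetSum a χ.1 g * conj (cosetSum a χ.1 g) with hF
  have hpart : ∀ g : G, F g = (if g ∈ H then F g else 0) + (if g ∈ dset a b then F g else 0) +
      (if g ∈ dset a c then F g else 0) := by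
    intro g
    have hnot : ∀ d : α, d ≠ a → a ∉ orbit H d := fun d hd hmem => by
      obtain ⟨⟨k, hk⟩, hkd⟩ := hmem
      exact hd (smul_left_cancel k ((show k • d = a from hkd).trans (mem_stabilizer_iff.1 hk).symm))
    rcases hall (g • a) with h | h | h
    · have hb' : g ∉ dset a b := fun h' => hnot b hb (by
        have h'' := mem_dset.1 h'; rw [h] at h''; exact h'')
      have hc' : g ∉ dset a c := fun h' => hnot c hc (by
        have h'' := mem_dset.1 h'; rw [h] at h''; exact h'')
      rw [if_pos (mem_stabilizer_iff.2 h), if_neg hb', if_neg hc', add_zero, add_zero]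
    · have hH' : g ∉ H := fun h' => hnot b hb (by rw [mem_stabilizer_iff.1 h'] at h; exact h)
      have hc' : g ∉ dset a c := fun h' => hcb (by
        rw [(orbit_eq_iff.2 h).symm.trans (orbit_eq_iff.2 (mem_dset.1 h'))]
        exact mem_orbit_self c)
      rw [if_neg hH', if_pos (mem_dset.2 h), if_neg hc', zero_add, add_zero]
    · have hH' : g ∉ H := fun h' => hnot c hc (by rw [mem_stabilizer_iff.1 h'] at h; exact h)
      have hb' : g ∉ dset a b := fun h' => hcb (by
        rw [(orbit_eq_iff.2 (mem_dset.1 h')).symm.trans (orbit_eq_iff.2 h)]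
        exact mem_orbit_self c)
      rw [if_neg hH', if_neg hb', if_pos (mem_dset.2 h), zero_add, zero_add]
  have hD : ∀ d : α, (Nat.card (orbit H d) : ℂ) * ∑ g ∈ dset a d, F g =
      (Nat.card H : ℂ) ^ 3 * classInner (fun g => (orbCount a d g : ℂ)) χ.1 ^ 2 := by
    intro d
    haveI : Nonempty (orbit H d) := ⟨⟨d, mem_orbit_self d⟩⟩
    obtain ⟨g₀, hg₀⟩ : ∃ g₀, g₀ ∈ dset (G := G) a d := by
      obtain ⟨g₀, hg₀⟩ := exists_smul_eq G a d
      exact ⟨g₀, mem_dset.2 (by rw [hg₀]; exact mem_orbit_self d)⟩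
    have hs := sum_dset_cosetSum (G := G) a d χ.1
    rw [Finset.sum_congr rfl fun g hg => cosetSum_const a d hcls hg hg₀, Finset.sum_const,
      nsmul_eq_mul, card_dset, Nat.cast_mul, ← hH] at hs
    have hs' : (Nat.card (orbit H d) : ℂ) * cosetSum a χ.1 g₀ = ∑ g ∈ dset a d, χ.1 g :=
      mul_left_cancel₀ hH0 (by linear_combination hs)
    have hcL : classInner (fun g => (orbCount a d g : ℂ)) χ.1 =
        (Nat.card H : ℂ)⁻¹ * ((Nat.card (orbit H d) : ℂ) * cosetSum a χ.1 g₀) := by
      rw [classInner_orbCount a d hcls, Finset.sum_congr rfl fun g _ => hreal g, hs']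
    have hreal0 : conj (cosetSum a χ.1 g₀) = cosetSum a χ.1 g₀ := by
      simp only [cosetSum, map_sum, hreal]
    rw [Finset.sum_congr rfl fun g hg => show F g = cosetSum a χ.1 g₀ * cosetSum a χ.1 g₀ by
        simp only [hF, cosetSum_const a d hcls hg hg₀, hreal0],
      Finset.sum_const, nsmul_eq_mul, card_dset, Nat.cast_mul, ← hH, hcL]
    field_simp
  have hsumH : ∑ h : H, χ.1 (h : G) = (Nat.card H : ℂ) := by
    show ∑ h : stabilizer G a, χ.1 (h : G) = (Nat.card (stabilizer G a) : ℂ)
    rw [sum_stabilizer_eq a χ, h1, map_one, mul_one]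
  have hHF : ∑ g ∈ Finset.univ.filter (fun g => g ∈ H), F g = (Nat.card H : ℂ) ^ 3 := by
    have : ∀ g ∈ Finset.univ.filter (fun g => g ∈ H), F g = (Nat.card H : ℂ) ^ 2 := by
      intro g hg
      have hg' : g ∈ H := (Finset.mem_filter.1 hg).2
      have he : cosetSum a χ.1 g = (Nat.card H : ℂ) := by
        rw [← hsumH, cosetSum]
        exact Fintype.sum_equiv (Equiv.mulLeft (⟨g, hg'⟩ : H)) _ _ fun h => rfl
      simp only [hF, he, Complex.conj_natCast]
      ring
    rw [Finset.sum_congr rfl this, Finset.sum_const, nsmul_eq_mul, ← Fintype.card_subtype,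
      ← Nat.card_eq_fintype_card]
    ring
  have hsq := sum_cosetSum_sq (G := G) a χ
  rw [hsumH, Finset.sum_congr rfl fun g _ => hpart g, Finset.sum_add_distrib,
    Finset.sum_add_distrib, ← Finset.sum_filter, ← Finset.sum_filter, ← Finset.sum_filter, hHF,
    show Finset.univ.filter (fun g : G => g ∈ dset a b) = dset a b by simp,
    show Finset.univ.filter (fun g : G => g ∈ dset a c) = dset a c by simp,
    ← Perm.card_mul_card_stabilizer (G := G) a, Nat.cast_mul, ← hH,
    Nat.card_eq_fintype_card (α := α)] at hsq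
  refine mul_left_cancel₀ (pow_ne_zero 3 hH0) ?_
  linear_combination (Nat.card (orbit H b) : ℂ) * Nat.card (orbit H c) * hsq -
    χ.1 1 * Nat.card (orbit H c) * hD b - χ.1 1 * Nat.card (orbit H b) * hD c

end Cfsg.Agent.DegreeThreeP
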