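import Cfsg.Agent.Lib.DegreeThreeP.Decomp
import Cfsg.Agent.Lib.DegreeThreeP.OrbCount
import Cfsg.Agent.Lib.Char.PRegular

/-!
# Degree `3p`, `π = 1 + χ + ψ` with `χ(1) = 2p - 1`: the suborbits

The subdegrees are `p + s` and `2p - 1 - s` with `6 s² + 3 s + 1 = 2 p`, and the orbital counts
are `p + s + s χ - (1 + 2 s) ψ` and `2 p - 1 - s - (1 + s) χ + 2 s ψ`.
-/

set_option autoImplicit false
set_option linter.style.haveILetI false
set_option linter.unusedSectionVars false

namespace Cfsg.Agent.DegreeThreeP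

open Cfsg Cfsg.Agent MulAction
open scoped ComplexConjugate Classical

universe u v

variable {G : Type u} [Group G] [Fintype G] [IsSimpleGroup G] {α : Type v} [MulAction G α]
  [Fintype α] [IsPretransitive G α] {p : ℕ} [hp : Fact p.Prime] {P : Sylow p G}

/-- The hypotheses of the case `π = 1 + χ + ψ`. -/
structure Two (P : Sylow p G) (α : Type v) [MulAction G α] where
  B : Blk P
  ψ : IrrCharacter G
  he : B.e = -1
  hε : B.ε = -1
  deg_χ : Char.degree B.χ = 2 * p - 1
  ψ_ne : ψ ≠ Char.trivialChar G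
  ψ_χ : ψ ≠ B.χ
  ψ_Y : ψ ∉ B.Y
  deg_ψ : Char.degree ψ = p
  card : Nat.card α = 3 * p
  perm : ∀ g : G, (Nat.card (fixedBy α g) : ℂ) = 1 + B.χ.1 g + ψ.1 g
  free : ∀ y ∈ (P : Subgroup G), y ≠ 1 → Nat.card (fixedBy α y) = 0
  card_N : Nat.card (Subgroup.normalizer ((P : Subgroup G) : Set G)) = 2 * p

theorem Two.deg_Y (D : Two P α) {θ : IrrCharacter G} (hθ : θ ∈ D.B.Y) :
    Char.degree θ = 2 * p - 2 := by
  have h := D.B.degree_rel hθ
  rw [D.he, D.hε, D.deg_χ] at h
  omega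

theorem Two.χ_real (D : Two P α) (g : G) : conj (D.B.χ.1 g) = D.B.χ.1 g := by
  refine D.B.χ_real (fun θ hθ => ?_) g
  rw [D.deg_Y hθ, D.deg_χ]
  have := D.B.five
  omega

theorem Two.ψ_real (D : Two P α) (g : G) : conj (D.ψ.1 g) = D.ψ.1 g := by
  have h := congrArg conj (D.perm g)
  rw [map_natCast, map_add, map_add, map_one, D.χ_real, D.perm g] at h
  exact (add_left_cancel h).symm

theorem Two.sum_set (D : Two P α) (g : G) :
    (Nat.card (fixedBy α g) : ℂ) =
      ∑ φ ∈ ({Char.trivialChar G, D.B.χ, D.ψ} : Finset (IrrCharacter G)), φ.1 g := by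
  rw [D.perm g, Finset.sum_insert (by simp [D.B.χ_ne.symm, D.ψ_ne.symm]),
    Finset.sum_insert (by simpa using D.ψ_χ.symm), Finset.sum_singleton, Char.trivialChar_apply,
    add_assoc]

theorem Two.rank (D : Two P α) (a : α) :
    Nat.card (Quotient (orbitRel (stabilizer G a) α)) = 3 := by
  rw [← card_orbits_prod a]
  have h1 := Char.classInner_fixedBy_self (G := G) α
  rw [classInner_sum_set_self _ D.sum_set,
    Finset.card_insert_of_notMem (by simp [D.B.χ_ne.symm, D.ψ_ne.symm]),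
    Finset.card_pair D.ψ_χ.symm] at h1
  exact_mod_cast h1.symm

/-- The expansion of an orbital count. -/
theorem Two.expand (D : Two P α) (a b : α) (g : G) :
    (orbCount a b g : ℂ) = (Nat.card (orbit (stabilizer G a) b) : ℂ) +
      classInner (fun g => (orbCount a b g : ℂ)) D.B.χ.1 * D.B.χ.1 g +
      classInner (fun g => (orbCount a b g : ℂ)) D.ψ.1 * D.ψ.1 g := by
  have h := congrFun (Char.eq_sum_classInner_smul (isClassFunction_orbCount (G := G) a b)) g
  rw [h, Finset.sum_apply, ← Finset.sum_subset (Finset.subset_univ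
      ({Char.trivialChar G, D.B.χ, D.ψ} : Finset (IrrCharacter G))) fun φ _ hφ => by
    rw [Pi.smul_apply, classInner_orbCount_eq_zero a b
      (by rw [classInner_sum_set _ D.sum_set φ, if_neg hφ]), zero_smul],
    Finset.sum_insert (by simp [D.B.χ_ne.symm, D.ψ_ne.symm]),
    Finset.sum_insert (by simpa using D.ψ_χ.symm), Finset.sum_singleton]
  simp only [Pi.smul_apply, smul_eq_mul, classInner_orbCount_one, Char.trivialChar_apply, mul_one,
    add_assoc]

/-- The orbital counts are multiples of `p` on `P - 1`. -/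
theorem Two.dvd_orbCount (D : Two P α) (a b : α) {y : G} (hy : y ∈ (P : Subgroup G)) (hy1 : y ≠ 1) :
    p ∣ orbCount a b y := by
  have hyp : y ^ p = 1 := by
    have h1 : orderOf y ∣ p := D.B.sc.card ▸ Subgroup.orderOf_dvd_natCard _ hy
    exact orderOf_dvd_iff_pow_eq_one.1 h1
  set σ : Equiv.Perm α := MulAction.toPerm y with hσ
  have hS : ∀ x : α, x ∈ Finset.univ.filter (fun x : α => (x, y • x) ∈ orbit G (a, b)) ↔
      σ x ∈ Finset.univ.filter (fun x : α => (x, y • x) ∈ orbit G (a, b)) := by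
    intro x
    simp only [Finset.mem_filter, Finset.mem_univ, true_and, hσ, MulAction.toPerm_apply]
    have h2 : (y • x, y • y • x) = y • (x, y • x) := rfl
    rw [h2]
    constructor
    · rintro ⟨r, hr⟩
      exact ⟨y * r, by simp only [mul_smul]; exact congrArg (y • ·) hr⟩
    · rintro ⟨r, hr⟩
      exact ⟨y⁻¹ * r, by
        show (y⁻¹ * r) • (a, b) = _
        rw [mul_smul, show r • (a, b) = y • (x, y • x) from hr, inv_smul_smul]⟩
  have hpow : (σ.subtypePerm fun x => (hS x).symm) ^ p ^ 1 = 1 := by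
    rw [pow_one, Equiv.Perm.subtypePerm_pow]
    ext x
    show ((σ ^ p) (x : α)) = x
    rw [hσ, show (MulAction.toPerm y : Equiv.Perm α) = MulAction.toPermHom G α y from rfl, ← map_pow,
      hyp, map_one]
    rfl
  by_contra hnd
  obtain ⟨⟨x, hx⟩, hfx⟩ := Equiv.Perm.exists_fixed_point_of_prime
    (α := {x // x ∈ Finset.univ.filter (fun x : α => (x, y • x) ∈ orbit G (a, b))})
    (by rw [← Nat.card_eq_fintype_card, Nat.card_eq_finsetCard]; exact hnd) hpow
  haveI : IsEmpty (fixedBy α y) := Finite.card_eq_zero_iff.1 (D.free y hy hy1)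
  exact isEmptyElim (⟨x, congrArg Subtype.val hfx⟩ : fixedBy α y)

/-- The data of the suborbits. -/
structure Two.Orb (D : Two P α) where
  a : α
  b : α
  c : α
  hb : b ≠ a
  hc : c ≠ a
  hcb : c ∉ orbit (stabilizer G a) b
  hall : ∀ y : α, y = a ∨ y ∈ orbit (stabilizer G a) b ∨ y ∈ orbit (stabilizer G a) c
  s : ℤ
  hk : (Nat.card (orbit (stabilizer G a) b) : ℤ) = s + p
  hl : (Nat.card (orbit (stabilizer G a) c) : ℤ) = 2 * p - 1 - s
  quad : 6 * s ^ 2 + 3 * s + 1 = 2 * p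
  Lb : ∀ g : G, (orbCount a b g : ℂ) =
    ((s : ℂ) + p) + s * D.B.χ.1 g - (1 + 2 * (s : ℂ)) * D.ψ.1 g
  Lc : ∀ g : G, (orbCount a c g : ℂ) =
    (2 * (p : ℂ) - 1 - s) - (1 + (s : ℂ)) * D.B.χ.1 g + 2 * (s : ℂ) * D.ψ.1 g

/-- The suborbit with the small count at an element of `P - 1`. -/
theorem Two.orb_aux (D : Two P α) {a b c : α} (hb : b ≠ a) (hc : c ≠ a)
    (hcb : c ∉ orbit (stabilizer G a) b)
    (hall : ∀ y : α, y = a ∨ y ∈ orbit (stabilizer G a) b ∨ y ∈ orbit (stabilizer G a) c)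
    {y : G} (hy : y ∈ (P : Subgroup G)) (hy1 : y ≠ 1) (hle : orbCount a b y ≤ p) :
    Nonempty D.Orb := by
  have h5 := D.B.five
  have hp0 : (p : ℂ) ≠ 0 := Nat.cast_ne_zero.2 hp.out.ne_zero
  obtain ⟨k, hk⟩ : ∃ k, k = Nat.card (orbit (stabilizer G a) b) := ⟨_, rfl⟩
  obtain ⟨l, hl⟩ : ∃ l, l = Nat.card (orbit (stabilizer G a) c) := ⟨_, rfl⟩
  obtain ⟨S, hS⟩ : ∃ S, S = classInner (fun g => (orbCount a b g : ℂ)) D.B.χ.1 := ⟨_, rfl⟩
  obtain ⟨R, hR⟩ : ∃ R, R = classInner (fun g => (orbCount a b g : ℂ)) D.ψ.1 := ⟨_, rfl⟩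
  obtain ⟨S', hS'⟩ : ∃ S', S' = classInner (fun g => (orbCount a c g : ℂ)) D.B.χ.1 := ⟨_, rfl⟩
  obtain ⟨R', hR'⟩ : ∃ R', R' = classInner (fun g => (orbCount a c g : ℂ)) D.ψ.1 := ⟨_, rfl⟩
  have hcard : Fintype.card α = 3 * p := by rw [← Nat.card_eq_fintype_card, D.card]
  have htot : ∀ g : G, 1 + D.B.χ.1 g + D.ψ.1 g + (orbCount a b g : ℂ) + (orbCount a c g : ℂ) =
      3 * (p : ℂ) := fun g => by
    rw [← D.perm g]
    exact_mod_cast (card_fixedBy_add_orbCount (G := G) hb hc hcb hall g).trans hcard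
  have hψy : D.ψ.1 y = 0 := D.B.vanish D.ψ D.ψ_ne D.ψ_χ D.ψ_Y y hy hy1
  have hχy : D.B.χ.1 y = -1 := by rw [D.B.val_χ y hy hy1, D.he]; norm_num
  have hf : D.B.χ.1 1 = 2 * (p : ℂ) - 1 := by
    rw [Char.apply_one_eq_degree, D.deg_χ, Nat.cast_sub (by omega)]; push_cast; ring
  have hψ1 : D.ψ.1 1 = (p : ℂ) := by rw [Char.apply_one_eq_degree, D.deg_ψ]
  have hby := D.expand a b y
  have hcy := D.expand a c y
  have hb1 := D.expand a b 1
  have hc1 := D.expand a c 1
  rw [← hk, ← hS, ← hR, hψy, hχy, mul_zero, add_zero] at hby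
  rw [← hl, ← hS', ← hR', hψy, hχy, mul_zero, add_zero] at hcy
  rw [← hk, ← hS, ← hR, hf, hψ1, orbCount_one hb, Nat.cast_zero] at hb1
  rw [← hl, ← hS', ← hR', hf, hψ1, orbCount_one hc, Nat.cast_zero] at hc1
  have hkl : (k : ℂ) + l = 3 * (p : ℂ) - 1 := by
    have h1 : (1 : ℕ) + k + l = 3 * p := by
      rw [← hcard, hk, hl, Nat.card_coe_set_eq, Nat.card_coe_set_eq, ← Finset.card_univ,
        ← Set.ncard_coe_finset, Finset.coe_univ]
      have hu : (Set.univ : Set α) = {a} ∪ orbit (stabilizer G a) b ∪ orbit (stabilizer G a) c := by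
        ext x
        simp only [Set.mem_univ, Set.mem_union, Set.mem_singleton_iff, true_iff]
        rcases hall x with h | h | h
        · exact Or.inl (Or.inl h)
        · exact Or.inl (Or.inr h)
        · exact Or.inr h
      have hnot : ∀ d : α, d ≠ a → a ∉ orbit (stabilizer G a) d := fun d hd hmem => by
        obtain ⟨⟨r, hr⟩, hrd⟩ := hmem
        exact hd (smul_left_cancel r ((show r • d = a from hrd).trans
          (mem_stabilizer_iff.1 hr).symm))
      rw [hu, Set.ncard_union_eq, Set.ncard_union_eq, Set.ncard_singleton]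
      · exact Set.disjoint_singleton_left.2 (hnot b hb)
      · exact Set.disjoint_union_left.2 ⟨Set.disjoint_singleton_left.2 (hnot c hc),
          (orbit.eq_or_disjoint b c).resolve_left fun h => hcb (h ▸ mem_orbit_self c)⟩
    have h2 : ((1 + k + l : ℕ) : ℂ) = ((3 * p : ℕ) : ℂ) := by rw [h1]
    push_cast at h2
    linear_combination h2
  have hSS : S + S' = -1 := by
    have h := htot y
    rw [hχy, hψy, hby, hcy] at h
    linear_combination hkl - h
  have hRR : R + R' = -1 := by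
    refine mul_left_cancel₀ hp0 ?_
    linear_combination -hb1 - hc1 - hkl - (2 * (p : ℂ) - 1) * hSS
  -- the multiplicity identity
  have hid := multiplicity_identity (G := G) hb hc hcb hall D.χ_real
    (by rw [classInner_sum_set _ D.sum_set, if_pos (by simp)])
  rw [← hk, ← hl, ← hS, ← hS', hf, hcard, Nat.cast_mul, Nat.cast_ofNat] at hid
  obtain ⟨i, hi⟩ := D.dvd_orbCount a b hy hy1
  have hk0 : 0 < k := by
    haveI : Nonempty (orbit (stabilizer G a) b) := ⟨⟨b, mem_orbit_self b⟩⟩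
    rw [hk]; exact Nat.card_pos
  have hl0 : 0 < l := by
    haveI : Nonempty (orbit (stabilizer G a) c) := ⟨⟨c, mem_orbit_self c⟩⟩
    rw [hl]; exact Nat.card_pos
  obtain ⟨s, hs⟩ : ∃ s : ℤ, s = (k : ℤ) - (orbCount a b y : ℤ) := ⟨_, rfl⟩
  have hSs : S = (s : ℂ) := by
    rw [hs]; push_cast; linear_combination hby
  have hSs' : S' = -1 - (s : ℂ) := by linear_combination hSS - hSs
  rw [hSs, hSs'] at hid
  have hidZ : (2 * (p : ℤ) - 1) * ((k : ℤ) * l + s ^ 2 * l + (-1 - s) ^ 2 * k) = 3 * p * k * l := by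
    exact_mod_cast hid
  have hi1 : i = 1 := by
    rcases Nat.lt_or_ge i 1 with h | h
    · exfalso
      have hi0 : i = 0 := by omega
      rw [hi0, mul_zero] at hi
      have hsk : s = k := by rw [hs, hi]; simp
      rw [hsk] at hidZ
      have hk1 : (1 : ℤ) ≤ k := by exact_mod_cast hk0
      have hl1 : (1 : ℤ) ≤ l := by exact_mod_cast hl0
      have hp5 : (5 : ℤ) ≤ p := by exact_mod_cast h5
      have hkl0 : (0 : ℤ) < k * l := by positivity
      have hlow : 2 * ((k : ℤ) * l) ≤ (k : ℤ) * l + (k : ℤ) ^ 2 * l + (-1 - (k : ℤ)) ^ 2 * k := by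
        nlinarith [mul_le_mul_of_nonneg_left hk1 hkl0.le,
          mul_nonneg (sq_nonneg (-1 - (k : ℤ))) (show (0 : ℤ) ≤ k by omega)]
      have hlow' := mul_le_mul_of_nonneg_left hlow (show (0 : ℤ) ≤ 2 * p - 1 by omega)
      nlinarith [mul_pos (show (0 : ℤ) < p - 2 by omega) hkl0]
    · have : p * i ≤ p * 1 := by rw [← hi, mul_one]; exact hle
      have := Nat.le_of_mul_le_mul_left this hp.out.pos
      omega
  rw [hi1, mul_one] at hi
  have hks : (k : ℤ) = s + p := by rw [hs, hi]; ring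
  have hls : (l : ℤ) = 2 * p - 1 - s := by
    have h1 : ((k : ℤ) + l : ℂ) = ((3 * p - 1 : ℤ) : ℂ) := by push_cast; exact hkl
    have h2 : (k : ℤ) + l = 3 * p - 1 := by exact_mod_cast h1
    linarith
  have hquad : 6 * s ^ 2 + 3 * s + 1 = 2 * (p : ℤ) := by
    rw [hks, hls] at hidZ
    have h1 : (p : ℤ) ^ 2 * (6 * s ^ 2 + 3 * s + 1 - 2 * p) = 0 := by linear_combination hidZ
    have := (mul_eq_zero.1 h1).resolve_left (pow_ne_zero 2 (by exact_mod_cast hp.out.ne_zero))
    linarith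
  have hkC : (k : ℂ) = (s : ℂ) + p := by exact_mod_cast hks
  have hlC : (l : ℂ) = 2 * (p : ℂ) - 1 - s := by exact_mod_cast hls
  have hRv : R = -1 - 2 * (s : ℂ) := by
    refine mul_left_cancel₀ hp0 ?_
    rw [hSs, hkC] at hb1
    linear_combination -hb1
  refine ⟨⟨a, b, c, hb, hc, hcb, hall, s, by rw [← hk]; exact hks, by rw [← hl]; exact hls, hquad,
    fun g => ?_, fun g => ?_⟩⟩
  · rw [D.expand a b g, ← hk, ← hS, ← hR, hSs, hRv, hkC]
    ring
  · rw [D.expand a c g, ← hl, ← hS', ← hR', hSs', show R' = 2 * (s : ℂ) by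
      linear_combination hRR - hRv, hlC]
    ring

theorem Two.exists_orb (D : Two P α) : Nonempty D.Orb := by
  haveI : Nonempty α := (Nat.card_pos_iff.1 (by rw [D.card]; have := hp.out.pos; omega)).1
  obtain ⟨a⟩ := ‹Nonempty α›
  obtain ⟨b, c, hb, hc, hcb, hall⟩ := suborbit_data a (D.rank a)
  obtain ⟨y, hy, hy1⟩ := D.B.exists_ne_one
  by_cases hle : orbCount a b y ≤ p
  · exact D.orb_aux hb hc hcb hall hy hy1 hle
  have hbc : b ∉ orbit (stabilizer G a) c := fun h => hcb (by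
    rw [orbit_eq_iff.2 h]; exact mem_orbit_self c)
  refine D.orb_aux hc hb hbc (fun x => ?_) hy hy1 ?_
  · rcases hall x with h | h | h
    · exact Or.inl h
    · exact Or.inr (Or.inr h)
    · exact Or.inr (Or.inl h)
  · have h1 := card_fixedBy_add_orbCount (G := G) hb hc hcb hall y
    rw [D.free y hy hy1, ← Nat.card_eq_fintype_card, D.card] at h1
    obtain ⟨i, hi⟩ := D.dvd_orbCount a b hy hy1
    have : p * 2 ≤ p * i := Nat.mul_le_mul_left p (by
      by_contra h
      have : p * i ≤ p * 1 := Nat.mul_le_mul_left p (by omega)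
      omega)
    omega

/-- `χ` takes integer values. -/
theorem Two.Orb.χ_int {D : Two P α} (O : D.Orb) (g : G) : ∃ v : ℤ, D.B.χ.1 g = v := by
  have hne : 3 * O.s + 1 ≠ 0 := by omega
  refine Char.exists_int_of_isIntegral_mul (CharInt.isIntegral_char (Char.irr_isCharacter _) g) hne
    (N := (orbCount O.a O.b g : ℤ) - (O.s + p) +
      (1 + 2 * O.s) * ((Nat.card (fixedBy α g) : ℤ) - 1)) ?_
  push_cast
  rw [O.Lb g, D.perm g]
  ring

end Cfsg.Agent.DegreeThreeP
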