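import Cfsg.Agent.Lib.DegreeThreeP.CaseTwoMoment
import Cfsg.Agent.Lib.Char.Descend
import Mathlib.GroupTheory.SpecificGroups.Alternating.Simple

/-!
# Degree `15`, subdegrees 6 and 8: the graph of valency 6

Two adjacent points have one common neighbour, two non-adjacent ones three. Hence a point
stabilizer is faithful on the six neighbours and has order 24.
-/

set_option autoImplicit false
set_option linter.style.haveILetI false
set_option linter.unusedSectionVars false

namespace Cfsg.Agent.DegreeThreeP

open Cfsg Cfsg.Agent MulAction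
open scoped ComplexConjugate Classical

universe u v

/-- `S₆` has no subgroup of order 144. -/
theorem no_subgroup_144 {X : Type*} [Fintype X] (hX : Fintype.card X = 6)
    (K : Subgroup (Equiv.Perm X)) (hK : Nat.card K = 144) : False := by
  have hperm : Nat.card (Equiv.Perm X) = 720 := by
    rw [Nat.card_perm, Nat.card_eq_fintype_card, hX]; rfl
  have hidx : K.index = 5 := by
    have h1 := K.card_mul_index
    rw [hK, hperm] at h1
    omega
  have hA : Nat.card (alternatingGroup X) = 360 := by
    haveI : Nontrivial X := Fintype.one_lt_card_iff_nontrivial.1 (by omega)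
    rw [nat_card_alternatingGroup, Nat.card_eq_fintype_card, hX]; rfl
  haveI : IsSimpleGroup (alternatingGroup X) :=
    alternatingGroup.isSimpleGroup (by rw [Nat.card_eq_fintype_card, hX]; norm_num)
  have hN : K.normalCore.index ∣ 120 := by
    rw [Subgroup.normalCore_eq_ker, Subgroup.index_ker]
    have h1 := Subgroup.card_subgroup_dvd_card
      (MulAction.toPermHom (Equiv.Perm X) (Equiv.Perm X ⧸ K)).range
    have h2 : Nat.card (Equiv.Perm (Equiv.Perm X ⧸ K)) = 120 := by
      rw [Nat.card_perm, ← Subgroup.index_eq_card, hidx]; rfl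
    rwa [h2] at h1
  have hNK : Nat.card K.normalCore ≤ 144 := hK ▸ Subgroup.card_le_of_le (Subgroup.normalCore_le K)
  have hNc : 6 ≤ Nat.card K.normalCore := by
    have h1 := K.normalCore.card_mul_index
    rw [hperm] at h1
    have h2 := Nat.le_of_dvd (by norm_num) hN
    by_contra h3
    have := Nat.mul_le_mul (show Nat.card K.normalCore ≤ 5 by omega) h2
    omega
  rcases IsSimpleGroup.eq_bot_or_eq_top_of_normal (K.normalCore.subgroupOf (alternatingGroup X))
    inferInstance with h | h
  · have hd : Disjoint K.normalCore (alternatingGroup X) := Subgroup.subgroupOf_eq_bot.1 h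
    have hinj : Function.Injective fun x : K.normalCore × alternatingGroup X =>
        ((x.1 : Equiv.Perm X) * (x.2 : Equiv.Perm X)) := Subgroup.mul_injective_of_disjoint hd
    have h2 := Nat.card_le_card_of_injective _ hinj
    rw [Nat.card_prod, hA, hperm] at h2
    omega
  · have hle := Subgroup.card_le_of_le (Subgroup.subgroupOf_eq_top.1 h)
    omega

variable {G : Type u} [Group G] [Fintype G] [IsSimpleGroup G] {α : Type v} [MulAction G α]
  [Fintype α] [IsPretransitive G α] [FaithfulSMul G α] {p : ℕ} [hp : Fact p.Prime] {P : Sylow p G}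

/-- The neighbours of a point in an orbital. -/
noncomputable def nbr (G : Type u) [Group G] {α : Type v} [MulAction G α] [Fintype α]
    (a b x : α) : Finset α :=
  Finset.univ.filter fun y => (x, y) ∈ orbit G (a, b)

theorem mem_nbr {a b x y : α} : y ∈ nbr G a b x ↔ (x, y) ∈ orbit G (a, b) := by simp [nbr]

theorem smul_mem_nbr {a b x y : α} (g : G) :
    g • y ∈ nbr G a b (g • x) ↔ y ∈ nbr G a b x := by
  rw [mem_nbr, mem_nbr, show ((g • x, g • y) : α × α) = g • (x, y) from rfl]
  constructor
  · rintro ⟨r, hr⟩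
    exact ⟨g⁻¹ * r, by
      show (g⁻¹ * r) • (a, b) = (x, y)
      rw [mul_smul, show r • (a, b) = g • (x, y) from hr, inv_smul_smul]⟩
  · rintro ⟨r, hr⟩
    exact ⟨g * r, by simp only [mul_smul]; exact congrArg (g • ·) hr⟩

theorem card_inter_smul {a b : α} (g : G) (x y : α) :
    (nbr G a b (g • x) ∩ nbr G a b (g • y)).card = (nbr G a b x ∩ nbr G a b y).card := by
  refine (Finset.card_equiv (MulAction.toPerm g) fun z => ?_).symm
  simp [smul_mem_nbr]

theorem Two.Orb.selfPaired (D : Two P α) :
    ∀ x y : α, ∃ g : G, g • x = y ∧ g • y = x := by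
  refine CharInt.PermHecke.selfPaired_iff.2 fun χ hχi hne => ?_
  have h := classInner_sum_set _ D.sum_set ⟨χ, hχi⟩
  by_cases hm : (⟨χ, hχi⟩ : IrrCharacter G) ∈
      ({Char.trivialChar G, D.B.χ, D.ψ} : Finset (IrrCharacter G))
  · rw [if_pos hm] at h
    refine ⟨h, fun g => ?_⟩
    simp only [Finset.mem_insert, Finset.mem_singleton] at hm
    rcases hm with e | e | e
    · rw [show χ g = (Char.trivialChar G).1 g from congrArg (fun φ : IrrCharacter G => φ.1 g) e,
        Char.trivialChar_apply, map_one]
    · rw [show χ g = D.B.χ.1 g from congrArg (fun φ : IrrCharacter G => φ.1 g) e, D.χ_real]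
    · rw [show χ g = D.ψ.1 g from congrArg (fun φ : IrrCharacter G => φ.1 g) e, D.ψ_real]
  · rw [if_neg hm] at h
    exact absurd h hne

set_option maxHeartbeats 1600000 in
/-- The order in the case of the graph of valency 6 on 15 points. -/
theorem Two.Orb.card_eq_of_five (D : Two P α) (O : D.Orb) (hs : O.s = 1) (hp5 : p = 5)
    (hL : ∀ g ∈ regSet G p, O.v g * (O.v g - 1) ≠ 0 → orbCount O.a O.c g = 0) :
    Nat.card G = 360 := by
  have hn : Fintype.card α = 15 := by rw [← Nat.card_eq_fintype_card, D.card, hp5]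
  have hk : Nat.card (orbit (stabilizer G O.a) O.b) = 6 := by
    have := O.hk; rw [hs] at this; omega
  have hl : Nat.card (orbit (stabilizer G O.a) O.c) = 8 := by
    have := O.hl; rw [hs] at this; omega
  set N : α → Finset α := fun x => nbr G O.a O.b x with hN
  have hsw := Two.Orb.selfPaired (G := G) D
  have hsymm : ∀ x y, y ∈ N x → x ∈ N y := by
    intro x y h
    obtain ⟨g, h1, h2⟩ := hsw x y
    have := (smul_mem_nbr (G := G) g).2 h
    rwa [h1, h2] at this
  have hirr : ∀ x, x ∉ N x := fun x h => by
    obtain ⟨r, hr⟩ := mem_nbr.1 h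
    simp only [Prod.smul_mk, Prod.mk.injEq] at hr
    exact O.hb (smul_left_cancel r (hr.2.trans hr.1.symm))
  have hcardN : ∀ x, (N x).card = 6 := fun x => by
    rw [← hk, ← card_nbhd O.a O.b x, Nat.card_eq_fintype_card, Fintype.card_subtype]
    rfl
  have hNa : ∀ y, y ∈ N O.a ↔ y ∈ orbit (stabilizer G O.a) O.b := fun y => by
    rw [mem_nbr]; exact mem_orbital_left_iff O.a O.b y
  set lam := (N O.a ∩ N O.b).card with hlam
  set mu := (N O.a ∩ N O.c).card with hmu
  have hb' : ∀ y ∈ orbit (stabilizer G O.a) O.b, (N O.a ∩ N y).card = lam := by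
    rintro _ ⟨⟨r, hr⟩, rfl⟩
    show (N O.a ∩ N (r • O.b)).card = lam
    conv_lhs => rw [← mem_stabilizer_iff.1 hr]
    exact card_inter_smul r O.a O.b
  have hc' : ∀ y ∈ orbit (stabilizer G O.a) O.c, (N O.a ∩ N y).card = mu := by
    rintro _ ⟨⟨r, hr⟩, rfl⟩
    show (N O.a ∩ N (r • O.c)).card = mu
    conv_lhs => rw [← mem_stabilizer_iff.1 hr]
    exact card_inter_smul r O.a O.c
  -- `6 * 6 = 6 + 6 λ + 8 μ`
  have hnot : ∀ d : α, d ≠ O.a → O.a ∉ orbit (stabilizer G O.a) d := fun d hd hmem => by
    obtain ⟨⟨r, hr⟩, hrd⟩ := hmem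
    exact hd (smul_left_cancel r ((show r • d = O.a from hrd).trans
      (mem_stabilizer_iff.1 hr).symm))
  have hdj : ∀ y, y ∈ orbit (stabilizer G O.a) O.b → y ∉ orbit (stabilizer G O.a) O.c :=
    fun y h h' => O.hcb (by
      rw [(orbit_eq_iff.2 h).symm.trans (orbit_eq_iff.2 h')]; exact mem_orbit_self O.c)
  have hcount : 6 + 6 * lam + 8 * mu = 36 := by
    have h36 : ∑ y ∈ N O.a, (N y).card = 36 := by
      rw [Finset.sum_congr rfl fun y _ => hcardN y, Finset.sum_const, hcardN, smul_eq_mul]
    have hswap : ∑ y ∈ N O.a, (N y).card = ∑ z : α, (N O.a ∩ N z).card := by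
      simp only [Finset.card_eq_sum_ones (N _)]
      rw [Finset.sum_congr rfl fun y _ => show (∑ _z ∈ N y, 1) = ∑ z : α, if y ∈ N z then 1 else 0 by
          rw [← Finset.sum_filter]
          exact Finset.sum_congr (Finset.ext fun z => by
            simp only [Finset.mem_filter, Finset.mem_univ, true_and]
            exact ⟨hsymm y z, hsymm z y⟩) fun _ _ => rfl,
        Finset.sum_comm]
      refine Finset.sum_congr rfl fun z _ => ?_
      rw [← Finset.sum_filter, Finset.filter_mem_eq_inter, Finset.card_eq_sum_ones]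
    have hval : ∀ z : α, (N O.a ∩ N z).card = (if z = O.a then 6 else 0) +
        (if z ∈ orbit (stabilizer G O.a) O.b then lam else 0) +
        (if z ∈ orbit (stabilizer G O.a) O.c then mu else 0) := by
      intro z
      rcases O.hall z with h | h | h
      · rw [h, Finset.inter_self, hcardN, if_pos rfl, if_neg (hnot _ O.hb), if_neg (hnot _ O.hc)]
      · rw [hb' z h, if_neg fun (e : z = O.a) => hnot _ O.hb (e ▸ h), if_pos h, if_neg (hdj z h)]
        omega
      · rw [hc' z h, if_neg fun (e : z = O.a) => hnot _ O.hc (e ▸ h),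
          if_neg fun h' => hdj z h' h, if_pos h]
        omega
    rw [hswap, Finset.sum_congr rfl fun z _ => hval z, Finset.sum_add_distrib,
      Finset.sum_add_distrib, Finset.sum_ite_eq', if_pos (Finset.mem_univ _), ← Finset.sum_filter,
      ← Finset.sum_filter, Finset.sum_const, Finset.sum_const, ← Fintype.card_subtype,
      ← Fintype.card_subtype, ← Nat.card_eq_fintype_card, ← Nat.card_eq_fintype_card, smul_eq_mul,
      smul_eq_mul] at h36
    rw [show Nat.card {z // z ∈ orbit (stabilizer G O.a) O.b} = 6 from hk,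
      show Nat.card {z // z ∈ orbit (stabilizer G O.a) O.c} = 8 from hl] at h36
    exact h36
  have hlam5 : lam ≠ 5 := by
    intro h5
    have hfull : ∀ x y, y ∈ N x → N x ∩ N y = (N x).erase y := by
      intro x y hy
      obtain ⟨t, rfl⟩ := exists_smul_eq G O.a x
      refine Finset.eq_of_subset_of_card_le (fun z hz => ?_) ?_
      · obtain ⟨h1, h2⟩ := Finset.mem_inter.1 hz
        exact Finset.mem_erase.2 ⟨fun e => hirr y (e ▸ h2), h1⟩
      · rw [Finset.card_erase_of_mem hy, hcardN]
        have h1 := card_inter_smul (a := O.a) (b := O.b) t⁻¹ (t • O.a) y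
        rw [inv_smul_smul] at h1
        have h2 : t⁻¹ • y ∈ orbit (stabilizer G O.a) O.b :=
          (mem_orbital_iff O.a O.b t y).1 (mem_nbr.1 hy)
        have h3 := hb' _ h2
        rw [h5] at h3
        exact ((h1.symm.trans h3).ge)
    let r : α → α → Prop := fun x y => x = y ∨ y ∈ N x
    have hr : Equivalence r := by
      refine ⟨fun x => Or.inl rfl, fun {x y} h => ?_, fun {x y z} h h' => ?_⟩
      · exact h.elim (fun e => Or.inl e.symm) fun e => Or.inr (hsymm x y e)
      · rcases h with rfl | h
        · exact h'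
        rcases h' with rfl | h'
        · exact Or.inr h
        by_cases hxz : x = z
        · exact Or.inl hxz
        have hz : z ∈ (N y).erase x := Finset.mem_erase.2 ⟨Ne.symm hxz, h'⟩
        rw [← hfull y x (hsymm x y h), Finset.mem_inter] at hz
        exact Or.inr hz.2
    have hblock := Perm.isBlock_of_equivalence (G := G) hr (fun g x y h => ?_) O.a
    · have hd := hblock.ncard_dvd_card ⟨O.a, Or.inl rfl⟩
      have hset : {x | r O.a x} = ↑(insert O.a (N O.a)) := by
        ext x
        simp only [Set.mem_setOf_eq, Finset.coe_insert, Set.mem_insert_iff, Finset.mem_coe, r]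
        exact or_congr eq_comm Iff.rfl
      rw [hset, Set.ncard_coe_finset, Finset.card_insert_of_notMem (hirr _), hcardN,
        Nat.card_eq_fintype_card, hn] at hd
      norm_num at hd
    · exact h.elim (fun e => Or.inl (congrArg (g • ·) e)) fun e => Or.inr ((smul_mem_nbr g).2 e)
  have hlam : lam = 1 ∧ mu = 3 := by
    have : lam ≤ 6 := hcardN O.a ▸ Finset.card_le_card Finset.inter_subset_left
    omega
  -- the stabilizer is faithful on the neighbours
  set H := stabilizer G O.a with hHdef
  have hfaith : ∀ h : G, h ∈ H → (∀ y ∈ N O.a, h • y = y) → h = 1 := by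
    intro u hu hfix
    by_contra hu1
    have hreg : IsPRegular p u := by
      intro hnr
      obtain ⟨x, hx, hx1⟩ := DegreePSubTwo.exists_conj_mem D.B.sc (fun h => h hnr)
      haveI : IsEmpty (fixedBy α (x⁻¹ * u * x)) := Finite.card_eq_zero_iff.1 (D.free _ hx hx1)
      exact isEmptyElim (⟨x⁻¹ • O.a, by
        show (x⁻¹ * u * x) • (x⁻¹ • O.a) = x⁻¹ • O.a
        rw [mul_smul, smul_inv_smul, mul_smul, mem_stabilizer_iff.1 hu]⟩ :
          fixedBy α (x⁻¹ * u * x))
    by_cases hv : O.v u * (O.v u - 1) = 0
    · have h7 : 7 ≤ Nat.card (fixedBy α u) := by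
        have hsub : insert O.a (N O.a) ⊆ (Finset.univ.filter fun x : α => u • x = x) := by
          intro x hx
          rcases Finset.mem_insert.1 hx with rfl | hx
          · exact Finset.mem_filter.2 ⟨Finset.mem_univ _, mem_stabilizer_iff.1 hu⟩
          · exact Finset.mem_filter.2 ⟨Finset.mem_univ _, hfix x hx⟩
        have h := Finset.card_le_card hsub
        rw [Finset.card_insert_of_notMem (hirr _), hcardN] at h
        rw [Nat.card_eq_fintype_card, Fintype.card_subtype]
        exact h
      have hW := D.perm u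
      rw [O.v_spec u] at hW
      have hnorm := CharInt.norm_char_le (Char.irr_isCharacter D.ψ) u
      have hψ : D.ψ.1 u = (((Nat.card (fixedBy α u) : ℤ) - 1 - O.v u : ℤ) : ℂ) := by
        push_cast; linear_combination -hW
      rw [hψ, Complex.norm_intCast, Char.apply_one_eq_degree, Complex.norm_natCast, D.deg_ψ,
        show (p : ℝ) = 5 by exact_mod_cast hp5] at hnorm
      have h5 : (Nat.card (fixedBy α u) : ℤ) - 1 - O.v u ≤ 5 := by
        have h' : ((((Nat.card (fixedBy α u) : ℤ) - 1 - O.v u : ℤ)) : ℝ) ≤ (((5 : ℤ)) : ℝ) := by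
          refine (le_abs_self _).trans ?_
          push_cast at hnorm ⊢
          exact hnorm
        exact_mod_cast h'
      have hv01 : O.v u = 0 ∨ O.v u = 1 := by
        rcases mul_eq_zero.1 hv with h | h
        · exact Or.inl h
        · exact Or.inr (by omega)
      refine hu1 (faithful (θ := D.ψ) D.ψ_ne u ?_)
      rw [hψ, Char.apply_one_eq_degree, D.deg_ψ, show (p : ℂ) = 5 by exact_mod_cast hp5]
      have : (Nat.card (fixedBy α u) : ℤ) - 1 - O.v u = 5 := by omega
      rw [this]
      norm_num
    · have h0 := hL u (mem_regSet.2 ⟨hreg, hu1⟩) hv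
      obtain ⟨w, hw⟩ : ∃ w : α, u • w ≠ w := by
        by_contra h
        push Not at h
        exact hu1 (Perm.eq_one_of_forall_smul_eq h)
      have hwO : w ∈ orbit (stabilizer G O.a) O.c := by
        rcases O.hall w with h | h | h
        · exact absurd (by rw [h]; exact mem_stabilizer_iff.1 hu) hw
        · exact absurd (hfix w ((hNa w).2 h)) hw
        · exact h
      have hadj : u • w ∈ N w := by
        obtain ⟨t, ht⟩ := exists_smul_eq G O.a w
        have h1 : ¬ (w, u • w) ∈ orbit G (O.a, O.c) := fun h => by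
          rw [orbCount, Finset.card_eq_zero, Finset.filter_eq_empty_iff] at h0
          exact h0 (Finset.mem_univ w) h
        subst ht
        rw [mem_orbital_iff] at h1
        rw [mem_nbr, mem_orbital_iff]
        rcases O.hall (t⁻¹ • u • t • O.a) with h | h | h
        · exact absurd (inv_smul_eq_iff.1 h) hw
        · exact h
        · exact absurd h h1
      have hle : (N O.a ∩ N w).card ≤ (N w ∩ N (u • w)).card := by
        refine Finset.card_le_card fun y hy => ?_
        obtain ⟨hya, hyw⟩ := Finset.mem_inter.1 hy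
        refine Finset.mem_inter.2 ⟨hyw, ?_⟩
        have := (smul_mem_nbr (G := G) u).2 hyw
        rwa [hfix y hya] at this
      have hl1 : (N w ∩ N (u • w)).card = lam := by
        obtain ⟨t, ht⟩ := exists_smul_eq G O.a w
        subst ht
        have h1 := card_inter_smul (a := O.a) (b := O.b) t⁻¹ (t • O.a) (u • t • O.a)
        rw [inv_smul_smul] at h1
        exact h1.symm.trans (hb' _ ((mem_orbital_iff O.a O.b t _).1 (mem_nbr.1 hadj)))
      rw [hc' w hwO, hl1] at hle
      omega
  have hHmem : ∀ (h : H) (y : α), y ∈ N O.a ↔ (h : G) • y ∈ N O.a := fun h y => by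
    conv_rhs => rw [← mem_stabilizer_iff.1 h.2]
    exact (smul_mem_nbr (G := G) (h : G)).symm
  let φ : H →* Equiv.Perm {y // y ∈ N O.a} :=
    { toFun := fun h => (MulAction.toPerm (h : G)).subtypeEquiv fun y => hHmem h y
      map_one' := Equiv.ext fun y => Subtype.ext (one_smul G (y : α))
      map_mul' := fun h h' => Equiv.ext fun y => Subtype.ext (mul_smul (h : G) (h' : G) (y : α)) }
  have hφ : Function.Injective φ := (injective_iff_map_eq_one φ).2 fun h hh =>
    Subtype.ext (hfaith h h.2 fun y hy =>
      congrArg Subtype.val (Equiv.ext_iff.1 hh ⟨y, hy⟩))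
  have h720 : Nat.card H ∣ 720 := by
    have h1 := Subgroup.card_subgroup_dvd_card φ.range
    rw [Nat.card_congr (MonoidHom.ofInjective hφ).toEquiv.symm, Nat.card_perm,
      Nat.card_eq_finsetCard, hcardN] at h1
    exact h1
  have hno : Nat.card H ≠ 144 := fun h => no_subgroup_144
    (X := {y // y ∈ N O.a}) (by rw [Fintype.card_coe, hcardN]) φ.range
    (by rw [Nat.card_congr (MonoidHom.ofInjective hφ).toEquiv.symm, h])
  have hG : Nat.card G = 15 * Nat.card H := by
    rw [← Perm.card_mul_card_stabilizer (G := G) O.a, Nat.card_eq_fintype_card, hn]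
  have h5 : 5 ∣ Nat.card G := hG ▸ Dvd.dvd.mul_right (by norm_num) _
  have h9 : 9 ∣ Nat.card G := by
    have := Char.charDegree_dvd_card D.B.χ
    rwa [Char.charDegree_eq_degree, D.deg_χ, hp5] at this
  have h8 : 8 ∣ Nat.card G := by
    obtain ⟨θ, hθ⟩ := D.B.Y_nonempty
    have := Char.charDegree_dvd_card θ
    rwa [Char.charDegree_eq_degree, D.deg_Y hθ, hp5] at this
  have hsy : Nat.card (Sylow p G) % 5 = 1 := by
    have h1 : Nat.card (Sylow p G) % p = 1 % p := card_sylow_modEq_one p G
    generalize Nat.card (Sylow p G) = n at h1 ⊢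
    rw [hp5] at h1
    simpa using h1
  have hsG : Nat.card (Sylow p G) * 10 = Nat.card G := by
    rw [← SmallSimple.card_sylow_mul_card_normalizer P, D.card_N]
    congr 1
    omega
  obtain ⟨j, hj⟩ : 24 ∣ Nat.card H := by omega
  have hj30 : j ∣ 30 := by
    rw [hj, show 720 = 24 * 30 from rfl] at h720
    exact Nat.dvd_of_mul_dvd_mul_left (by norm_num) h720
  have := Nat.le_of_dvd (by norm_num) hj30
  interval_cases j <;> omega

end Cfsg.Agent.DegreeThreeP
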