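import Cfsg.Agent.Lib.DegreeThreeP.CaseTwoData

/-!
# Degree `3p`, `π = 1 + χ + ψ`: moments of `χ` against the orbital counts

With `c = ⟨χ², χ⟩ ≥ 1` and `m = ⟨χ², ψ⟩` the sums of `v (v - 1) L` over the non-trivial `p`-regular
elements are `|G| (1 + s c - (2 s + 1) m)` and `|G| (2 - (s + 1) c + 2 s m)`.
-/

set_option autoImplicit false
set_option linter.style.haveILetI false
set_option linter.unusedSectionVars false

namespace Cfsg.Agent.DegreeThreeP

open Cfsg Cfsg.Agent MulAction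
open scoped ComplexConjugate Classical

universe u v

variable {G : Type u} [Group G] [Fintype G] [IsSimpleGroup G] {α : Type v} [MulAction G α]
  [Fintype α] [IsPretransitive G α] {p : ℕ} [hp : Fact p.Prime] {P : Sylow p G}

/-- The non-trivial `p`-regular elements. -/
noncomputable def regSet (G : Type u) [Group G] [Fintype G] (p : ℕ) : Finset G :=
  Finset.univ.filter fun g => IsPRegular p g ∧ g ≠ 1

theorem mem_regSet {g : G} : g ∈ regSet G p ↔ IsPRegular p g ∧ g ≠ 1 := by simp [regSet]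

/-- A class function that is constant on `P - 1`, summed over the group. -/
theorem sum_regSet (B : Blk P) {F : G → ℂ} (hF : IsClassFunction G F) {F₁ : ℂ}
    (h : ∀ y ∈ (P : Subgroup G), y ≠ 1 → F y = F₁) :
    ∑ g ∈ regSet G p, F g =
      (∑ g : G, F g) - (Nat.card (Sylow p G) : ℂ) * ((p : ℂ) - 1) * F₁ - F 1 := by
  rw [DegreePSubTwo.sum_split_regular B.sc hF,
    Finset.sum_congr (s₁ := Finset.univ.erase (1 : (P : Subgroup G))) rfl fun y hy =>
      h y y.2 fun e => (Finset.mem_erase.1 hy).1 (Subtype.ext e),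
    Finset.sum_const, DefectOne.card_erase B.sc.card, nsmul_eq_mul,
    Nat.cast_sub hp.out.one_le,
    ← Finset.sum_erase_add (Finset.univ.filter fun g : G => IsPRegular p g) _
      (Finset.mem_filter.2 ⟨Finset.mem_univ (1 : G), isPRegular_one⟩),
    show (Finset.univ.filter fun g : G => IsPRegular p g).erase 1 = regSet G p by
      ext g; simp [regSet, and_comm]]
  push_cast
  ring

theorem Two.card_G (D : Two P α) :
    (Nat.card G : ℂ) = (Nat.card (Sylow p G) : ℂ) * (2 * (p : ℂ)) := by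
  rw [← SmallSimple.card_sylow_mul_card_normalizer P, D.card_N]
  push_cast
  ring

/-- Sums against a real irreducible character. -/
theorem sum_mul_real {F : G → ℂ} (χ : IrrCharacter G) (hχ : ∀ g, conj (χ.1 g) = χ.1 g) :
    ∑ g : G, F g * χ.1 g = (Nat.card G : ℂ) * classInner F χ.1 := by
  simp only [classInner, hχ]
  rw [← mul_assoc, mul_inv_cancel₀ Char.card_ne_zero, one_mul]

/-- The numbers `c`, `m` and the sums over the group. -/
theorem Two.sums (D : Two P α) :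
    ∃ c m : ℕ, 1 ≤ c ∧
      (∑ g : G, D.B.χ.1 g = 0) ∧ (∑ g : G, D.ψ.1 g = 0) ∧
      (∑ g : G, D.B.χ.1 g ^ 2 = (Nat.card G : ℂ)) ∧
      (∑ g : G, D.B.χ.1 g * D.ψ.1 g = 0) ∧
      (∑ g : G, D.B.χ.1 g ^ 3 = (Nat.card G : ℂ) * c) ∧
      ∑ g : G, D.B.χ.1 g ^ 2 * D.ψ.1 g = (Nat.card G : ℂ) * m := by
  set χ := D.B.χ with hχdef
  have hχ := D.χ_real
  have hψ := D.ψ_real
  have hχ2 : IsCharacter G (χ.1 * χ.1) :=
    Char.IsCharacter.mul (Char.irr_isCharacter χ) (Char.irr_isCharacter χ)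
  obtain ⟨c, hc⟩ := Char.IsCharacter.exists_nat_classInner hχ2 (Char.irr_isCharacter χ)
  obtain ⟨m, hm⟩ := Char.IsCharacter.exists_nat_classInner hχ2 (Char.irr_isCharacter D.ψ)
  have h1 : ∀ φ : IrrCharacter G, φ ≠ Char.trivialChar G → ∑ g : G, φ.1 g = 0 := fun φ hne => by
    have h := Char.classInner_irr_of_ne φ.2 (Char.trivialChar G).2 (fun e => hne (Subtype.ext e))
    simp only [classInner, Char.trivialChar_apply, map_one, mul_one] at h
    exact (mul_eq_zero.1 h).resolve_left (inv_ne_zero Char.card_ne_zero)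
  have h2 : ∑ g : G, χ.1 g ^ 2 = (Nat.card G : ℂ) := by
    simp only [pow_two]
    rw [sum_mul_real χ hχ, Char.classInner_irr_self χ.2, mul_one]
  have h3 : ∑ g : G, χ.1 g ^ 3 = (Nat.card G : ℂ) * c := by
    rw [← hc, ← sum_mul_real χ hχ]
    exact Finset.sum_congr rfl fun g _ => by rw [Pi.mul_apply]; ring
  refine ⟨c, m, ?_, h1 χ D.B.χ_ne, h1 D.ψ D.ψ_ne, h2, ?_, h3, ?_⟩
  · -- the products `θ θ̄` contain `χ`
    have hg : ∀ θ ∈ D.B.Y, ∀ g, IsPRegular p g → θ.1 g = χ.1 g - 1 := fun θ hθ g hg' => by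
      have h := D.B.regular θ hθ g hg'
      rw [D.he, D.hε] at h
      push_cast at h
      linear_combination -h
    set F : G → ℂ := fun g => (∑ θ ∈ D.B.Y, θ.1 g * conj (θ.1 g)) * χ.1 g with hF
    have hcls : IsClassFunction G F := by
      intro g t
      simp only [hF, Char.IsCharacter.isClassFunction (Char.irr_isCharacter _) g t]
    choose N hN using fun θ : IrrCharacter G => Char.IsCharacter.exists_nat_classInner
      (Char.IsCharacter.mul (Char.irr_isCharacter θ)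
        (Char.IsCharacter.conj (Char.irr_isCharacter θ))) (Char.irr_isCharacter χ)
    have hFN : ∑ g : G, F g = (Nat.card G : ℂ) * ((∑ θ ∈ D.B.Y, N θ : ℕ) : ℂ) := by
      push_cast
      simp only [hF, Finset.sum_mul, Finset.mul_sum]
      rw [Finset.sum_comm]
      refine Finset.sum_congr rfl fun θ _ => ?_
      rw [← hN θ, ← sum_mul_real χ hχ]
      rfl
    have hy : ∀ y ∈ (P : Subgroup G), y ≠ 1 → F y = -((p : ℂ) - 2) := fun y hy hy1 => by
      simp only [hF, D.B.sum_Y_sq y hy hy1, hχdef, D.B.val_χ y hy hy1, D.he]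
      rw [Nat.cast_sub (by have := D.B.five; omega)]
      push_cast
      ring
    set F' : G → ℂ := fun g => (D.B.t : ℂ) * ((χ.1 g - 1) ^ 2 * χ.1 g) with hF'
    have hcls' : IsClassFunction G F' := by
      intro g t
      simp only [hF', Char.IsCharacter.isClassFunction (Char.irr_isCharacter χ) g t]
    have hy' : ∀ y ∈ (P : Subgroup G), y ≠ 1 → F' y = -4 * (D.B.t : ℂ) := fun y hy hy1 => by
      simp only [hF', hχdef, D.B.val_χ y hy hy1, D.he]
      push_cast
      ring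
    have heq : ∀ g, IsPRegular p g → F g = F' g := fun g hg' => by
      simp only [hF, hF']
      rw [Finset.sum_congr rfl fun θ hθ => show θ.1 g * conj (θ.1 g) = (χ.1 g - 1) ^ 2 by
          rw [hg θ hθ g hg', map_sub, map_one, hχdef, hχ g]; ring,
        Finset.sum_const, D.B.card_Y, nsmul_eq_mul]
      ring
    have e1 := sum_regSet D.B hcls hy
    have e2 := sum_regSet D.B hcls' hy'
    rw [Finset.sum_congr rfl fun g hg' => heq g (mem_regSet.1 hg').1, e2, hFN,
      ← heq 1 isPRegular_one] at e1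
    have hF'sum : ∑ g : G, F' g = (D.B.t : ℂ) * ((Nat.card G : ℂ) * c - 2 * Nat.card G) := by
      have e : ∀ g : G, F' g = (D.B.t : ℂ) * (χ.1 g ^ 3 - 2 * χ.1 g ^ 2 + χ.1 g) := fun g => by
        simp only [hF']; ring
      simp only [e, ← Finset.mul_sum, Finset.sum_add_distrib, Finset.sum_sub_distrib, h3, h2,
        h1 χ D.B.χ_ne, add_zero]
    rw [hF'sum] at e1
    have ht : (p : ℂ) = 2 * (D.B.t : ℂ) + 1 := by exact_mod_cast D.B.ht.symm
    have h4 : (Nat.card G : ℂ) * ((∑ θ ∈ D.B.Y, N θ : ℕ) : ℂ) =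
        (Nat.card G : ℂ) * ((D.B.t : ℂ) * ((c : ℂ) - 1)) := by
      rw [D.card_G] at e1 ⊢
      rw [ht] at e1 ⊢
      linear_combination -e1
    have h5 := mul_left_cancel₀ Char.card_ne_zero h4
    have h6 : ((∑ θ ∈ D.B.Y, N θ : ℕ) : ℤ) = (D.B.t : ℤ) * ((c : ℤ) - 1) := by
      have : (((∑ θ ∈ D.B.Y, N θ : ℕ) : ℤ) : ℂ) = (((D.B.t : ℤ) * ((c : ℤ) - 1) : ℤ) : ℂ) := by
        push_cast at h5 ⊢
        exact h5
      exact_mod_cast this
    by_contra hlt
    have hc0 : c = 0 := by omega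
    rw [hc0] at h6
    have ht0 : 0 < D.B.t := by have := D.B.five; have := D.B.ht; omega
    push_cast at h6
    have : (0 : ℤ) ≤ (∑ θ ∈ D.B.Y, (N θ : ℤ)) := Finset.sum_nonneg fun θ _ => Int.natCast_nonneg _
    omega
  · rw [sum_mul_real D.ψ hψ, Char.classInner_irr_of_ne χ.2 D.ψ.2
      (fun e => D.ψ_χ (Subtype.ext e.symm)), mul_zero]
  · rw [← hm, ← sum_mul_real D.ψ hψ]
    exact Finset.sum_congr rfl fun g _ => by rw [Pi.mul_apply]; ring

/-- The integer value of `χ`. -/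
noncomputable def Two.Orb.v {D : Two P α} (O : D.Orb) (g : G) : ℤ := (O.χ_int g).choose

theorem Two.Orb.v_spec {D : Two P α} (O : D.Orb) (g : G) : D.B.χ.1 g = O.v g :=
  (O.χ_int g).choose_spec

theorem Two.Orb.v_one {D : Two P α} (O : D.Orb) : O.v 1 = 2 * p - 1 := by
  have h := O.v_spec 1
  rw [Char.apply_one_eq_degree, D.deg_χ, Nat.cast_sub (by have := D.B.five; omega)] at h
  have h' : ((2 * (p : ℤ) - 1 : ℤ) : ℂ) = (O.v 1 : ℂ) := by push_cast at h ⊢; exact h
  exact_mod_cast h'.symm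

/-- A summation over the regular elements. -/
theorem Two.Orb.sum_v (D : Two P α) (O : D.Orb) (A B C : ℂ) {L : G → ℕ}
    (hL : ∀ g, (L g : ℂ) = A + B * D.B.χ.1 g + C * D.ψ.1 g) (h0 : L 1 = 0) {c m : ℕ}
    (h2 : ∑ g : G, D.B.χ.1 g ^ 2 = (Nat.card G : ℂ)) (h1 : ∑ g : G, D.B.χ.1 g = 0)
    (h1' : ∑ g : G, D.B.χ.1 g * D.ψ.1 g = 0)
    (h3 : ∑ g : G, D.B.χ.1 g ^ 3 = (Nat.card G : ℂ) * c)
    (h3' : ∑ g : G, D.B.χ.1 g ^ 2 * D.ψ.1 g = (Nat.card G : ℂ) * m) :
    ((∑ g ∈ regSet G p, O.v g * (O.v g - 1) * L g : ℤ) : ℂ) =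
      (Nat.card G : ℂ) * (A + B * c + C * m - B) -
        2 * ((Nat.card (Sylow p G) : ℂ) * ((p : ℂ) - 1)) * (A - B) := by
  set χ := D.B.χ with hχdef
  set F : G → ℂ := fun g => χ.1 g * (χ.1 g - 1) * (A + B * χ.1 g + C * D.ψ.1 g) with hF
  have hcls : IsClassFunction G F := by
    intro g t
    simp only [hF, Char.IsCharacter.isClassFunction (Char.irr_isCharacter _) g t]
  have hy : ∀ y ∈ (P : Subgroup G), y ≠ 1 → F y = 2 * (A - B) := fun y hy hy1 => by
    simp only [hF, hχdef, D.B.val_χ y hy hy1, D.he,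
      D.B.vanish D.ψ D.ψ_ne D.ψ_χ D.ψ_Y y hy hy1]
    push_cast
    ring
  have h := sum_regSet D.B hcls hy
  have hone : F 1 = 0 := by
    simp only [hF]
    rw [hχdef, ← hL 1, h0, Nat.cast_zero, mul_zero]
  have hsum : ∑ g : G, F g = (Nat.card G : ℂ) * (A + B * c + C * m - B) := by
    have e : ∀ g : G, F g = A * χ.1 g ^ 2 + B * χ.1 g ^ 3 + C * (χ.1 g ^ 2 * D.ψ.1 g) -
        (A * χ.1 g + B * χ.1 g ^ 2 + C * (χ.1 g * D.ψ.1 g)) := fun g => by simp only [hF]; ring
    simp only [e, Finset.sum_sub_distrib, Finset.sum_add_distrib, ← Finset.mul_sum, h1, h2, h3,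
      h3', h1']
    ring
  rw [hone, hsum] at h
  push_cast
  rw [Finset.sum_congr rfl fun g _ => show ((O.v g : ℂ) * ((O.v g : ℂ) - 1) * (L g : ℂ)) = F g by
    rw [hL g]; simp only [hF, hχdef, ← O.v_spec g], h]
  ring

/-- The two moment identities. -/
theorem Two.Orb.moments (D : Two P α) (O : D.Orb) :
    ∃ c m : ℕ, 1 ≤ c ∧
      (∑ g ∈ regSet G p, O.v g * (O.v g - 1) * orbCount O.a O.b g =
        (Nat.card G : ℤ) * (1 + O.s * c - (2 * O.s + 1) * m)) ∧
      (∑ g ∈ regSet G p, O.v g * (O.v g - 1) * orbCount O.a O.c g =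
        (Nat.card G : ℤ) * (2 - (O.s + 1) * c + 2 * O.s * m)) ∧
      ((∑ g ∈ regSet G p, O.v g * (O.v g - 1)) * p = (Nat.card G : ℤ) -
        p * (2 * p - 1) * (2 * p - 2)) ∧
      ((∑ g ∈ regSet G p, O.v g) * 2 * p = -((Nat.card G : ℤ) * (1 - p)) - 2 * p * (2 * p - 1)) := by
  obtain ⟨c, m, hc, h1, -, h2, h1', h3, h3'⟩ := D.sums
  refine ⟨c, m, hc, ?_, ?_, ?_, ?_⟩
  · have h := O.sum_v D ((O.s : ℂ) + p) O.s (-(1 + 2 * (O.s : ℂ))) (L := orbCount O.a O.b)
      (fun g => by rw [O.Lb g]; ring) (orbCount_one O.hb) h2 h1 h1' h3 h3'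
    have h' : ((∑ g ∈ regSet G p, O.v g * (O.v g - 1) * orbCount O.a O.b g : ℤ) : ℂ) =
        (((Nat.card G : ℤ) * (1 + O.s * c - (2 * O.s + 1) * m) : ℤ) : ℂ) := by
      rw [h]
      push_cast
      rw [D.card_G]
      ring
    exact_mod_cast h'
  · have h := O.sum_v D (2 * (p : ℂ) - 1 - O.s) (-(1 + (O.s : ℂ))) (2 * (O.s : ℂ))
      (L := orbCount O.a O.c)
      (fun g => by rw [O.Lc g]; ring) (orbCount_one O.hc) h2 h1 h1' h3 h3'
    have h' : ((∑ g ∈ regSet G p, O.v g * (O.v g - 1) * orbCount O.a O.c g : ℤ) : ℂ) =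
        (((Nat.card G : ℤ) * (2 - (O.s + 1) * c + 2 * O.s * m) : ℤ) : ℂ) := by
      rw [h]
      push_cast
      rw [D.card_G]
      ring
    exact_mod_cast h'
  · have hcls : IsClassFunction G fun g => D.B.χ.1 g * (D.B.χ.1 g - 1) := fun g t => by
      simp only [Char.IsCharacter.isClassFunction (Char.irr_isCharacter _) g t]
    have h := sum_regSet D.B hcls (F₁ := 2) fun y hy hy1 => by
      rw [D.B.val_χ y hy hy1, D.he]; norm_num
    rw [Finset.sum_congr rfl fun g _ => show D.B.χ.1 g * (D.B.χ.1 g - 1) =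
        ((O.v g * (O.v g - 1) : ℤ) : ℂ) by rw [O.v_spec g]; push_cast; ring,
      ← Int.cast_sum, Finset.sum_congr (s₁ := (Finset.univ : Finset G)) rfl
        fun g _ => show D.B.χ.1 g * (D.B.χ.1 g - 1) = D.B.χ.1 g ^ 2 - D.B.χ.1 g by ring,
      Finset.sum_sub_distrib, h1, h2, sub_zero, O.v_spec 1, O.v_one] at h
    have h' : (((∑ g ∈ regSet G p, O.v g * (O.v g - 1)) * p : ℤ) : ℂ) =
        (((Nat.card G : ℤ) - p * (2 * p - 1) * (2 * p - 2) : ℤ) : ℂ) := by
      rw [Int.cast_mul, h]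
      push_cast
      rw [D.card_G]
      ring
    exact_mod_cast h'
  · have h := sum_regSet D.B (Char.IsCharacter.isClassFunction (Char.irr_isCharacter D.B.χ))
      (F₁ := -1) fun y hy hy1 => by rw [D.B.val_χ y hy hy1, D.he]; norm_num
    rw [Finset.sum_congr rfl fun g _ => O.v_spec g, ← Int.cast_sum, h1, O.v_spec 1, O.v_one] at h
    have h' : (((∑ g ∈ regSet G p, O.v g) * 2 * p : ℤ) : ℂ) =
        ((-((Nat.card G : ℤ) * (1 - p)) - 2 * p * (2 * p - 1) : ℤ) : ℂ) := by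
      rw [Int.cast_mul, Int.cast_mul, h]
      push_cast
      rw [D.card_G]
      ring
    exact_mod_cast h'

end Cfsg.Agent.DegreeThreeP
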