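import Cfsg.Agent.Lib.DegreeThreeP.Basic
import Cfsg.Agent.Lib.DegreeThreeP.Blk

/-!
# Simple transitive groups of degree `3p`: the permutation character
-/

set_option autoImplicit false
set_option linter.style.haveILetI false
set_option linter.unusedSectionVars false

namespace Cfsg.Agent.DegreeThreeP

open Cfsg Cfsg.Agent MulAction
open scoped ComplexConjugate Classical

universe u v

variable {G : Type u} [Group G] [Fintype G] [IsSimpleGroup G] {α : Type v} [MulAction G α]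
  [Finite α] [IsPretransitive G α] {p : ℕ} [hp : Fact p.Prime]

variable (hα : Nat.card α = 3 * p) (hp3 : 3 < p) (hnc : ¬ IsMulCommutative G) {P : Sylow p G}
  (hN : Nat.card (Subgroup.normalizer ((P : Subgroup G) : Set G)) = 2 * p)

include hα hp3 hnc hN in
/-- The exceptional characters occur with the same multiplicity. -/
theorem classInner_Y_eq (B : Blk P) {θ θ' : IrrCharacter G} (hθ : θ ∈ B.Y) (hθ' : θ' ∈ B.Y) :
    classInner (fun g : G => (Nat.card (fixedBy α g) : ℂ)) θ.1 =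
      classInner (fun g : G => (Nat.card (fixedBy α g) : ℂ)) θ'.1 := by
  simp only [classInner]
  refine congrArg _ (Finset.sum_congr rfl fun g _ => ?_)
  by_cases hg : IsPRegular p g
  · rw [B.agree hθ hθ' hg]
  · rw [fixedBy_eq_zero_of_not_regular α P hα hp3 hnc hN hg, Nat.cast_zero, zero_mul, zero_mul]

set_option maxHeartbeats 1000000 in
include hα hp3 hnc hN in
/-- The possible shapes of the permutation character. -/
theorem perm_cases (B : Blk P) :
    (∃ θ : IrrCharacter G, Char.degree θ = p - 2) ∨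
    (∃ ψ : IrrCharacter G, B.e = -1 ∧ B.ε = -1 ∧ Char.degree B.χ = 2 * p - 1 ∧
      ψ ≠ Char.trivialChar G ∧ ψ ≠ B.χ ∧ ψ ∉ B.Y ∧ Char.degree ψ = p ∧
      ∀ g : G, (Nat.card (fixedBy α g) : ℂ) = 1 + B.χ.1 g + ψ.1 g) ∨
    (B.e = -1 ∧ B.ε = -1 ∧ Char.degree B.χ = 3 * p - 1 ∧
      ∀ g : G, (Nat.card (fixedBy α g) : ℂ) = 1 + B.χ.1 g) ∨
    (p = 5 ∧ B.e = 1 ∧ Char.degree B.χ = 6 ∧ (∀ θ ∈ B.Y, Char.degree θ = 7) ∧
      ∀ g : G, (Nat.card (fixedBy α g) : ℂ) = 1 + ∑ θ ∈ B.Y, θ.1 g) := by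
  haveI := nonempty_of_card (α := α) hα
  obtain ⟨c, hc, hci⟩ := Char.IsCharacter.exists_decomp (Char.isCharacter_fixedBy (G := G) α)
  have hfix : ∀ g : G, (Nat.card (fixedBy α g) : ℂ) = ∑ χ, (c χ : ℂ) * χ.1 g := fun g => by
    simpa only [Finset.sum_apply, Pi.smul_apply, smul_eq_mul] using congrFun hc g
  set T := Char.trivialChar G with hTdef
  have hcT : c T = 1 := by
    have h1 := hci T
    have h2 : classInner (fun g : G => (Nat.card (fixedBy α g) : ℂ)) T.1 = 1 := by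
      have h3 := Char.classInner_fixedBy_one (G := G) α
      haveI : Subsingleton (Quotient (orbitRel G α)) :=
        (pretransitive_iff_subsingleton_quotient G α).1 inferInstance
      haveI : Nonempty (Quotient (orbitRel G α)) := Nonempty.map (Quotient.mk _) inferInstance
      rw [Nat.card_of_subsingleton (Classical.arbitrary _), Nat.cast_one] at h3
      rw [← h3]
      congr 1
    rw [h2] at h1
    exact_mod_cast h1.symm
  obtain ⟨θ₀, hθ₀⟩ := B.Y_nonempty
  have hcY : ∀ θ ∈ B.Y, c θ = c θ₀ := fun θ hθ => by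
    have h1 := classInner_Y_eq (α := α) hα hp3 hnc hN B hθ hθ₀
    rw [hci θ, hci θ₀] at h1
    exact_mod_cast h1
  set a := c B.χ with ha
  set b := c θ₀ with hb
  -- the value on `P - 1`
  obtain ⟨y, hy, hy1⟩ := B.exists_ne_one
  have hrel : (b : ℤ) * B.ε = 1 + (a : ℤ) * B.e := by
    have h1 := hfix y
    rw [fixedBy_empty (α := α) hα hp3 P hN hy hy1,
      B.sum_irr (f := fun ψ => (c ψ : ℂ) * ψ.1 y) (fun ψ h1 h2 h3 => by
        rw [B.vanish ψ h1 h2 h3 y hy hy1, mul_zero]),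
      Finset.sum_congr (s₁ := B.Y) rfl fun θ hθ => by rw [hcY θ hθ], ← Finset.mul_sum, B.sum_Y y hy hy1,
      ← hTdef, hcT, B.val_χ y hy hy1, hTdef, Char.trivialChar_apply] at h1
    have h2 : (((b : ℤ) * B.ε : ℤ) : ℂ) = ((1 + (a : ℤ) * B.e : ℤ) : ℂ) := by
      push_cast at h1 ⊢
      linear_combination h1
    exact_mod_cast h2
  -- the degree
  set R := Finset.univ.filter (fun ψ : IrrCharacter G => ψ ≠ T ∧ ψ ≠ B.χ ∧ ψ ∉ B.Y) with hR
  have hsplit : ∀ F : IrrCharacter G → ℂ,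
      ∑ ψ, F ψ = F T + F B.χ + ∑ θ ∈ B.Y, F θ + ∑ ψ ∈ R, F ψ := by
    intro F
    have h1 := B.sum_irr (f := fun ψ => if ψ ∈ R then 0 else F ψ) (fun ψ h1 h2 h3 =>
      if_pos (Finset.mem_filter.2 ⟨Finset.mem_univ _, h1, h2, h3⟩))
    rw [← hTdef, if_neg (by simp [hR]), if_neg (by simp [hR]),
      Finset.sum_congr (s₁ := B.Y) rfl fun θ hθ => if_neg (by simp [hR, hθ])] at h1
    rw [← h1, ← Finset.sum_ite_mem_eq R F, ← Finset.sum_add_distrib]
    exact Finset.sum_congr rfl fun ψ _ => by split_ifs <;> simp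
  obtain ⟨f, hf⟩ : ∃ f, f = Char.degree B.χ := ⟨_, rfl⟩
  obtain ⟨g, hg⟩ : ∃ g, g = Char.degree θ₀ := ⟨_, rfl⟩
  obtain ⟨W, hW⟩ : ∃ W, W = ∑ ψ ∈ R, c ψ * Char.degree ψ := ⟨_, rfl⟩
  have hdeg : 3 * p = 1 + a * f + B.t * (b * g) + W := by
    have h1 := hfix 1
    rw [fixedBy_one_eq_univ, Nat.card_coe_set_eq, Set.ncard_univ, hα, hsplit,
      Finset.sum_congr rfl fun θ hθ => show (c θ : ℂ) * θ.1 1 = (b : ℂ) * g by
        rw [hcY θ hθ, Char.apply_one_eq_degree, B.degree_eq hθ hθ₀, ← hg],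
      Finset.sum_const, B.card_Y, hcT, hTdef, Char.trivialChar_apply, Char.apply_one_eq_degree,
      ← hf, nsmul_eq_mul] at h1
    simp only [Char.apply_one_eq_degree] at h1
    rw [hW]
    exact_mod_cast (by push_cast at h1 ⊢; linear_combination h1 :
      ((3 * p : ℕ) : ℂ) = ((1 + a * f + B.t * (b * g) + ∑ ψ ∈ R, c ψ * Char.degree ψ : ℕ) : ℂ))
  have hRdvd : ∀ ψ ∈ R, p ≤ Char.degree ψ ∧ p ∣ Char.degree ψ := fun ψ hψ => by
    obtain ⟨h1, h2, h3⟩ := (Finset.mem_filter.1 hψ).2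
    exact ⟨Nat.le_of_dvd (Char.degree_pos ψ) (B.dvd ψ h1 h2 h3), B.dvd ψ h1 h2 h3⟩
  have hf2 : 2 ≤ f := hf ▸ two_le_degree hnc B.χ_ne
  have hg2 : 2 ≤ g := hg ▸ two_le_degree hnc (fun h => B.triv_notMem (h ▸ hθ₀))
  have hge : B.ε * (g : ℤ) = 1 + B.e * (f : ℤ) := by rw [hg, hf]; exact B.degree_rel hθ₀
  obtain ⟨k, hk⟩ := (hf ▸ B.χ_mod : (f : ℤ) ≡ B.e [ZMOD p]).symm.dvd
  obtain ⟨k', hk'⟩ := (hg ▸ B.Y_mod θ₀ hθ₀ : (g : ℤ) ≡ 2 * B.ε [ZMOD p]).symm.dvd
  have h5 := B.five
  have ht := B.ht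
  have hperm : ∀ g : G, (Nat.card (fixedBy α g) : ℂ) =
      1 + (a : ℂ) * B.χ.1 g + (b : ℂ) * ∑ θ ∈ B.Y, θ.1 g + ∑ ψ ∈ R, (c ψ : ℂ) * ψ.1 g := by
    intro x
    rw [hfix x, hsplit, hcT, hTdef, Char.trivialChar_apply, Nat.cast_one, one_mul, Finset.mul_sum,
      Finset.sum_congr rfl fun θ hθ => show (c θ : ℂ) * θ.1 x = (b : ℂ) * θ.1 x by rw [hcY θ hθ]]
  rcases Nat.eq_zero_or_pos b with hb0 | hb1
  · -- no exceptional constituent
    rw [hb0] at hrel
    have he : B.e = -1 ∧ a = 1 := by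
      rcases B.he with e | e <;> rw [e] at hrel <;> push_cast at hrel <;> constructor <;> omega
    obtain ⟨he, ha1⟩ := he
    have hε : B.ε = -1 := by
      refine B.hε.resolve_left fun e => ?_
      rw [he, e] at hge
      omega
    rw [hb0, ha1] at hdeg
    simp only [zero_mul, mul_zero, add_zero, one_mul] at hdeg
    rw [he, hε] at hge
    rw [he] at hk
    have hW0 : W = 0 → ∀ x : G, (Nat.card (fixedBy α x) : ℂ) = 1 + B.χ.1 x := by
      intro h0 x
      rw [hperm x, ha1, hb0, Nat.cast_one, Nat.cast_zero, one_mul, zero_mul, add_zero,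
        Finset.sum_eq_zero fun ψ hψ => ?_, add_zero]
      rw [hW] at h0
      rcases mul_eq_zero.1 (Finset.sum_eq_zero_iff.1 h0 ψ hψ) with h | h
      · rw [h, Nat.cast_zero, zero_mul]
      · exact absurd h (Char.degree_pos ψ).ne'
    have hpz : (5 : ℤ) ≤ p := by exact_mod_cast h5
    have hk1 : 0 < k := by
      by_contra h
      nlinarith [mul_le_mul_of_nonneg_left (not_lt.1 h) (by omega : (0 : ℤ) ≤ p)]
    have hk3 : k < 4 := by
      by_contra h
      nlinarith [mul_le_mul_of_nonneg_left (not_lt.1 h) (by omega : (0 : ℤ) ≤ p)]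
    interval_cases k
    · refine Or.inl ⟨θ₀, ?_⟩
      rw [← hg]
      omega
    · have hWp : W = p := by omega
      obtain ⟨ψ, hψ, hψc⟩ : ∃ ψ ∈ R, c ψ * Char.degree ψ ≠ 0 :=
        Finset.exists_ne_zero_of_sum_ne_zero (by rw [← hW]; omega)
      have hsum : c ψ * Char.degree ψ + ∑ x ∈ R.erase ψ, c x * Char.degree x = p := by
        rw [Finset.add_sum_erase R (fun x => c x * Char.degree x) hψ, ← hW, hWp]
      obtain ⟨hψp, hψd⟩ := hRdvd ψ hψ
      have hle : Char.degree ψ ≤ c ψ * Char.degree ψ :=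
        Nat.le_mul_of_pos_left _ (Nat.pos_of_ne_zero (left_ne_zero_of_mul hψc))
      have hψdeg : Char.degree ψ = p := by omega
      have hcψ : c ψ = 1 := by
        rw [hψdeg] at hsum hle
        have : c ψ * p = 1 * p := by omega
        exact Nat.eq_of_mul_eq_mul_right hp.out.pos this
      have hrest : ∑ x ∈ R.erase ψ, c x * Char.degree x = 0 := by
        rw [hψdeg, hcψ] at hsum
        omega
      obtain ⟨h1, h2, h3⟩ := (Finset.mem_filter.1 hψ).2
      refine Or.inr (Or.inl ⟨ψ, he, hε, ?_, h1, h2, h3, hψdeg, fun x => ?_⟩)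
      · rw [← hf]
        omega
      rw [hperm x, ha1, hb0, Nat.cast_one, Nat.cast_zero, one_mul, zero_mul, add_zero,
        ← Finset.add_sum_erase _ _ hψ, hcψ, Nat.cast_one, one_mul,
        Finset.sum_eq_zero fun φ hφ => ?_, add_zero]
      rcases mul_eq_zero.1 (Finset.sum_eq_zero_iff.1 hrest φ hφ) with h | h
      · rw [h, Nat.cast_zero, zero_mul]
      · exact absurd h (Char.degree_pos φ).ne'
    · refine Or.inr (Or.inr (Or.inl ⟨he, hε, ?_, hW0 (by omega)⟩))
      rw [← hf]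
      omega
  · -- exceptional constituents
    have htg : B.t * g ≤ B.t * (b * g) := Nat.mul_le_mul_left _ (Nat.le_mul_of_pos_left _ hb1)
    have hg7 : g ≤ 7 := by
      by_contra h
      have h8 : B.t * 8 ≤ B.t * g := Nat.mul_le_mul_left _ (by omega)
      omega
    rcases B.hε with e | e <;> rw [e] at hk' hge hrel
    · have hk0 : 0 ≤ k' := by
        by_contra h
        nlinarith [show (5 : ℤ) ≤ p by exact_mod_cast h5]
      have hk2 : k' < 2 := by
        by_contra h
        nlinarith [show (5 : ℤ) ≤ p by exact_mod_cast h5]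
      interval_cases k'
      · exfalso
        rcases B.he with e' | e' <;> rw [e'] at hge <;> omega
      · refine Or.inr (Or.inr (Or.inr ?_))
        have hp5 : p = 5 := by omega
        have he : B.e = 1 := by
          rcases B.he with e' | e'
          · exact e'
          · rw [e'] at hge; omega
        rw [he] at hge hrel
        have hf6 : f = 6 := by omega
        have hg' : g = 7 := by omega
        have hab : a = 0 ∧ b = 1 ∧ W = 0 := by
          rw [show B.t = 2 by omega, hf6, hg'] at hdeg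
          omega
        obtain ⟨ha0, hb', hW0⟩ := hab
        refine ⟨hp5, he, hf ▸ hf6, fun θ hθ => by rw [B.degree_eq hθ hθ₀, ← hg, hg'], fun x => ?_⟩
        rw [hperm x, ha0, hb', Nat.cast_one, Nat.cast_zero, one_mul, zero_mul, add_zero,
          Finset.sum_eq_zero (s := R) fun φ hφ => ?_, add_zero]
        rw [hW] at hW0
        rcases mul_eq_zero.1 (Finset.sum_eq_zero_iff.1 hW0 φ hφ) with h | h
        · rw [h, Nat.cast_zero, zero_mul]
        · exact absurd h (Char.degree_pos φ).ne'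
    · refine Or.inl ⟨θ₀, ?_⟩
      have hk0 : 0 < k' := by
        by_contra h
        nlinarith [show (5 : ℤ) ≤ p by exact_mod_cast h5]
      have hk2 : k' < 2 := by
        by_contra h
        nlinarith [show (5 : ℤ) ≤ p by exact_mod_cast h5]
      interval_cases k'
      rw [← hg]
      omega

end Cfsg.Agent.DegreeThreeP
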