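import Cfsg.Agent.Lib.CharInt.PermHecke

/-!
# Orbitals and multiplicity-free permutation characters
-/

set_option autoImplicit false
set_option linter.style.haveILetI false
set_option linter.unusedSectionVars false

namespace Cfsg.Agent.DegreeThreeP

open Cfsg Cfsg.Agent MulAction
open scoped ComplexConjugate Classical

universe u v

variable {G : Type u} [Group G] {α : Type v} [MulAction G α] [IsPretransitive G α]

theorem mem_orbital_iff (a b : α) (t : G) (y : α) :
    (t • a, y) ∈ orbit G (a, b) ↔ t⁻¹ • y ∈ orbit (stabilizer G a) b := by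
  constructor
  · rintro ⟨r, hr⟩
    simp only [Prod.smul_mk, Prod.mk.injEq] at hr
    refine ⟨⟨t⁻¹ * r, mem_stabilizer_iff.2 (by rw [mul_smul, hr.1, inv_smul_smul])⟩, ?_⟩
    show (t⁻¹ * r) • b = t⁻¹ • y
    rw [mul_smul, hr.2]
  · rintro ⟨⟨k, hk⟩, hkb⟩
    refine ⟨t * k, ?_⟩
    simp only [Prod.smul_mk, Prod.mk.injEq, mul_smul]
    have hkb' : k • b = t⁻¹ • y := hkb
    exact ⟨by rw [mem_stabilizer_iff.1 hk], by rw [hkb', smul_inv_smul]⟩

theorem mem_orbital_left_iff (a b y : α) :
    (a, y) ∈ orbit G (a, b) ↔ y ∈ orbit (stabilizer G a) b := by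
  simpa using mem_orbital_iff a b (1 : G) y

/-- The neighbourhood of a point in an orbital has the size of the suborbit. -/
theorem card_nbhd (a b x : α) :
    Nat.card {y // (x, y) ∈ orbit G (a, b)} = Nat.card (orbit (stabilizer G a) b) := by
  obtain ⟨t, rfl⟩ := exists_smul_eq G a x
  exact Nat.card_congr ((MulAction.toPerm t⁻¹).subtypeEquiv fun y => mem_orbital_iff a b t y)

/-- The suborbits correspond to the orbitals. -/
theorem card_orbits_prod (a : α) :
    Nat.card (Quotient (orbitRel G (α × α))) =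
      Nat.card (Quotient (orbitRel (stabilizer G a) α)) := by
  refine (Nat.card_congr (Equiv.ofBijective
    (Quotient.lift (fun b => (Quotient.mk'' (a, b) : Quotient (orbitRel G (α × α)))) ?_)
    ⟨?_, ?_⟩)).symm
  · intro b c hbc
    exact Quotient.sound' (orbitRel_apply.2
      ((mem_orbital_left_iff a c b).2 (orbitRel_apply.1 hbc)))
  · intro q q'
    induction q using Quotient.inductionOn' with | h b => ?_
    induction q' using Quotient.inductionOn' with | h c => ?_
    intro h
    exact Quotient.sound' (orbitRel_apply.2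
      ((mem_orbital_left_iff a c b).1 (orbitRel_apply.1 (Quotient.exact' h))))
  · intro q
    induction q using Quotient.inductionOn' with | h x => ?_
    obtain ⟨t, ht⟩ := exists_smul_eq G a x.1
    refine ⟨Quotient.mk'' (t⁻¹ • x.2), Quotient.sound' (orbitRel_apply.2 ⟨t⁻¹, ?_⟩)⟩
    show t⁻¹ • x = (a, t⁻¹ • x.2)
    exact Prod.ext (by rw [Prod.smul_fst, ← ht, inv_smul_smul]) rfl

/-- Two suborbits other than the point itself. -/
theorem suborbit_data [Finite α] (a : α)
    (h : Nat.card (Quotient (orbitRel (stabilizer G a) α)) = 3) :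
    ∃ b c : α, b ≠ a ∧ c ≠ a ∧ c ∉ orbit (stabilizer G a) b ∧
      ∀ y : α, y = a ∨ y ∈ orbit (stabilizer G a) b ∨ y ∈ orbit (stabilizer G a) c := by
  haveI := Fintype.ofFinite (Quotient (orbitRel (stabilizer G a) α))
  rw [Nat.card_eq_fintype_card] at h
  have hone : ∀ y : α, (Quotient.mk'' y : Quotient (orbitRel (stabilizer G a) α)) = Quotient.mk'' a →
      y = a := fun y hy => by
    obtain ⟨⟨k, hk⟩, hky⟩ := orbitRel_apply.1 (Quotient.exact' hy)
    exact hky ▸ mem_stabilizer_iff.1 hk
  have h2 : ((Finset.univ : Finset (Quotient (orbitRel (stabilizer G a) α))).erase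
      (Quotient.mk'' a)).card = 2 := by
    rw [Finset.card_erase_of_mem (Finset.mem_univ _), Finset.card_univ, h]
  obtain ⟨q, r, hqr, he⟩ := Finset.card_eq_two.1 h2
  obtain ⟨b, rfl⟩ := Quotient.exists_rep q
  obtain ⟨c, rfl⟩ := Quotient.exists_rep r
  have hmem : ∀ z, z ∈ ({Quotient.mk _ b, Quotient.mk _ c} :
      Finset (Quotient (orbitRel (stabilizer G a) α))) → z ≠ Quotient.mk'' a := by
    intro z hz
    rw [← he] at hz
    exact (Finset.mem_erase.1 hz).1
  refine ⟨b, c, fun e => hmem (Quotient.mk _ b) (by simp) (by rw [e]),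
    fun e => hmem (Quotient.mk _ c) (by simp) (by rw [e]),
    fun hc => hqr (Quotient.sound' (orbitRel_apply.2 hc)).symm, fun y => ?_⟩
  by_cases hy : y = a
  · exact Or.inl hy
  have hy' : (Quotient.mk'' y : Quotient (orbitRel (stabilizer G a) α)) ∈
      ({Quotient.mk _ b, Quotient.mk _ c} : Finset _) := by
    rw [← he]
    exact Finset.mem_erase.2 ⟨fun e => hy (hone y e), Finset.mem_univ _⟩
  rcases Finset.mem_insert.1 hy' with e | e
  · exact Or.inr (Or.inl (orbitRel_apply.1 (Quotient.exact' e)))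
  · exact Or.inr (Or.inr (orbitRel_apply.1 (Quotient.exact' (Finset.mem_singleton.1 e))))

/-- Inner products with a sum of distinct irreducible characters. -/
theorem classInner_sum_set [Fintype G] (s : Finset (IrrCharacter G)) {F : G → ℂ}
    (hF : ∀ g, F g = ∑ ψ ∈ s, ψ.1 g) (φ : IrrCharacter G) :
    classInner F φ.1 = if φ ∈ s then 1 else 0 := by
  rw [show F = ∑ ψ ∈ s, ψ.1 from funext fun g => by rw [hF g, Finset.sum_apply],
    Char.classInner_sum_left]
  by_cases h : φ ∈ s
  · rw [if_pos h, Finset.sum_eq_single_of_mem φ h fun ψ _ hne =>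
      Char.classInner_irr_of_ne ψ.2 φ.2 fun e => hne (Subtype.ext e), Char.classInner_irr_self φ.2]
  · rw [if_neg h, Finset.sum_eq_zero fun ψ hψ =>
      Char.classInner_irr_of_ne ψ.2 φ.2 fun e => h (by rwa [← Subtype.ext e])]

theorem classInner_sum_set_self [Fintype G] (s : Finset (IrrCharacter G)) {F : G → ℂ}
    (hF : ∀ g, F g = ∑ ψ ∈ s, ψ.1 g) : classInner F F = s.card := by
  rw [Char.IsGeneralizedCharacter.classInner_self_eq_sum
    (m := fun ψ => if ψ ∈ s then (1 : ℤ) else 0) (θ := F)]
  · push_cast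
    rw [Finset.sum_congr rfl fun ψ _ => show (if ψ ∈ s then (1 : ℂ) else 0) ^ 2 =
        if ψ ∈ s then (1 : ℂ) else 0 by split_ifs <;> simp,
      Finset.sum_ite_mem, Finset.univ_inter, Finset.sum_const, nsmul_eq_mul, mul_one]
  · funext g
    simp [hF g, ite_smul, ite_apply, Finset.sum_ite_mem]

end Cfsg.Agent.DegreeThreeP
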