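import Cfsg.Agent.Lib.DegreeThreeP.Decomp
import Cfsg.Agent.Lib.DegreeThreeP.Orbital
import Mathlib.Combinatorics.SimpleGraph.DegreeSum

/-!
# Degree `15`: the permutation character is not `1 + θ + θ'` with `θ(1) = 7`

The suborbits would be self-paired of length 7, and 15 points cannot carry such a graph.
-/

set_option autoImplicit false
set_option linter.style.haveILetI false
set_option linter.unusedSectionVars false

namespace Cfsg.Agent.DegreeThreeP

open Cfsg Cfsg.Agent MulAction
open scoped ComplexConjugate Classical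

universe u v

variable {G : Type u} [Group G] [Fintype G] [IsSimpleGroup G] {α : Type v} [MulAction G α]
  [Finite α] [IsPretransitive G α] {p : ℕ} [hp : Fact p.Prime] {P : Sylow p G}

/-- A symmetric suborbit: the handshake lemma. -/
theorem even_card_mul_subdegree (a b : α) (hab : b ≠ a)
    (hsw : ∀ x y : α, ∃ g : G, g • x = y ∧ g • y = x) :
    Even (Nat.card α * Nat.card (orbit (stabilizer G a) b)) := by
  haveI := Fintype.ofFinite α
  let Γ : SimpleGraph α :=
    { Adj := fun x y => (x, y) ∈ orbit G (a, b)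
      symm := ⟨fun x y hxy => by
        obtain ⟨g, h1, h2⟩ := hsw x y
        obtain ⟨r, hr⟩ := hxy
        refine ⟨g * r, ?_⟩
        show (g * r) • (a, b) = (y, x)
        rw [mul_smul, show r • (a, b) = (x, y) from hr, Prod.smul_mk, h1, h2]⟩
      loopless := ⟨fun x hx => by
        obtain ⟨r, hr⟩ := hx
        simp only [Prod.smul_mk, Prod.mk.injEq] at hr
        exact hab (smul_left_cancel r (hr.2.trans hr.1.symm))⟩ }
  have h1 := Γ.sum_degrees_eq_twice_card_edges
  have h2 : ∀ x : α, Γ.degree x = Nat.card (orbit (stabilizer G a) b) := fun x => by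
    rw [← card_nbhd a b x, ← SimpleGraph.card_neighborSet_eq_degree, ← Nat.card_eq_fintype_card]
    rfl
  rw [Finset.sum_congr rfl fun x _ => h2 x, Finset.sum_const, Finset.card_univ, smul_eq_mul,
    ← Nat.card_eq_fintype_card] at h1
  exact ⟨_, h1.trans (two_mul _)⟩

theorem seven_false (hα : Nat.card α = 3 * p) (B : Blk P) (hp5 : p = 5)
    (hf : Char.degree B.χ = 6) (hg : ∀ θ ∈ B.Y, Char.degree θ = 7)
    (hperm : ∀ g : G, (Nat.card (fixedBy α g) : ℂ) = 1 + ∑ θ ∈ B.Y, θ.1 g) : False := by
  haveI := Fintype.ofFinite α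
  haveI := nonempty_of_card (α := α) hα
  obtain ⟨a⟩ := ‹Nonempty α›
  set s := insert (Char.trivialChar G) B.Y with hs
  have hsum : ∀ g : G, (Nat.card (fixedBy α g) : ℂ) = ∑ ψ ∈ s, ψ.1 g := fun g => by
    rw [hperm g, hs, Finset.sum_insert B.triv_notMem, Char.trivialChar_apply]
  have hmem : ∀ χ : G → ℂ, IsIrrCharacter G χ →
      classInner (fun g : G => (Nat.card (fixedBy α g) : ℂ)) χ ≠ 0 →
      ∃ ψ ∈ s, χ = ψ.1 := fun χ hχ h => by
    rw [classInner_sum_set s hsum ⟨χ, hχ⟩] at h
    exact ⟨⟨χ, hχ⟩, by by_contra hh; exact h (if_neg hh), rfl⟩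
  -- the suborbits are self-paired
  have hχ := B.χ_real fun θ hθ => by rw [hg θ hθ, hf]; norm_num
  have hsw : ∀ x y : α, ∃ g : G, g • x = y ∧ g • y = x := by
    refine CharInt.PermHecke.selfPaired_iff.2 fun χ hχi hne => ?_
    obtain ⟨ψ, hψ, rfl⟩ := hmem χ hχi hne
    refine ⟨by rw [classInner_sum_set s hsum ψ, if_pos hψ], fun g => ?_⟩
    rcases Finset.mem_insert.1 hψ with rfl | hY
    · simp [Char.trivialChar_apply]
    · exact B.Y_real hχ hY g
  -- the suborbits have length 7
  have hdvd : ∀ b : α, b ≠ a → 7 ∣ Nat.card (orbit (stabilizer G a) b) := fun b hb => by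
    refine CharInt.PermHecke.dvd_subdegree 7 (fun χ hχi hne1 hne => ?_) a b hb
    obtain ⟨ψ, hψ, rfl⟩ := hmem χ hχi hne
    rcases Finset.mem_insert.1 hψ with rfl | hY
    · exact absurd (funext fun g => Char.trivialChar_apply g) hne1
    · exact ⟨1, by rw [Char.apply_one_eq_degree, hg ψ hY]; norm_num⟩
  have hrank : Nat.card (Quotient (orbitRel (stabilizer G a) α)) = 3 := by
    rw [← card_orbits_prod a]
    have h1 := Char.classInner_fixedBy_self (G := G) α
    rw [classInner_sum_set_self s hsum] at h1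
    have h2 : s.card = 3 := by
      rw [hs, Finset.card_insert_of_notMem B.triv_notMem, B.card_Y]
      have := B.ht
      omega
    rw [h2] at h1
    exact_mod_cast h1.symm
  obtain ⟨b, c, hb, hc, hcb, hall⟩ := suborbit_data a hrank
  have hd : Disjoint (orbit (stabilizer G a) b) (orbit (stabilizer G a) c) :=
    (orbit.eq_or_disjoint b c).resolve_left fun h => hcb (h ▸ mem_orbit_self c)
  have hle : Nat.card (orbit (stabilizer G a) b) + Nat.card (orbit (stabilizer G a) c) ≤ 14 := by
    have h1 : (orbit (stabilizer G a) b ∪ orbit (stabilizer G a) c) ⊆ {a}ᶜ := by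
      rintro y (⟨⟨k, hk⟩, rfl⟩ | ⟨⟨k, hk⟩, rfl⟩) hy
      · exact hb (smul_left_cancel k ((show k • b = a from hy).trans (mem_stabilizer_iff.1 hk).symm))
      · exact hc (smul_left_cancel k ((show k • c = a from hy).trans (mem_stabilizer_iff.1 hk).symm))
    have h2 := Set.ncard_le_ncard h1
    rw [Set.ncard_union_eq hd, Set.ncard_compl, Set.ncard_singleton, hα, hp5] at h2
    rw [Nat.card_coe_set_eq, Nat.card_coe_set_eq]
    exact h2
  obtain ⟨i, hi⟩ := hdvd b hb
  obtain ⟨j, hj⟩ := hdvd c hc
  have hposb : 0 < Nat.card (orbit (stabilizer G a) b) := by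
    haveI : Nonempty (orbit (stabilizer G a) b) := ⟨⟨b, mem_orbit_self b⟩⟩
    exact Nat.card_pos
  have hposc : 0 < Nat.card (orbit (stabilizer G a) c) := by
    haveI : Nonempty (orbit (stabilizer G a) c) := ⟨⟨c, mem_orbit_self c⟩⟩
    exact Nat.card_pos
  have he := even_card_mul_subdegree (G := G) a b hb hsw
  rw [show Nat.card (orbit (stabilizer G a) b) = 7 by omega, hα, hp5] at he
  exact absurd he (by decide)

end Cfsg.Agent.DegreeThreeP
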