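import Cfsg.Agent.Lib.DegreeThreeP.CaseOne
import Cfsg.Agent.Lib.DegreeThreeP.Seven
import Cfsg.Agent.Lib.DegreeThreeP.CaseTwo
import Cfsg.Agent.Lib.DegreeThreeP.CaseThreeThree
import Cfsg.Agent.Lib.SmallSimple.Order360

/-!
# Simple transitive groups of degree `3p` with `|N(P)| = 2p`: the classification
-/

set_option autoImplicit false
set_option linter.style.haveILetI false
set_option linter.unusedSectionVars false

namespace Cfsg.Agent.DegreeThreeP

open Cfsg Cfsg.Agent MulAction
open scoped Classical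

universe u v

variable {G : Type u} [Group G] [Fintype G] [IsSimpleGroup G] {α : Type v} [MulAction G α]
  [Fintype α] [IsPretransitive G α]

/-- A proper subgroup of a simple group of order 360 has index at least 6. -/
theorem six_le_index (hG : Nat.card G = 360) {K : Subgroup G} (hK : K ≠ ⊤) : 6 ≤ K.index := by
  by_contra hlt
  have hker : (MulAction.toPermHom G (G ⧸ K)).ker = ⊥ := by
    refine (IsSimpleGroup.eq_bot_or_eq_top_of_normal _ inferInstance).resolve_right fun h => hK ?_
    rw [eq_top_iff]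
    intro g _
    have hg : MulAction.toPermHom G (G ⧸ K) g = 1 :=
      MonoidHom.mem_ker.1 (h ▸ Subgroup.mem_top g)
    have h1 : g • (((1 : G)) : G ⧸ K) = ((1 : G) : G ⧸ K) :=
      Equiv.ext_iff.1 hg ((1 : G) : G ⧸ K)
    rw [MulAction.Quotient.smul_coe, smul_eq_mul, mul_one] at h1
    simpa using QuotientGroup.eq.1 h1
  have h := Nat.card_le_card_of_injective _ ((MonoidHom.ker_eq_bot_iff _).1 hker)
  rw [hG, Nat.card_perm, ← Subgroup.index_eq_card] at h
  have := (Nat.factorial_le (show K.index ≤ 5 by omega)).trans_eq (show Nat.factorial 5 = 120 by rfl)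
  omega

/-- A simple group of order 360 acts primitively on 15 points. -/
theorem preprimitive_of_card (hG : Nat.card G = 360) (hα : Nat.card α = 15) :
    IsPreprimitive G α := by
  haveI : Nonempty α := (Nat.card_pos_iff.1 (by omega)).1
  haveI : Nontrivial α := Finite.one_lt_card_iff_nontrivial.1 (by omega)
  obtain ⟨a⟩ := ‹Nonempty α›
  refine (isCoatom_stabilizer_iff_preprimitive G a).1 ⟨fun h => ?_, fun K hK => ?_⟩
  · have := index_stabilizer_of_transitive G a
    rw [h, Subgroup.index_top, hα] at this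
    omega
  · by_contra htop
    have h6 := six_le_index hG htop
    have hidx := Subgroup.relIndex_mul_index hK.le
    rw [index_stabilizer_of_transitive G a, hα] at hidx
    have hd : K.index ∣ 15 := ⟨_, by rw [← hidx, mul_comm]⟩
    have hne : K.index ≠ 15 := by
      intro h
      rw [h] at hidx
      have h1 : (stabilizer G a).relIndex K = 1 :=
        Nat.eq_of_mul_eq_mul_right (show 0 < 15 by norm_num) (by rw [one_mul]; exact hidx)
      exact hK.not_ge (Subgroup.relIndex_eq_one.1 h1)
    have := Nat.le_of_dvd (by norm_num) hd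
    interval_cases h : K.index <;> omega

/-- The classification. -/
theorem main {p : ℕ} [hp : Fact p.Prime] [FaithfulSMul G α] (hnc : ¬ IsMulCommutative G)
    (hp3 : 3 < p) (hα : Nat.card α = 3 * p) (P : Sylow p G)
    (hN : Nat.card (Subgroup.normalizer ((P : Subgroup G) : Set G)) = 2 * p) :
    (IsPreprimitive G α → p = 5 ∧ Nonempty (G ≃* ↥(alternatingGroup (Fin 6)))) ∧
      (¬ IsPreprimitive G α → ∃ (F : Type) (_ : Field F) (_ : Fintype F) (m : ℕ),
        Fintype.card F = 2 ^ m ∧ p = 2 ^ m + 1 ∧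
        Nonempty (G ≃* Matrix.ProjectiveSpecialLinearGroup (Fin 2) F)) := by
  have hfree : ∀ y ∈ (P : Subgroup G), y ≠ 1 → Nat.card (fixedBy α y) = 0 := fun y hy hy1 =>
    fixedBy_empty (α := α) hα hp3 P hN hy hy1
  obtain ⟨-, hidx⟩ := relIndex_eq_two_aux (α := α) hα hp3 hnc P hN
  obtain ⟨B⟩ := exists_blk (selfCent (α := α) hα hp3 hnc P hN) (five_le hp3) hidx
  rcases perm_cases (α := α) hα hp3 hnc hN B with ⟨θ, hθ⟩ | ⟨ψ, he, hε, hdeg, h1, h2, h3, hψ, hperm⟩ |
      ⟨he, hε, hdeg, hperm⟩ | ⟨hp5, -, hf, hg, hperm⟩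
  · obtain ⟨hnp, hiso⟩ := case_p_sub_two (α := α) hα hp3 hnc P hN θ hθ
    exact ⟨fun h => absurd h hnp, fun _ => hiso⟩
  · obtain ⟨hp5, hG⟩ := Two.card_eq (α := α)
      (⟨B, ψ, he, hε, hdeg, h1, h2, h3, hψ, hα, hperm, hfree, hN⟩ : Two P α)
    exact ⟨fun _ => ⟨hp5, SmallSimple.iso_alternating_six hG⟩,
      fun h => absurd (preprimitive_of_card hG (by rw [hα, hp5])) h⟩
  · exfalso
    set D : Three P α := ⟨B, he, hε, hdeg, hα, hperm, hfree, hN⟩ with hD
    obtain ⟨I⟩ := D.exists_inv hnc
    have h1 := I.not_one_mod_four D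
    have h3 := I.not_three_mod_four D
    obtain ⟨k, hk⟩ := hp.out.odd_of_ne_two (by omega)
    omega
  · exact absurd (seven_false (α := α) hα B hp5 hf hg hperm) id

end Cfsg.Agent.DegreeThreeP
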